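import Mathlib
import Cfsg.Agent.Lib.Orth.Omega
import Cfsg.Agent.Lib.Orth.Siegel

/-!
Orthogonal frames in odd characteristic: changes of frame inside a block, products of the reflections of a
block, and fixed-space dimensions of sign maps.
-/

set_option autoImplicit false
set_option linter.unusedSectionVars false

namespace CfsgLib.TensorOdd

open Matrix QuadraticMap CfsgLib.Orth

variable {ι : Type} [Fintype ι] [DecidableEq ι] {F : Type*} [Field F] {Q : QuadraticForm F (ι → F)}
variable {κ : Type} [Fintype κ] [DecidableEq κ]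

/-- An orthogonal family of anisotropic vectors of full size. -/
structure IsFrame (Q : QuadraticForm F (ι → F)) (v : κ → ι → F) : Prop where
  card : Fintype.card κ = Fintype.card ι
  orth : ∀ i j, i ≠ j → polar Q (v i) (v j) = 0
  nz : ∀ i, Q (v i) ≠ 0
  two : (2 : F) ≠ 0

namespace IsFrame

variable {v : κ → ι → F} (hv : IsFrame Q v)
include hv

theorem polar_self_ne (i : κ) : polar Q (v i) (v i) ≠ 0 := by
  rw [polar_self']; exact mul_ne_zero hv.two (hv.nz i)

theorem polar_sum (c : κ → F) (j : κ) : polar Q (∑ i, c i • v i) (v j) = c j * (2 * Q (v j)) := by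
  rw [← polarBilin_apply_apply, map_sum, LinearMap.sum_apply, Finset.sum_eq_single j]
  · rw [map_smul, LinearMap.smul_apply, polarBilin_apply_apply, polar_self', smul_eq_mul]
  · intro i _ hij
    rw [map_smul, LinearMap.smul_apply, polarBilin_apply_apply, hv.orth i j hij, smul_zero]
  · exact fun h => absurd (Finset.mem_univ j) h

theorem li : LinearIndependent F v := by
  rw [Fintype.linearIndependent_iff]
  intro c hc j
  have h := hv.polar_sum c j
  rw [hc, polar_zero_left] at h
  exact (mul_eq_zero.1 h.symm).resolve_right (mul_ne_zero hv.two (hv.nz j))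

theorem span_top : Submodule.span F (Set.range v) = ⊤ :=
  hv.li.span_eq_top_of_card_eq_finrank' (by rw [hv.card, Module.finrank_fintype_fun_eq_card])

/-- The basis of a frame. -/
noncomputable def basis : Module.Basis κ F (ι → F) := Module.Basis.mk hv.li hv.span_top.ge

theorem basis_apply (i : κ) : hv.basis i = v i := Module.Basis.mk_apply _ _ _

theorem ext_vec {x y : ι → F} (h : ∀ i, polar Q x (v i) = polar Q y (v i)) : x = y := by
  have e : x - y = ∑ i, hv.basis.repr (x - y) i • v i := by
    conv_lhs => rw [← hv.basis.sum_repr (x - y)]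
    exact Finset.sum_congr rfl fun i _ => by rw [hv.basis_apply]
  rw [← sub_eq_zero, e]
  refine Finset.sum_eq_zero fun i _ => ?_
  have h1 := hv.polar_sum (fun i => hv.basis.repr (x - y) i) i
  rw [← e, polar_sub_left, h i, sub_self] at h1
  rw [(mul_eq_zero.1 h1.symm).resolve_right (mul_ne_zero hv.two (hv.nz i)), zero_smul]

theorem ext_lin {M : Type*} [AddCommGroup M] [Module F M] {f g : (ι → F) →ₗ[F] M}
    (h : ∀ i, f (v i) = g (v i)) : f = g :=
  hv.basis.ext fun i => by rw [hv.basis_apply]; exact h i

theorem ext_O {g g' : O Q} (h : ∀ i, app g (v i) = app g' (v i)) : g = g' :=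
  ext_app fun x => by rw [hv.ext_lin (f := app g) (g := app g') h]

theorem eq_sum (x : ι → F) : x = ∑ i, (polar Q x (v i) / (2 * Q (v i))) • v i :=
  hv.ext_vec fun j => by
    rw [hv.polar_sum, div_mul_cancel₀ _ (mul_ne_zero hv.two (hv.nz j))]

end IsFrame

/-- `x` lies in the block `S` of the frame `v`. -/
def InBlock (Q : QuadraticForm F (ι → F)) (v : κ → ι → F) (S : Finset κ) (x : ι → F) : Prop :=
  ∀ j, j ∉ S → polar Q x (v j) = 0

theorem InBlock.mono {v : κ → ι → F} {S T : Finset κ} (h : S ⊆ T) {x : ι → F} (hx : InBlock Q v S x) :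
    InBlock Q v T x := fun j hj => hx j fun h' => hj (h h')

theorem InBlock.add {v : κ → ι → F} {S : Finset κ} {x y : ι → F} (hx : InBlock Q v S x)
    (hy : InBlock Q v S y) : InBlock Q v S (x + y) := fun j hj => by
  rw [polar_add_left, hx j hj, hy j hj, add_zero]

theorem InBlock.smul {v : κ → ι → F} {S : Finset κ} {x : ι → F} (hx : InBlock Q v S x) (t : F) :
    InBlock Q v S (t • x) := fun j hj => by rw [polar_smul_left, hx j hj, smul_zero]

theorem InBlock.vec {v : κ → ι → F} (hv : IsFrame Q v) {S : Finset κ} {i : κ} (hi : i ∈ S) :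
    InBlock Q v S (v i) := fun j hj => hv.orth i j fun h => hj (h ▸ hi)

theorem InBlock.eq_sum {v : κ → ι → F} (hv : IsFrame Q v) {S : Finset κ} {x : ι → F} (hx : InBlock Q v S x) :
    x = ∑ i ∈ S, (polar Q x (v i) / (2 * Q (v i))) • v i := by
  conv_lhs => rw [hv.eq_sum x]
  refine (Finset.sum_subset (Finset.subset_univ S) fun j _ hj => ?_).symm
  rw [hx j hj, zero_div, zero_smul]

/-- `v'` is a frame which agrees with `v` outside `S`. -/
def Refr (Q : QuadraticForm F (ι → F)) (v v' : κ → ι → F) (S : Finset κ) : Prop :=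
  IsFrame Q v' ∧ (∀ j, j ∉ S → v' j = v j) ∧ ∀ i ∈ S, InBlock Q v S (v' i)

theorem Refr.refl' {v : κ → ι → F} (hv : IsFrame Q v) (S : Finset κ) : Refr Q v v S :=
  ⟨hv, fun _ _ => rfl, fun _ hi => InBlock.vec hv hi⟩

theorem Refr.inBlock_iff {v v' : κ → ι → F} {S T : Finset κ} (h : Refr Q v v' S) (hST : S ⊆ T) (x : ι → F) :
    InBlock Q v' T x ↔ InBlock Q v T x := by
  refine forall₂_congr fun j hj => ?_
  rw [h.2.1 j fun hjS => hj (hST hjS)]

theorem Refr.trans {v v' v'' : κ → ι → F} {S T : Finset κ} (h : Refr Q v v' T) (h' : Refr Q v' v'' S)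
    (hST : S ⊆ T) : Refr Q v v'' T := by
  refine ⟨h'.1, fun j hj => by rw [h'.2.1 j fun hjS => hj (hST hjS), h.2.1 j hj], fun i hi => ?_⟩
  rw [← h.inBlock_iff subset_rfl]
  by_cases hiS : i ∈ S
  · exact (h'.2.2 i hiS).mono hST
  · rw [h'.2.1 i hiS]
    exact InBlock.vec h.1 hi

/-- Rotating two members of a frame. -/
theorem refr_two {v : κ → ι → F} (hv : IsFrame Q v) {S : Finset κ} {i k : κ} (hi : i ∈ S) (hk : k ∈ S)
    (hik : i ≠ k) {s t : F} (hq : Q (s • v i + t • v k) ≠ 0) :
    ∃ v', Refr Q v v' S ∧ v' i = s • v i + t • v k ∧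
      v' k = (-(Q (v k) * t)) • v i + (Q (v i) * s) • v k ∧ ∀ j, j ≠ i → j ≠ k → v' j = v j := by
  set p := s • v i + t • v k with hp
  set p' := (-(Q (v k) * t)) • v i + (Q (v i) * s) • v k with hp'
  let v' := Function.update (Function.update v i p) k p'
  have e1 : v' i = p := by simp [v', hik]
  have e2 : v' k = p' := by simp [v']
  have e3 : ∀ j, j ≠ i → j ≠ k → v' j = v j := fun j h1 h2 => by simp [v', h1, h2]
  have hki : polar Q (v k) (v i) = 0 := hv.orth k i hik.symm
  have hpq : Q p = s ^ 2 * Q (v i) + t ^ 2 * Q (v k) := by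
    simp only [hp, QuadraticMap.map_add ⇑Q, QuadraticMap.map_smul, polar_smul_left, polar_smul_right,
      hv.orth i k hik, smul_eq_mul]
    ring
  have hp'q : Q p' = Q (v i) * Q (v k) * Q p := by
    rw [hpq]
    simp only [hp', QuadraticMap.map_add ⇑Q, QuadraticMap.map_smul, polar_smul_left, polar_smul_right,
      hv.orth i k hik, smul_eq_mul]
    ring
  have hpp : polar Q p p' = 0 := by
    simp only [hp, hp', polar_add_left, polar_add_right, polar_smul_left, polar_smul_right,
      hv.orth i k hik, hki, polar_self', smul_eq_mul]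
    ring
  have hblk : ∀ x : ι → F, (∃ c d : F, x = c • v i + d • v k) → ∀ j, j ≠ i → j ≠ k → polar Q x (v j) = 0 := by
    rintro x ⟨c, d, rfl⟩ j h1 h2
    rw [polar_add_left, polar_smul_left, polar_smul_left, hv.orth i j (Ne.symm h1), hv.orth k j (Ne.symm h2),
      smul_zero, smul_zero, add_zero]
  refine ⟨v', ⟨⟨hv.card, ?_, ?_, hv.two⟩, ?_, ?_⟩, e1, e2, e3⟩
  · intro a b hab
    by_cases ha1 : a = i
    · subst ha1; rw [e1]
      by_cases hb2 : b = k
      · subst hb2; rw [e2]; exact hpp
      · rw [e3 b (Ne.symm hab) hb2]; exact hblk p ⟨s, t, rfl⟩ b (Ne.symm hab) hb2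
    by_cases ha2 : a = k
    · subst ha2; rw [e2]
      by_cases hb1 : b = i
      · subst hb1; rw [e1, polar_comm]; exact hpp
      · rw [e3 b hb1 (Ne.symm hab)]; exact hblk p' ⟨_, _, rfl⟩ b hb1 (Ne.symm hab)
    rw [e3 a ha1 ha2]
    by_cases hb1 : b = i
    · subst hb1; rw [e1, polar_comm]; exact hblk p ⟨s, t, rfl⟩ a ha1 ha2
    by_cases hb2 : b = k
    · subst hb2; rw [e2, polar_comm]; exact hblk p' ⟨_, _, rfl⟩ a ha1 ha2
    rw [e3 b hb1 hb2]; exact hv.orth a b hab
  · intro a
    by_cases ha1 : a = i
    · subst ha1; rw [e1]; exact hq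
    by_cases ha2 : a = k
    · subst ha2; rw [e2, hp'q]; exact mul_ne_zero (mul_ne_zero (hv.nz i) (hv.nz _)) hq
    rw [e3 a ha1 ha2]; exact hv.nz a
  · exact fun j hj => e3 j (fun h => hj (h ▸ hi)) (fun h => hj (h ▸ hk))
  · intro a ha
    by_cases ha1 : a = i
    · subst ha1; rw [e1]; exact ((InBlock.vec hv hi).smul s).add ((InBlock.vec hv hk).smul t)
    by_cases ha2 : a = k
    · subst ha2; rw [e2]; exact ((InBlock.vec hv hi).smul _).add ((InBlock.vec hv hk).smul _)
    rw [e3 a ha1 ha2]; exact InBlock.vec hv ha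

/-- A frame with a given anisotropic member of a block. -/
theorem refr_vec {v : κ → ι → F} (hv : IsFrame Q v) (S : Finset κ) {y : ι → F} (hy : InBlock Q v S y)
    (hq : Q y ≠ 0) : ∃ v' i, i ∈ S ∧ v' i = y ∧ Refr Q v v' S := by
  classical
  suffices H : ∀ n (v : κ → ι → F), IsFrame Q v → InBlock Q v S y →
      (S.filter fun i => polar Q y (v i) ≠ 0).card ≤ n → ∃ v' i, i ∈ S ∧ v' i = y ∧ Refr Q v v' S from
    H _ v hv hy le_rfl
  intro n
  induction n with
  | zero =>
    intro v hv hy hn
    refine absurd ?_ hq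
    rw [hy.eq_sum hv, Finset.sum_eq_zero, QuadraticMap.map_zero]
    intro i hi
    have h0 : polar Q y (v i) = 0 := by
      by_contra h
      have : i ∈ S.filter fun i => polar Q y (v i) ≠ 0 := Finset.mem_filter.2 ⟨hi, h⟩
      have := Finset.card_pos.2 ⟨i, this⟩
      omega
    rw [h0, zero_div, zero_smul]
  | succ n ih =>
    intro v hv hy hn
    set T := S.filter fun i => polar Q y (v i) ≠ 0
    have hys : y = ∑ i ∈ T, (polar Q y (v i) / (2 * Q (v i))) • v i := by
      conv_lhs => rw [hy.eq_sum hv]
      refine (Finset.sum_subset (Finset.filter_subset _ _) fun j hj hjT => ?_).symm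
      have : polar Q y (v j) = 0 := by
        by_contra h; exact hjT (Finset.mem_filter.2 ⟨hj, h⟩)
      rw [this, zero_div, zero_smul]
    by_cases h1 : T.card ≤ 1
    · obtain ⟨i, hi⟩ : ∃ i, T ⊆ {i} := by
        rcases Nat.le_one_iff_eq_zero_or_eq_one.1 h1 with h | h
        · exact absurd (by rw [hys, Finset.card_eq_zero.1 h]; simp) hq
        · obtain ⟨i, hi⟩ := Finset.card_eq_one.1 h
          exact ⟨i, hi.le⟩
      have hTi : T = {i} := by
        refine Finset.Subset.antisymm hi (Finset.singleton_subset_iff.2 ?_)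
        rcases Finset.subset_singleton_iff.1 hi with h | h
        · exact absurd (by rw [hys, h]; simp) hq
        · rw [h]; exact Finset.mem_singleton_self i
      have hiS : i ∈ S := (Finset.filter_subset _ _) (by rw [show T = {i} from hTi]; simp : i ∈ T)
      rw [hTi, Finset.sum_singleton] at hys
      set c := polar Q y (v i) / (2 * Q (v i))
      have hc : c ≠ 0 := fun h => hq (by rw [hys, h, zero_smul, QuadraticMap.map_zero])
      refine ⟨Function.update v i y, i, hiS, by simp, ⟨hv.card, ?_, ?_, hv.two⟩, ?_, ?_⟩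
      · intro a b hab
        by_cases ha : a = i
        · subst ha; simp only [Function.update_self, Function.update_of_ne (Ne.symm hab)]
          rw [hys, polar_smul_left, hv.orth _ b hab, smul_zero]
        by_cases hb : b = i
        · subst hb; simp only [Function.update_self, Function.update_of_ne ha]
          rw [hys, polar_smul_right, hv.orth a _ hab, smul_zero]
        simp only [Function.update_of_ne ha, Function.update_of_ne hb]
        exact hv.orth a b hab
      · intro a
        by_cases ha : a = i
        · subst ha; simp only [Function.update_self]; exact hq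
        · simp only [Function.update_of_ne ha]; exact hv.nz a
      · intro j hj
        have : j ≠ i := by rintro rfl; exact hj hiS
        exact Function.update_of_ne this _ _
      · intro a ha
        by_cases h : a = i
        · subst h; simp only [Function.update_self]; exact hy
        · simp only [Function.update_of_ne h]; exact InBlock.vec hv ha
    push Not at h1
    -- two members whose combination is anisotropic
    set c := fun i => polar Q y (v i) / (2 * Q (v i)) with hcdef
    obtain ⟨i, hi, k, hk, hik, hp⟩ : ∃ i ∈ T, ∃ k ∈ T, i ≠ k ∧ Q (c i • v i + c k • v k) ≠ 0 := by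
      by_contra hno
      push Not at hno
      have hQp : ∀ i ∈ T, ∀ k ∈ T, i ≠ k → c i ^ 2 * Q (v i) + c k ^ 2 * Q (v k) = 0 := by
        intro i hi k hk hik
        have h := hno i hi k hk hik
        simp only [QuadraticMap.map_add ⇑Q, QuadraticMap.map_smul, polar_smul_left, polar_smul_right,
          hv.orth i k hik, smul_eq_mul] at h
        linear_combination h
      obtain ⟨i, hi, k, hk, hik⟩ := Finset.one_lt_card.1 h1
      by_cases h3 : ∃ l ∈ T, l ≠ i ∧ l ≠ k
      · obtain ⟨l, hl, hli, hlk⟩ := h3
        have e1 := hQp i hi k hk hik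
        have e2 := hQp i hi l hl hli.symm
        have e3 := hQp k hk l hl hlk.symm
        have h0 : 2 * (c i ^ 2 * Q (v i)) = 0 := by linear_combination e1 + e2 - e3
        have hci : polar Q y (v i) ≠ 0 := (Finset.mem_filter.1 hi).2
        simp [hv.two, hv.nz i, c, hci] at h0
      · push Not at h3
        have hT : T = {i, k} := by
          ext l
          simp only [Finset.mem_insert, Finset.mem_singleton]
          exact ⟨fun hl => or_iff_not_imp_left.2 (h3 l hl), fun hl => by rcases hl with rfl | rfl <;> assumption⟩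
        apply hq
        rw [hys, hT, Finset.sum_pair hik]
        exact hno i hi k hk hik
    have hiS : i ∈ S := (Finset.filter_subset _ _) hi
    have hkS : k ∈ S := (Finset.filter_subset _ _) hk
    obtain ⟨v', hR, -, hvk, hvo⟩ := refr_two hv hiS hkS hik hp
    have hy' : InBlock Q v' S y := (hR.inBlock_iff subset_rfl y).2 hy
    obtain ⟨v'', j, hj, hjy, hR'⟩ := ih v' hR.1 hy' (by
      have hsub : (S.filter fun l => polar Q y (v' l) ≠ 0) ⊆ T.erase k := by
        intro l hl
        obtain ⟨hlS, hl⟩ := Finset.mem_filter.1 hl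
        refine Finset.mem_erase.2 ⟨?_, ?_⟩
        · rintro rfl
          apply hl
          rw [hvk, polar_add_right, polar_smul_right, polar_smul_right, smul_eq_mul, smul_eq_mul]
          simp only [hcdef]
          have := hv.nz i
          have := hv.nz l
          have := hv.two
          field_simp
          ring
        · by_contra hlT
          apply hl
          have hli : l ≠ i := fun h => hlT (h ▸ hi)
          have hlk : l ≠ k := fun h => hlT (h ▸ hk)
          rw [hvo l hli hlk]
          by_contra h
          exact hlT (Finset.mem_filter.2 ⟨hlS, h⟩)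
      have := Finset.card_le_card hsub
      rw [Finset.card_erase_of_mem hk] at this
      omega)
    exact ⟨v'', j, hj, hjy, hR.trans hR' subset_rfl⟩

/-- Every non-zero value occurs in a block with two members. -/
theorem exists_value_block [Fintype F] {v : κ → ι → F} (hv : IsFrame Q v)
    {S : Finset κ} (hS : 2 ≤ S.card) (c : F) : ∃ y, InBlock Q v S y ∧ Q y = c := by
  obtain ⟨i, hi, k, hk, hik⟩ := Finset.one_lt_card.1 (show 1 < S.card by omega)
  obtain ⟨s, t, h⟩ := CfsgLib.Orth.exists_binary hv.two (hv.nz i) (hv.nz k) c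
  refine ⟨s • v i + t • v k, ((InBlock.vec hv hi).smul s).add ((InBlock.vec hv hk).smul t), ?_⟩
  simp only [QuadraticMap.map_add ⇑Q, QuadraticMap.map_smul, polar_smul_left, polar_smul_right,
    hv.orth i k hik, smul_eq_mul]
  linear_combination h

/-- A frame in which a given value occurs in a block. -/
theorem refr_value [Fintype F] {v : κ → ι → F} (hv : IsFrame Q v)
    {S : Finset κ} (hS : 2 ≤ S.card) {c : F} (hc : c ≠ 0) :
    ∃ v' i, i ∈ S ∧ Q (v' i) = c ∧ Refr Q v v' S := by
  obtain ⟨y, hy, hyc⟩ := exists_value_block hv hS c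
  obtain ⟨v', i, hi, hiy, hR⟩ := refr_vec hv S hy (hyc ▸ hc)
  exact ⟨v', i, hi, hiy ▸ hyc, hR⟩

/-- The product of the reflections of the members of a list. -/
noncomputable def reflList (Q : QuadraticForm F (ι → F)) (l : List (ι → F)) : O Q := (l.map (refl Q)).prod

theorem reflList_fix {l : List (ι → F)} {x : ι → F} (h : ∀ z ∈ l, polar Q x z = 0) :
    app (reflList Q l) x = x := by
  induction l with
  | nil => simp [reflList]
  | cons z l ih =>
    simp only [reflList, List.map_cons, List.prod_cons, app_mul] at ih ⊢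
    rw [ih fun w hw => h w (List.mem_cons_of_mem _ hw), app_refl_of_ortho (h z List.mem_cons_self)]

theorem reflList_neg {w : κ → ι → F} (horth : ∀ i j, i ≠ j → polar Q (w i) (w j) = 0) (hnz : ∀ i, Q (w i) ≠ 0)
    {l : List κ} (hl : l.Nodup) {i : κ} (hi : i ∈ l) : app (reflList Q (l.map w)) (w i) = -w i := by
  induction l with
  | nil => simp at hi
  | cons j l ih =>
    rw [List.nodup_cons] at hl
    simp only [reflList, List.map_cons, List.prod_cons, app_mul]
    rw [← reflList]
    rcases List.mem_cons.1 hi with rfl | hi'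
    · rw [reflList_fix fun z hz => by
        obtain ⟨m, hm, rfl⟩ := List.mem_map.1 hz
        exact horth i m fun h => hl.1 (h ▸ hm), app_refl_self (hnz i)]
    · rw [ih hl.2 hi', map_neg, app_refl_of_ortho (horth i j fun h => hl.1 (h ▸ hi'))]

theorem reflList_conj (g : O Q) (l : List (ι → F)) :
    g * reflList Q l * g⁻¹ = reflList Q (l.map (app g)) := by
  induction l with
  | nil => simp [reflList]
  | cons z l ih =>
    simp only [reflList, List.map_cons, List.prod_cons] at ih ⊢
    rw [← ih, ← refl_conj]
    group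

/-- The product of the reflections in the members of the block `S`. -/
noncomputable def blockSign (Q : QuadraticForm F (ι → F)) (v : κ → ι → F) (S : Finset κ) : O Q :=
  reflList Q (S.toList.map v)

theorem blockSign_app {v : κ → ι → F} (hv : IsFrame Q v) (S : Finset κ) (i : κ) :
    app (blockSign Q v S) (v i) = if i ∈ S then -v i else v i := by
  split_ifs with h
  · exact reflList_neg hv.orth hv.nz (Finset.nodup_toList S) (Finset.mem_toList.2 h)
  · refine reflList_fix fun z hz => ?_
    obtain ⟨j, hj, rfl⟩ := List.mem_map.1 hz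
    exact hv.orth i j fun e => h (e ▸ Finset.mem_toList.1 hj)

theorem blockSign_single {v : κ → ι → F} (i : κ) : blockSign Q v {i} = refl Q (v i) := by
  simp [blockSign, reflList]

theorem blockSign_union {v : κ → ι → F} (hv : IsFrame Q v) {S T : Finset κ} (h : Disjoint S T) :
    blockSign Q v (S ∪ T) = blockSign Q v S * blockSign Q v T := by
  refine hv.ext_O fun i => ?_
  rw [app_mul, blockSign_app hv, blockSign_app hv T]
  by_cases hT : i ∈ T
  · have hS : i ∉ S := fun hS => Finset.disjoint_left.1 h hS hT
    rw [if_pos hT, map_neg, blockSign_app hv, if_neg hS, if_pos (Finset.mem_union_right S hT)]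
  · rw [if_neg hT, blockSign_app hv]
    by_cases hS : i ∈ S <;> simp [hS, hT]

theorem blockSign_refr {v v' : κ → ι → F} (hv : IsFrame Q v) {S : Finset κ} (h : Refr Q v v' S) :
    blockSign Q v' S = blockSign Q v S := by
  refine h.1.ext_O fun i => ?_
  rw [blockSign_app h.1]
  split_ifs with hi
  · conv_rhs => rw [(h.2.2 i hi).eq_sum hv, map_sum]
    conv_lhs => rw [(h.2.2 i hi).eq_sum hv, ← Finset.sum_neg_distrib]
    refine Finset.sum_congr rfl fun j hj => ?_
    rw [map_smul, blockSign_app hv, if_pos hj, smul_neg]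
  · rw [h.2.1 i hi, blockSign_app hv, if_neg hi]

theorem blockSign_mul_self {v : κ → ι → F} (hv : IsFrame Q v) (S : Finset κ) :
    blockSign Q v S * blockSign Q v S = 1 := by
  refine hv.ext_O fun i => ?_
  rw [app_mul, blockSign_app hv, app_one]
  split_ifs with h
  · rw [map_neg, blockSign_app hv, if_pos h, neg_neg]
  · rw [blockSign_app hv, if_neg h]

/-- The number of fixed basis vectors of a sign map is the dimension of its fixed space. -/
theorem finrank_fixS_of_signs (h2 : (2 : F) ≠ 0) (b : Module.Basis κ F (ι → F)) {g : O Q} (P : κ → Prop)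
    [DecidablePred P] (hP : ∀ i, P i → app g (b i) = b i) (hN : ∀ i, ¬ P i → app g (b i) = -b i) :
    Module.finrank F (fixS g) = (Finset.univ.filter P).card := by
  have hspan : fixS g = Submodule.span F (Set.range fun i : {i // P i} => b i) := by
    refine le_antisymm (fun x hx => ?_) (Submodule.span_le.2 ?_)
    · rw [mem_fixS] at hx
      rw [← b.sum_repr x]
      refine Submodule.sum_mem _ fun i _ => ?_
      by_cases hi : P i
      · exact Submodule.smul_mem _ _ (Submodule.subset_span ⟨⟨i, hi⟩, rfl⟩)
      · have h : b.repr (app g x) i = -(b.repr x i) := by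
          conv_lhs => rw [← b.sum_repr x]
          rw [map_sum, map_sum, Finsupp.finsetSum_apply, Finset.sum_eq_single i]
          · rw [map_smul, hN i hi, smul_neg, map_neg, map_smul, Finsupp.neg_apply, Finsupp.smul_apply,
              b.repr_self, Finsupp.single_eq_same, smul_eq_mul, mul_one]
          · intro j _ hji
            rw [map_smul]
            by_cases hj : P j
            · rw [hP j hj, map_smul, Finsupp.smul_apply, b.repr_self, Finsupp.single_eq_of_ne hji.symm, smul_zero]
            · rw [hN j hj, smul_neg, map_neg, map_smul, Finsupp.neg_apply, Finsupp.smul_apply, b.repr_self,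
                Finsupp.single_eq_of_ne hji.symm, smul_zero, neg_zero]
          · exact fun h => absurd (Finset.mem_univ i) h
        rw [hx] at h
        have h0 : 2 * b.repr x i = 0 := by linear_combination h
        rw [(mul_eq_zero.1 h0).resolve_left h2, zero_smul]
        exact zero_mem _
    · rintro _ ⟨i, rfl⟩
      exact mem_fixS.2 (hP i i.2)
  rw [hspan]
  refine (finrank_span_eq_card (b.linearIndependent.comp _ Subtype.val_injective)).trans ?_
  rw [Fintype.card_subtype]

theorem finrank_fixS_conj (h g : O Q) :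
    Module.finrank F (fixS (h * g * h⁻¹)) = Module.finrank F (fixS g) := by
  have : fixS (h * g * h⁻¹) = (fixS g).map (app h) := by
    ext x
    constructor
    · intro hx
      rw [mem_fixS, app_mul, app_mul] at hx
      refine ⟨app h⁻¹ x, mem_fixS.2 ?_, app_app_inv h x⟩
      have := congrArg (app h⁻¹) hx
      rwa [app_inv_app] at this
    · rintro ⟨y, hy, rfl⟩
      rw [mem_fixS, app_mul, app_mul, app_inv_app, mem_fixS.1 hy]
  rw [this]
  exact (Submodule.equivMapOfInjective _ (app_injective h) _).finrank_eq.symm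

/-- An involution which is diagonal outside a block has an eigenframe agreeing there. -/
theorem exists_eigen_refr {v : κ → ι → F} (hv : IsFrame Q v) {g : O Q} (hg : g * g = 1) (S : Finset κ)
    (h : ∀ j, j ∉ S → app g (v j) = v j ∨ app g (v j) = -v j) :
    ∃ v', Refr Q v v' S ∧ ∀ i, app g (v' i) = v' i ∨ app g (v' i) = -v' i := by
  suffices H : ∀ n, ∀ S : Finset κ, S.card = n → ∀ v : κ → ι → F, IsFrame Q v →
      (∀ j, j ∉ S → app g (v j) = v j ∨ app g (v j) = -v j) →
      ∃ v', Refr Q v v' S ∧ ∀ i, app g (v' i) = v' i ∨ app g (v' i) = -v' i from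
    H _ S rfl v hv h
  clear! v S
  intro n
  induction n with
  | zero => exact fun S hS v hv h => ⟨v, Refr.refl' hv S, fun i => h i (by rw [Finset.card_eq_zero.1 hS]; simp)⟩
  | succ n ih =>
    intro S hS v hv h
    obtain ⟨i, hi⟩ := Finset.card_pos.1 (by omega : 0 < S.card)
    have hgg : ∀ x, app g (app g x) = x := fun x => by rw [← app_mul, hg, app_one]
    have hgi : InBlock Q v S (app g (v i)) := fun j hj => by
      rcases h j hj with e | e
      · rw [← e, polar_app, hv.orth i j fun e' => hj (e' ▸ hi)]
      · rw [← neg_neg (v j), ← e, polar_neg_right, polar_app, hv.orth i j fun e' => hj (e' ▸ hi), neg_zero]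
    obtain ⟨y, hy, hyq, hye⟩ : ∃ y, InBlock Q v S y ∧ Q y ≠ 0 ∧ (app g y = y ∨ app g y = -y) := by
      by_cases h1 : Q (v i + app g (v i)) ≠ 0
      · exact ⟨_, (InBlock.vec hv hi).add hgi, h1, Or.inl (by rw [map_add, hgg, add_comm])⟩
      · refine ⟨v i + (-1 : F) • app g (v i), (InBlock.vec hv hi).add (hgi.smul _), ?_,
          Or.inr (by rw [map_add, map_smul, hgg]; module)⟩
        push Not at h1
        intro h0
        simp only [QuadraticMap.map_add ⇑Q, QuadraticMap.map_smul, polar_smul_right, Q_app, smul_eq_mul] at h0 h1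
        have : 2 * 2 * Q (v i) = 0 := by linear_combination h0 + h1
        exact mul_ne_zero (mul_ne_zero hv.two hv.two) (hv.nz i) this
    obtain ⟨v', k, hk, hky, hR⟩ := refr_vec hv S hy hyq
    obtain ⟨v'', hR', hsign⟩ := ih (S.erase k) (by rw [Finset.card_erase_of_mem hk, hS]; rfl) v' hR.1 fun j hj => by
      by_cases hjk : j = k
      · subst hjk; rw [hky]; exact hye
      · rw [hR.2.1 j fun h' => hj (Finset.mem_erase.2 ⟨hjk, h'⟩)]
        exact h j fun h' => hj (Finset.mem_erase.2 ⟨hjk, h'⟩)
    exact ⟨v'', hR.trans hR' (Finset.erase_subset k S), hsign⟩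

/-- An involution has an eigenframe. -/
theorem exists_eigen_frame {v : κ → ι → F} (hv : IsFrame Q v) {g : O Q} (hg : g * g = 1) :
    ∃ v' : κ → ι → F, IsFrame Q v' ∧ ∀ i, app g (v' i) = v' i ∨ app g (v' i) = -v' i := by
  obtain ⟨v', hR, h⟩ := exists_eigen_refr hv hg Finset.univ fun j hj => absurd (Finset.mem_univ j) hj
  exact ⟨v', hR.1, h⟩

end CfsgLib.TensorOdd
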