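import Mathlib
import Cfsg.Agent.Lib.TensorOdd.Frames
import Cfsg.Agent.Lib.POmega.Basic
import Cfsg.Agent.Helper57Spinor

/-!
One orthogonal space of odd dimension: admissible reflections, the centraliser of a non-scalar set stable
under `Ω`, Eichler elements in groups normalised by the isometry group.
-/

set_option autoImplicit false
set_option linter.unusedSectionVars false

namespace CfsgLib.TensorOdd

open Matrix QuadraticMap CfsgLib.Orth Cfsg.Agent.Spinor57

variable {ι : Type} [Fintype ι] [DecidableEq ι] {F : Type*} [Field F] [Fintype F]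
  {Q : QuadraticForm F (ι → F)}

/-- A non-degenerate space of odd dimension at least three, not three-dimensional over three elements. -/
structure IsGood (Q : QuadraticForm F (ι → F)) : Prop where
  nd : Q.polarBilin.Nondegenerate
  two : (2 : F) ≠ 0
  odd : Odd (Fintype.card ι)
  three : 3 ≤ Fintype.card ι
  big : 5 ≤ Fintype.card ι ∨ 5 ≤ Fintype.card F

/-- `-1` as an isometry. -/
noncomputable def negId (Q : QuadraticForm F (ι → F)) : O Q :=
  mkO (-LinearMap.id) (-LinearMap.id) (by ext; simp) (by ext; simp) fun x => by simp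

@[simp] theorem app_negId (x : ι → F) : app (negId Q) x = -x := by simp [negId, app_mkO]

theorem negId_comm (g : O Q) : negId Q * g = g * negId Q := ext_app fun x => by simp

theorem negId_mul_self : negId Q * negId Q = 1 := ext_app fun x => by simp

/-- A multiple of the identity. -/
def IsScalar (g : O Q) : Prop := ∃ t : F, ∀ x, app g x = t • x

/-- `-r_v` lies in `Ω`. -/
def Adm (Q : QuadraticForm F (ι → F)) (v : ι → F) : Prop :=
  Q v ≠ 0 ∧ negId Q * refl Q v ∈ commutator (O Q)

theorem exists_frame (hQ : Q.polarBilin.Nondegenerate) (h2 : (2 : F) ≠ 0) :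
    ∃ v : ι → ι → F, IsFrame Q v := by
  letI : Invertible (2 : F) := invertibleOfNonzero h2
  obtain ⟨b, hb⟩ := LinearMap.BilinForm.exists_orthogonal_basis (B := Q.polarBilin)
    ⟨fun x y => by simp [polar_comm]⟩
  let e : Fin (Module.finrank F (ι → F)) ≃ ι := Fintype.equivOfCardEq (by simp)
  refine ⟨fun i => b.reindex e i, rfl, fun i j hij => ?_, fun i h0 => ?_, h2⟩
  · simp only [Module.Basis.reindex_apply]
    exact hb fun h => hij (e.symm.injective h)
  · apply (b.reindex e).ne_zero i
    refine hQ.1 _ fun y => ?_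
    rw [← (b.reindex e).sum_repr y, map_sum]
    refine Finset.sum_eq_zero fun j _ => ?_
    rw [map_smul, polarBilin_apply_apply]
    rcases eq_or_ne i j with rfl | hij
    · rw [polar_self', h0, mul_zero, smul_zero]
    · simp only [Module.Basis.reindex_apply]
      exact smul_eq_zero_of_right _ (hb fun h => hij (e.symm.injective h))

theorem sqSign_eq_iff {x y : F} (hx : x ≠ 0) (hy : y ≠ 0) : sqSign x = sqSign y ↔ IsSquare (x * y) := by
  rw [← sqSign_eq_one_iff, sqSign_mul hx hy]
  constructor
  · intro h; rw [h, Int.units_mul_self]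
  · intro h
    calc sqSign x = sqSign x * (sqSign y * sqSign y) := by rw [Int.units_mul_self, mul_one]
      _ = sqSign y := by rw [← mul_assoc, h, one_mul]

/-- Off-axis solutions of a binary equation. -/
theorem off_axis (h2 : (2 : F) ≠ 0) {A B : F} (hA : A ≠ 0) (hB : B ≠ 0)
    (hq : 7 ≤ Fintype.card F ∨ 5 ≤ Fintype.card F ∧ ¬ IsSquare (A * B)) :
    ∃ x y : F, x ≠ 0 ∧ y ≠ 0 ∧ A * x ^ 2 + B * y ^ 2 = A := by
  classical
  have hroot : ∀ c : F, (Finset.univ.filter fun m : F => m * m = c).card ≤ 2 := fun c => by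
    by_cases h : ∃ r, r * r = c
    · obtain ⟨r, rfl⟩ := h
      refine (Finset.card_le_card (t := {r, -r}) fun m hm => ?_).trans Finset.card_le_two
      rcases mul_self_eq_mul_self_iff.1 (Finset.mem_filter.1 hm).2 with h | h <;> simp [h]
    · rw [Finset.filter_false_of_mem fun m _ hm => h ⟨m, hm⟩]; simp
  obtain ⟨m, hm0, hm1, hm2⟩ : ∃ m : F, m ≠ 0 ∧ B * m ^ 2 ≠ A ∧ B * m ^ 2 ≠ -A := by
    by_contra hm
    push Not at hm
    have hsub : (Finset.univ : Finset F) ⊆
        insert 0 ((Finset.univ.filter fun m : F => m * m = A / B) ∪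
          (Finset.univ.filter fun m : F => m * m = -A / B)) := fun m _ => by
      simp only [Finset.mem_insert, Finset.mem_union, Finset.mem_filter, Finset.mem_univ, true_and]
      by_cases h0 : m = 0
      · exact Or.inl h0
      by_cases h1 : B * m ^ 2 = A
      · right; left; rw [eq_div_iff hB]; linear_combination h1
      · right; right; rw [eq_div_iff hB]; linear_combination hm m h0 h1
    have hcard := (Finset.card_le_card hsub).trans
      ((Finset.card_insert_le _ _).trans (Nat.add_le_add_right (Finset.card_union_le _ _) 1))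
    rw [Finset.card_univ] at hcard
    have := hroot (A / B)
    have := hroot (-A / B)
    rcases hq with h7 | ⟨h5, hns⟩
    · omega
    · have h0 : (Finset.univ.filter fun m : F => m * m = A / B).card = 0 := by
        rw [Finset.card_eq_zero, Finset.filter_eq_empty_iff]
        intro r _ hr
        exact hns ⟨B * r, by rw [eq_div_iff hB] at hr; linear_combination -B * hr⟩
      omega
  have hd : B * m ^ 2 + A ≠ 0 := fun h => hm2 (by linear_combination h)
  refine ⟨(B * m ^ 2 - A) / (B * m ^ 2 + A), -2 * A * m / (B * m ^ 2 + A), ?_, ?_, ?_⟩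
  · exact div_ne_zero (sub_ne_zero.2 hm1) hd
  · exact div_ne_zero (mul_ne_zero (mul_ne_zero (neg_ne_zero.2 h2) hA) hm0) hd
  · field_simp; ring

/-- In a finite field with three elements every non-zero square is one. -/
theorem three_facts (hq : Fintype.card F = 3) : (3 : F) = 0 ∧ ∀ x : F, x ≠ 0 → x * x = 1 := by
  refine ⟨?_, fun x hx => ?_⟩
  · have := Nat.cast_card_eq_zero F; rw [hq] at this; exact_mod_cast this
  · have := FiniteField.pow_card_sub_one_eq_one x hx
    rw [hq] at this
    linear_combination this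

theorem card_field (h2 : (2 : F) ≠ 0) : Fintype.card F = 3 ∨ 5 ≤ Fintype.card F := by
  have h1 : 1 < Fintype.card F := Fintype.one_lt_card
  have h4 : Fintype.card F ≠ 2 ∧ Fintype.card F ≠ 4 := by
    have hodd : Odd (Fintype.card F) := Nat.odd_iff.2 (FiniteField.odd_card_of_char_ne_two fun hch => h2 (by
      have : CharP F 2 := ringChar.of_eq hch
      exact CharTwo.two_eq_zero))
    obtain ⟨k, hk⟩ := hodd
    omega
  omega

/-- The vectors of a given value span a block. -/
theorem shell_span {κ : Type} [Fintype κ] [DecidableEq κ] {v : κ → ι → F} (hv : IsFrame Q v) {S : Finset κ}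
    (hS : 2 ≤ S.card) (hbig : 3 ≤ S.card ∨ 5 ≤ Fintype.card F) {c : F} (hc : c ≠ 0) {x : ι → F}
    (hx : InBlock Q v S x) : x ∈ Submodule.span F {y | InBlock Q v S y ∧ Q y = c} := by
  classical
  set U := Submodule.span F {y | InBlock Q v S y ∧ Q y = c} with hU
  suffices H : ∀ k ∈ S, v k ∈ U by
    rw [hx.eq_sum hv]; exact Submodule.sum_mem _ fun k hk => U.smul_mem _ (H k hk)
  intro k hk
  have mem : ∀ y, InBlock Q v S y → Q y = c → y ∈ U := fun y h1 h2 => Submodule.subset_span ⟨h1, h2⟩
  have hpair : ∀ i ∈ S, i ≠ k → ∀ s t : F, s ^ 2 * Q (v i) + t ^ 2 * Q (v k) = c → t ≠ 0 → v k ∈ U := by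
    intro i hi hik s t h ht
    have hval : ∀ e : F, e * e = 1 → Q (e • s • v i + t • v k) = c := fun e he => by
      simp only [QuadraticMap.map_add ⇑Q, QuadraticMap.map_smul, polar_smul_left, polar_smul_right,
        hv.orth i k hik, smul_eq_mul]
      linear_combination h + s ^ 2 * Q (v i) * he
    have hb : ∀ e : F, InBlock Q v S (e • s • v i + t • v k) := fun e =>
      (((InBlock.vec hv hi).smul s).smul e).add ((InBlock.vec hv hk).smul t)
    have h1 := U.add_mem (mem _ (hb 1) (hval 1 (one_mul 1))) (mem _ (hb (-1)) (hval (-1) (by ring)))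
    refine (Submodule.smul_mem_iff U (mul_ne_zero hv.two ht)).1 ?_
    convert h1 using 1
    module
  by_cases hsq : ∃ t : F, t ^ 2 * Q (v k) = c
  · obtain ⟨t, ht⟩ := hsq
    refine (Submodule.smul_mem_iff U (fun h0 : t = 0 => hc (by rw [← ht, h0]; ring))).1
      (mem _ ((InBlock.vec hv hk).smul t) ?_)
    rw [QuadraticMap.map_smul, smul_eq_mul, ← ht]; ring
  rcases card_field hv.two with h3 | h5
  · obtain ⟨h30, hsq1⟩ := three_facts h3
    have hS3 : 3 ≤ S.card := hbig.resolve_right (by omega)
    have hneg : ∀ u : F, u ≠ 0 → u = c ∨ u = -c := fun u hu => by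
      have e : (u - c) * (u + c) = 0 := by linear_combination hsq1 u hu - hsq1 c hc
      rcases mul_eq_zero.1 e with h | h
      · exact Or.inl (sub_eq_zero.1 h)
      · exact Or.inr (eq_neg_of_add_eq_zero_left h)
    have hk' : Q (v k) = -c :=
      (hneg _ (hv.nz k)).resolve_left fun h => hsq ⟨1, by rw [h]; ring⟩
    by_cases hex : ∃ i ∈ S, i ≠ k ∧ Q (v i) = -c
    · obtain ⟨i, hi, hik, hiq⟩ := hex
      exact hpair i hi hik 1 1 (by rw [hiq, hk']; linear_combination -c * h30) one_ne_zero
    push Not at hex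
    obtain ⟨i, hi, l, hl, hil⟩ := Finset.one_lt_card.1
      (show 1 < (S.erase k).card by rw [Finset.card_erase_of_mem hk]; omega)
    obtain ⟨hik, hiS⟩ := Finset.mem_erase.1 hi
    obtain ⟨hlk, hlS⟩ := Finset.mem_erase.1 hl
    have hiq := (hneg _ (hv.nz i)).resolve_right (hex i hiS hik)
    have hlq := (hneg _ (hv.nz l)).resolve_right (hex l hlS hlk)
    have hval : ∀ e : F, e * e = 1 → Q (e • (v i + v l) + v k) = c := fun e he => by
      simp only [QuadraticMap.map_add ⇑Q, QuadraticMap.map_smul, polar_smul_left, polar_add_left,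
        hv.orth i k hik, hv.orth l k hlk, hv.orth i l hil, hiq, hlq, hk', smul_eq_mul]
      linear_combination 2 * c * he
    have hb : ∀ e : F, InBlock Q v S (e • (v i + v l) + v k) := fun e =>
      (((InBlock.vec hv hiS).add (InBlock.vec hv hlS)).smul e).add (InBlock.vec hv hk)
    have h1 := U.add_mem (mem _ (hb 1) (hval 1 (one_mul 1))) (mem _ (hb (-1)) (hval (-1) (by ring)))
    refine (Submodule.smul_mem_iff U hv.two).1 ?_
    convert h1 using 1
    module
  · obtain ⟨i, hi⟩ := Finset.card_pos.1 (show 0 < (S.erase k).card by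
      rw [Finset.card_erase_of_mem hk]; omega)
    obtain ⟨hik, hiS⟩ := Finset.mem_erase.1 hi
    obtain ⟨s, t, hst⟩ := CfsgLib.Orth.exists_binary hv.two (hv.nz i) (hv.nz k) c
    by_cases ht : t = 0
    · obtain ⟨x, y, hx, hy, hxy⟩ := off_axis hv.two (hv.nz i) (hv.nz k) (Or.inr ⟨h5, by
        rintro ⟨r, hr⟩
        subst ht
        refine hsq ⟨s * r / Q (v k), ?_⟩
        have := hv.nz k
        field_simp
        linear_combination Q (v k) * hst - s ^ 2 * hr⟩)
      refine hpair i hiS hik (s * x) (s * y) ?_ (mul_ne_zero ?_ hy)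
      · subst ht
        linear_combination hst + s ^ 2 * hxy
      · rintro rfl
        exact hc (by rw [← hst, ht]; ring)
    · exact hpair i hiS hik s t (by linear_combination hst) ht

variable (hg : IsGood Q)
include hg

theorem chiPair_negId {d : F} (hd : ¬ IsSquare d) {κ : Type} [Fintype κ] [DecidableEq κ] {v : κ → ι → F}
    (hv : IsFrame Q v) [DecidableEq F] :
    chiPair Q d (negId Q) = (-sqSign (∏ i, Q (v i)), sqSign (∏ i, Q (v i))) := by
  have e : negId Q = blockSign Q v Finset.univ := hv.ext_O fun i => by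
    rw [blockSign_app hv, if_pos (Finset.mem_univ i), app_negId]
  have h := (chiPair_prod_refl (Q := Q) hg.two hd ((Finset.univ : Finset κ).toList.map v) (fun z hz => by
    obtain ⟨i, -, rfl⟩ := List.mem_map.1 hz; exact hv.nz i)).2
  rw [e, blockSign, reflList, h]
  have h1 : (((Finset.univ : Finset κ).toList.map v).map fun z => Q z).prod = ∏ i, Q (v i) := by
    rw [List.map_map, Finset.prod_eq_multiset_prod, ← Finset.coe_toList, Multiset.map_coe, Multiset.prod_coe]
    rfl
  rw [h1, List.length_map, Finset.length_toList, Finset.card_univ, hv.card, hg.odd.neg_one_pow, neg_one_mul]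

theorem adm_iff_frame {κ : Type} [Fintype κ] [DecidableEq κ] {v : κ → ι → F} (hv : IsFrame Q v) {y : ι → F}
    (hy : Q y ≠ 0) : Adm Q y ↔ IsSquare (Q y * ∏ i, Q (v i)) := by
  classical
  obtain ⟨d, hd⟩ := FiniteField.exists_nonsquare (F := F) fun hch => hg.two (by
    have : CharP F 2 := ringChar.of_eq hch
    exact CharTwo.two_eq_zero)
  have hp : ∏ i, Q (v i) ≠ 0 := Finset.prod_ne_zero_iff.2 fun i _ => hv.nz i
  rw [Adm, and_iff_right hy, commutator_eq hg.nd hg.two hd, MonoidHom.mem_ker, map_mul,
    chiPair_negId hg hd hv, chiPair_refl' hg.two hd hy, ← sqSign_eq_iff hy hp]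
  simp only [Prod.mk_mul_mk, neg_mul_neg, Prod.mk_eq_one, and_self]
  constructor
  · intro h
    calc sqSign (Q y) = sqSign (∏ i, Q (v i)) * sqSign (∏ i, Q (v i)) * sqSign (Q y) := by
          rw [Int.units_mul_self, one_mul]
      _ = sqSign (∏ i, Q (v i)) := by rw [mul_assoc, h, mul_one]
  · intro h; rw [h, Int.units_mul_self]

theorem adm_of_square {y z : ι → F} (hz : Adm Q z) (hy : Q y ≠ 0) (h : IsSquare (Q y * Q z)) : Adm Q y := by
  obtain ⟨v, hv⟩ := exists_frame hg.nd hg.two
  rw [adm_iff_frame hg hv hy]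
  have h1 := (adm_iff_frame hg hv hz.1).1 hz
  have h2 := (h.mul h1).div (⟨Q z, rfl⟩ : IsSquare (Q z * Q z))
  have e : Q y * Q z * (Q z * ∏ i, Q (v i)) / (Q z * Q z) = Q y * ∏ i, Q (v i) := by
    have := hz.1
    field_simp
  rwa [e] at h2

theorem negId_notMem : negId Q ∉ commutator (O Q) := by
  classical
  obtain ⟨d, hd⟩ := FiniteField.exists_nonsquare (F := F) fun hch => hg.two (by
    have : CharP F 2 := ringChar.of_eq hch
    exact CharTwo.two_eq_zero)
  obtain ⟨v, hv⟩ := exists_frame hg.nd hg.two
  rw [commutator_eq hg.nd hg.two hd, MonoidHom.mem_ker, chiPair_negId hg hd hv, Prod.mk_eq_one]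
  rintro ⟨h1, h2⟩
  rw [h2] at h1
  exact absurd h1 (by decide)

/-- Products of two reflections of the same value lie in `Ω`. -/
theorem pair_mem {a b : ι → F} (ha : Q a ≠ 0) (hab : Q a = Q b) : refl Q a * refl Q b ∈ commutator (O Q) := by
  classical
  obtain ⟨g, hgg⟩ := conj_of_eq_value hg.two ha hab
  rw [commutator_eq_closure]
  exact Subgroup.subset_closure (pair_mem_commutator hgg)

theorem scalar_one_or {g : O Q} (h : IsScalar g) : g = 1 ∨ g = negId Q := by
  obtain ⟨t, ht⟩ := h
  obtain ⟨v, hv⟩ := exists_frame hg.nd hg.two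
  obtain ⟨i⟩ : Nonempty ι := Fintype.card_pos_iff.1 (by have := hg.three; omega)
  have h1 : t * t = 1 := by
    have := Q_app g (v i)
    rw [ht, QuadraticMap.map_smul, smul_eq_mul] at this
    exact mul_right_cancel₀ (hv.nz i) (this.trans (one_mul _).symm)
  rcases mul_self_eq_one_iff.1 h1 with rfl | rfl
  · exact Or.inl (ext_app fun x => by rw [ht, one_smul, app_one])
  · exact Or.inr (ext_app fun x => by rw [ht, neg_smul, one_smul, app_negId])

theorem eq_one_of_scalar {g : O Q} (h : IsScalar g) (hm : g ∈ commutator (O Q)) : g = 1 :=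
  (scalar_one_or hg h).resolve_right fun e => negId_notMem hg (e ▸ hm)

/-- An admissible vector in every block with two members. -/
theorem exists_adm_block {κ : Type} [Fintype κ] [DecidableEq κ] {v : κ → ι → F} (hv : IsFrame Q v)
    {S : Finset κ} (hS : 2 ≤ S.card) : ∃ v' i, i ∈ S ∧ Adm Q (v' i) ∧ Refr Q v v' S := by
  obtain ⟨v', i, hi, hq, hR⟩ := refr_value hv hS (Finset.prod_ne_zero_iff.2 fun i _ => hv.nz i :
    (∏ i, Q (v i)) ≠ 0)
  exact ⟨v', i, hi, (adm_iff_frame hg hv (hR.1.nz i)).2 ⟨Q (v' i), by rw [← hq]⟩, hR⟩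

/-- A frame of admissible vectors. -/
theorem exists_adm_frame : ∃ v : ι → ι → F, IsFrame Q v ∧ ∀ i, Adm Q (v i) := by
  classical
  suffices H : ∀ n, ∀ S : Finset ι, S.card = n → ∀ v : ι → ι → F, IsFrame Q v →
      (∀ i, i ∉ S → Adm Q (v i)) → ∃ v : ι → ι → F, IsFrame Q v ∧ ∀ i, Adm Q (v i) by
    obtain ⟨v, hv⟩ := exists_frame hg.nd hg.two
    exact H _ Finset.univ rfl v hv fun i hi => absurd (Finset.mem_univ i) hi
  intro n
  induction n with
  | zero => exact fun S hS v hv h => ⟨v, hv, fun i => h i (by rw [Finset.card_eq_zero.1 hS]; simp)⟩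
  | succ n ih =>
    intro S hS v hv h
    rcases Nat.eq_zero_or_pos n with rfl | hn
    · obtain ⟨i, rfl⟩ := Finset.card_eq_one.1 hS
      refine ⟨v, hv, fun j => ?_⟩
      by_cases hji : j = i
      · subst hji
        rw [adm_iff_frame hg hv (hv.nz j), ← sqSign_eq_iff (hv.nz j) (Finset.prod_ne_zero_iff.2 fun i _ => hv.nz i)]
        have hall : ∀ k ∈ Finset.univ.erase j, sqSign (Q (v k)) = sqSign (∏ i, Q (v i)) := fun k hk => by
          rw [sqSign_eq_iff (hv.nz k) (Finset.prod_ne_zero_iff.2 fun i _ => hv.nz i), ← adm_iff_frame hg hv (hv.nz k)]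
          exact h k (by simpa using (Finset.mem_erase.1 hk).1)
        have hmul : ∀ T : Finset ι, sqSign (∏ i ∈ T, Q (v i)) = ∏ i ∈ T, sqSign (Q (v i)) := fun T => by
          induction T using Finset.induction_on with
          | empty => simp [sqSign_one]
          | insert a T ha ihT =>
            rw [Finset.prod_insert ha, Finset.prod_insert ha,
              sqSign_mul (hv.nz a) (Finset.prod_ne_zero_iff.2 fun i _ => hv.nz i), ihT]
        have e := hmul Finset.univ
        rw [← Finset.prod_erase_mul (Finset.univ) (fun i => sqSign (Q (v i))) (Finset.mem_univ j),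
          Finset.prod_congr rfl hall, Finset.prod_const, Finset.card_erase_of_mem (Finset.mem_univ j),
          Finset.card_univ] at e
        obtain ⟨m, hm⟩ := hg.odd
        rw [hm, Nat.add_sub_cancel, pow_mul, pow_two, Int.units_mul_self, one_pow, one_mul] at e
        exact e.symm
      · exact h j (by simpa using hji)
    obtain ⟨v', i, hi, hadm, hR⟩ := exists_adm_block hg hv (S := S) (by omega)
    refine ih (S.erase i) (by rw [Finset.card_erase_of_mem hi, hS]; rfl) v' hR.1 fun j hj => ?_
    by_cases hji : j = i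
    · exact hji ▸ hadm
    · have hjS : j ∉ S := fun h' => hj (Finset.mem_erase.2 ⟨hji, h'⟩)
      rw [hR.2.1 j hjS]; exact h j hjS

/-- The admissible reflections leave no proper non-zero subspace invariant. -/
theorem invariant_eq (W : Submodule F (ι → F))
    (hW : ∀ v, Adm Q v → ∀ w ∈ W, app (refl Q v) w ∈ W) : W = ⊥ ∨ W = ⊤ := by
  classical
  obtain ⟨v, hv, hadm⟩ := exists_adm_frame hg
  have key : ∀ y, Adm Q y → y ∉ W → ∀ w ∈ W, polar Q w y = 0 := by
    intro y hy hyW w hw
    by_contra h0
    apply hyW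
    have := W.sub_mem hw (hW y hy w hw)
    rw [app_refl, sub_sub_cancel] at this
    exact (Submodule.smul_mem_iff W (mul_ne_zero (inv_ne_zero hy.1) h0)).1 this
  set S := Finset.univ.filter fun i => v i ∈ W
  by_cases hS0 : S = ∅
  · left
    rw [Submodule.eq_bot_iff]
    intro w hw
    refine hv.ext_vec fun i => ?_
    rw [polar_zero_left, key _ (hadm i) (fun h => by
      have : i ∈ S := Finset.mem_filter.2 ⟨Finset.mem_univ i, h⟩
      rw [hS0] at this; simp at this) w hw]
  by_cases hSu : S = Finset.univ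
  · right
    rw [eq_top_iff, ← hv.span_top, Submodule.span_le]
    rintro _ ⟨i, rfl⟩
    exact (Finset.mem_filter.1 (hSu.symm ▸ Finset.mem_univ i : i ∈ S)).2
  obtain ⟨i, hi⟩ := Finset.nonempty_iff_ne_empty.2 hS0
  obtain ⟨k, hk⟩ : ∃ k, k ∉ S := by
    by_contra h; push Not at h
    exact hSu (Finset.eq_univ_iff_forall.2 h)
  exfalso
  have hiW : v i ∈ W := (Finset.mem_filter.1 hi).2
  have hkW : v k ∉ W := fun h => hk (Finset.mem_filter.2 ⟨Finset.mem_univ k, h⟩)
  have hik : i ≠ k := fun h => hkW (h ▸ hiW)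
  have hclass : ∀ l m, IsSquare (Q (v l) * Q (v m)) := fun l m => by
    have h1 := ((adm_iff_frame hg hv (hv.nz l)).1 (hadm l)).mul ((adm_iff_frame hg hv (hv.nz m)).1 (hadm m))
    have hp : (∏ i, Q (v i)) ≠ 0 := Finset.prod_ne_zero_iff.2 fun i _ => hv.nz i
    have h2 := h1.div (⟨∏ i, Q (v i), rfl⟩ : IsSquare ((∏ i, Q (v i)) * ∏ i, Q (v i)))
    have e : Q (v l) * (∏ i, Q (v i)) * (Q (v m) * ∏ i, Q (v i)) / ((∏ i, Q (v i)) * ∏ i, Q (v i)) =
        Q (v l) * Q (v m) := by field_simp
    rwa [e] at h2
  -- rescale to equal values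
  choose r hr using hclass i
  have hr0 : ∀ j, r j ≠ 0 := fun j h => mul_ne_zero (hv.nz i) (hv.nz j) (by rw [hr j, h, mul_zero])
  let u : ι → ι → F := fun j => (Q (v i) / r j) • v j
  have huQ : ∀ j, Q (u j) = Q (v i) := fun j => by
    rw [QuadraticMap.map_smul, smul_eq_mul]
    have := hr0 j
    field_simp
    linear_combination Q (v i) * hr j
  have huo : ∀ a b, a ≠ b → polar Q (u a) (u b) = 0 := fun a b h => by
    simp only [u, polar_smul_left, polar_smul_right, hv.orth a b h, smul_zero]
  have huv : ∀ a b, a ≠ b → polar Q (u a) (v b) = 0 := fun a b h => by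
    simp only [u, polar_smul_left, hv.orth a b h, smul_zero]
  have hus : ∀ a, polar Q (u a) (v a) ≠ 0 := fun a => by
    simp only [u, polar_smul_left, smul_eq_mul]
    exact mul_ne_zero (div_ne_zero (hv.nz i) (hr0 a)) (hv.polar_self_ne a)
  -- a vector with both components
  obtain ⟨y, hyadm, hyi, hyk⟩ : ∃ y, Adm Q y ∧ polar Q y (v i) ≠ 0 ∧ polar Q y (v k) ≠ 0 := by
    obtain ⟨y, hQy, hyi, hyk⟩ : ∃ y, Q y = Q (v i) ∧ polar Q y (v i) ≠ 0 ∧ polar Q y (v k) ≠ 0 := by
      by_cases h7 : 7 ≤ Fintype.card F
      · obtain ⟨s, t, hs, ht, hst⟩ := off_axis hg.two (hv.nz i) (hv.nz k) (Or.inl h7)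
        refine ⟨s • v i + t • v k, ?_, ?_, ?_⟩
        · simp only [QuadraticMap.map_add ⇑Q, QuadraticMap.map_smul, polar_smul_left, polar_smul_right,
            hv.orth i k hik, smul_eq_mul]
          linear_combination hst
        · rw [polar_add_left, polar_smul_left, polar_smul_left, hv.orth k i hik.symm, smul_zero, add_zero]
          exact smul_ne_zero hs (hv.polar_self_ne i)
        · rw [polar_add_left, polar_smul_left, polar_smul_left, hv.orth i k hik, smul_zero, zero_add]
          exact smul_ne_zero ht (hv.polar_self_ne k)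
      obtain ⟨l, hl, hlm⟩ : ∃ l, l ≠ i ∧ l ≠ k := by
        obtain ⟨l, hl⟩ := Finset.card_pos.1 (show 0 < ((Finset.univ.erase i).erase k).card by
          rw [Finset.card_erase_of_mem (by simp [hik.symm]), Finset.card_erase_of_mem (by simp), Finset.card_univ]
          have := hg.three
          omega)
        simp only [Finset.mem_erase, Finset.mem_univ, and_true] at hl
        exact ⟨l, hl.2, hl.1⟩
      rcases card_field hg.two with h3 | h5
      · obtain ⟨h30, -⟩ := three_facts h3
        have hn : 5 ≤ Fintype.card ι := hg.big.resolve_right (by omega)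
        obtain ⟨m, hm⟩ := Finset.card_pos.1 (show 0 < (((Finset.univ.erase i).erase k).erase l).card by
          rw [Finset.card_erase_of_mem (by simp [hl, hlm]), Finset.card_erase_of_mem (by simp [hik.symm]),
            Finset.card_erase_of_mem (by simp), Finset.card_univ]
          omega)
        simp only [Finset.mem_erase, Finset.mem_univ, and_true] at hm
        refine ⟨u i + u k + u l + u m, ?_, ?_, ?_⟩
        · simp only [QuadraticMap.map_add ⇑Q, polar_add_left, huo i k hik, huo i l hl.symm, huo k l hlm.symm,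
            huo i m hm.2.2.symm, huo k m hm.2.1.symm, huo l m hm.1.symm, huQ]
          linear_combination Q (v i) * h30
        · simp [polar_add_left, huv k i hik.symm, huv l i hl, huv m i hm.2.2, hus i]
        · simp [polar_add_left, huv i k hik, huv l k hlm, huv m k hm.2.1, hus k]
      · have h5F : (5 : F) = 0 := by
          have hodd : Odd (Fintype.card F) := Nat.odd_iff.2 (FiniteField.odd_card_of_char_ne_two fun hch => hg.two (by
            have : CharP F 2 := ringChar.of_eq hch
            exact CharTwo.two_eq_zero))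
          obtain ⟨j, hj⟩ := hodd
          have h : Fintype.card F = 5 := by omega
          have := Nat.cast_card_eq_zero F; rw [h] at this; exact_mod_cast this
        refine ⟨u i + u k + (2 : F) • u l, ?_, ?_, ?_⟩
        · simp only [QuadraticMap.map_add ⇑Q, QuadraticMap.map_smul, polar_add_left, polar_smul_right,
            huo i k hik, huo i l hl.symm, huo k l hlm.symm, huQ, smul_eq_mul]
          linear_combination Q (v i) * h5F
        · simp [polar_add_left, polar_smul_left, huv k i hik.symm, huv l i hl, hus i]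
        · simp [polar_add_left, polar_smul_left, huv i k hik, huv l k hlm, hus k]
    exact ⟨y, adm_of_square hg (hadm i) (hQy ▸ hv.nz i) (hQy ▸ ⟨_, rfl⟩), hyi, hyk⟩
  by_cases hyW : y ∈ W
  · exact hyk (key _ (hadm k) hkW y hyW)
  · exact hyi (by rw [polar_comm]; exact key y hyadm hyW _ hiW)

/-- Commuting with the admissible reflections forces a scalar. -/
theorem scalar_of_adm {g : O Q} (h : ∀ v, Adm Q v → g * refl Q v = refl Q v * g) : IsScalar g := by
  obtain ⟨v, hv, hadm⟩ := exists_adm_frame hg
  obtain ⟨i⟩ : Nonempty ι := Fintype.card_pos_iff.1 (by have := hg.three; omega)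
  have e := congrArg (fun k => app k (v i)) (h _ (hadm i))
  simp only [app_mul, app_refl_self (hv.nz i), map_neg, app_refl (v i) (app g (v i))] at e
  set c := (Q (v i))⁻¹ * polar Q (app g (v i)) (v i)
  have e2 : app g (v i) = (c / 2) • v i := by
    have h1 : (2 : F) • app g (v i) = c • v i := by linear_combination (norm := module) -e
    rw [div_eq_inv_mul, mul_smul, ← h1, smul_smul, inv_mul_cancel₀ hg.two, one_smul]
  let E := LinearMap.ker (app g - (c / 2) • LinearMap.id)
  have hE : ∀ x, x ∈ E ↔ app g x = (c / 2) • x := fun x => by simp [E, sub_eq_zero]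
  rcases invariant_eq hg E (fun u hu w hw => by
    rw [hE] at hw ⊢
    have := congrArg (fun k => app k w) (h u hu)
    simp only [app_mul] at this
    rw [this, hw, map_smul]) with h0 | h1
  · exact absurd ((hE _).2 e2) (by rw [h0]; simpa using hv.li.ne_zero i)
  · exact ⟨c / 2, fun x => (hE x).1 (h1 ▸ Submodule.mem_top)⟩

end CfsgLib.TensorOdd
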