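import Mathlib
import Cfsg.Agent.Lib.TensorOdd.Factor
import Cfsg.Agent.Lib.Maximal.TensorTools

/-!
An orthogonal space identified with the tensor product of two orthogonal spaces of odd dimension: the
homomorphism from the product of the two isometry groups, and its spinor characters.
-/

set_option autoImplicit false
set_option linter.unusedSectionVars false

namespace CfsgLib.TensorOdd

open Matrix QuadraticMap CfsgLib.Orth CfsgLib.Maximal.TensorTools
open scoped Kronecker

variable {ι : Type} [Fintype ι] [DecidableEq ι] {F : Type*} [Field F] [Fintype F]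

/-- A tensor decomposition of the quadratic space `q`. -/
structure Data (q : QuadraticForm F (ι → F)) (a b : ℕ) where
  q1 : QuadraticForm F (Fin a → F)
  q2 : QuadraticForm F (Fin b → F)
  E : (Fin a × Fin b → F) ≃ₗ[F] (ι → F)
  polar_E : ∀ u v u' v', polar q (E (pure u v)) (E (pure u' v')) = polar q1 u u' * polar q2 v v'
  good1 : IsGood q1
  good2 : IsGood q2
  good : IsGood q

variable {q : QuadraticForm F (ι → F)} {a b : ℕ} (D : Data q a b)

namespace Data

/-- The pure tensor. -/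
def tp (u : Fin a → F) (v : Fin b → F) : ι → F := D.E (pure u v)

theorem polar_tp (u : Fin a → F) (v : Fin b → F) (u' : Fin a → F) (v' : Fin b → F) :
    polar q (D.tp u v) (D.tp u' v') = polar D.q1 u u' * polar D.q2 v v' := D.polar_E u v u' v'

theorem tp_add_left (u u' : Fin a → F) (v : Fin b → F) : D.tp (u + u') v = D.tp u v + D.tp u' v := by
  rw [tp, tp, tp, ← map_add]; congr 1; funext p; simp [CfsgLib.Maximal.TensorTools.pure, add_mul]

theorem tp_add_right (u : Fin a → F) (v v' : Fin b → F) : D.tp u (v + v') = D.tp u v + D.tp u v' := by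
  rw [tp, tp, tp, ← map_add]; congr 1; funext p; simp [CfsgLib.Maximal.TensorTools.pure, mul_add]

theorem tp_smul_left (c : F) (u : Fin a → F) (v : Fin b → F) : D.tp (c • u) v = c • D.tp u v := by
  rw [tp, tp, ← map_smul]; congr 1; funext p; simp [CfsgLib.Maximal.TensorTools.pure, mul_assoc]

theorem tp_smul_right (c : F) (u : Fin a → F) (v : Fin b → F) : D.tp u (c • v) = c • D.tp u v := by
  rw [tp, tp, ← map_smul]; congr 1; funext p; simp [CfsgLib.Maximal.TensorTools.pure, mul_left_comm]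

theorem tp_neg_left (u : Fin a → F) (v : Fin b → F) : D.tp (-u) v = -D.tp u v := by
  rw [← neg_one_smul F u, D.tp_smul_left, neg_one_smul]

theorem tp_neg_right (u : Fin a → F) (v : Fin b → F) : D.tp u (-v) = -D.tp u v := by
  rw [← neg_one_smul F v, D.tp_smul_right, neg_one_smul]

/-- The linear map `u ↦ u ⊗ v`. -/
def tpL (v : Fin b → F) : (Fin a → F) →ₗ[F] (ι → F) where
  toFun u := D.tp u v
  map_add' u u' := D.tp_add_left u u' v
  map_smul' c u := D.tp_smul_left c u v

/-- The linear map `v ↦ u ⊗ v`. -/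
def tpR (u : Fin a → F) : (Fin b → F) →ₗ[F] (ι → F) where
  toFun v := D.tp u v
  map_add' v v' := D.tp_add_right u v v'
  map_smul' c v := D.tp_smul_right c u v

theorem tp_sum_left {κ : Type*} (s : Finset κ) (c : κ → F) (u : κ → Fin a → F) (v : Fin b → F) :
    D.tp (∑ i ∈ s, c i • u i) v = ∑ i ∈ s, c i • D.tp (u i) v := by
  show D.tpL v _ = _
  simp [tpL, map_sum]

theorem tp_sum_right {κ : Type*} (s : Finset κ) (c : κ → F) (u : Fin a → F) (v : κ → Fin b → F) :
    D.tp u (∑ i ∈ s, c i • v i) = ∑ i ∈ s, c i • D.tp u (v i) := by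
  show D.tpR u _ = _
  simp [tpR, map_sum]

theorem Q_tp (u : Fin a → F) (v : Fin b → F) : q (D.tp u v) = 2 * D.q1 u * D.q2 v := by
  have h := D.polar_tp u v u v
  rw [polar_self', polar_self', polar_self'] at h
  exact mul_left_cancel₀ D.good.two (by linear_combination h)

theorem tp_single (i : Fin a) (j : Fin b) : D.tp (Pi.single i 1) (Pi.single j 1) = D.E (Pi.single (i, j) 1) := by
  rw [tp]; congr 1; funext p
  simp only [CfsgLib.Maximal.TensorTools.pure, Pi.single_apply, Prod.ext_iff]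
  by_cases h1 : p.1 = i <;> by_cases h2 : p.2 = j <;> simp [h1, h2]

theorem ext_tp {M : Type*} [AddCommGroup M] [Module F M] {f g : (ι → F) →ₗ[F] M}
    (h : ∀ u v, f (D.tp u v) = g (D.tp u v)) : f = g :=
  ((Pi.basisFun F (Fin a × Fin b)).map D.E).ext fun p => by
    rw [Module.Basis.map_apply, Pi.basisFun_apply, ← D.tp_single p.1 p.2]; exact h _ _

theorem ext_tp_O {g g' : O q} (h : ∀ u v, app g (D.tp u v) = app g' (D.tp u v)) : g = g' :=
  ext_app fun x => by rw [D.ext_tp (f := app g) (g := app g') h]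

/-- Two equal pure tensors have proportional factors. -/
theorem tp_eq {u u' : Fin a → F} {v v' : Fin b → F} (hu : u ≠ 0) (hv : v ≠ 0) (h : D.tp u v = D.tp u' v') :
    ∃ t : F, t ≠ 0 ∧ u' = t • u ∧ v' = t⁻¹ • v := by
  have h' : pure u v = pure u' v' := D.E.injective h
  obtain ⟨i, hi⟩ := Function.ne_iff.1 hu
  obtain ⟨j, hj⟩ := Function.ne_iff.1 hv
  simp only [Pi.zero_apply] at hi hj
  have e : ∀ k l, u k * v l = u' k * v' l := fun k l => congrFun h' (k, l)
  have hv' : v' j ≠ 0 := fun h0 => mul_ne_zero hi hj (by rw [e, h0, mul_zero])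
  refine ⟨v j / v' j, div_ne_zero hj hv', funext fun k => ?_, funext fun l => ?_⟩
  · have h1 := e k j
    simp only [Pi.smul_apply, smul_eq_mul]
    field_simp
    linear_combination -h1
  · have h1 := e i l
    have h2 := e i j
    have hu' : u' i ≠ 0 := fun h0 => mul_ne_zero hi hj (by rw [h2, h0, zero_mul])
    simp only [Pi.smul_apply, smul_eq_mul]
    field_simp
    refine mul_left_cancel₀ hu' ?_
    linear_combination v l * h2 - v j * h1

theorem tp_ne_zero {u : Fin a → F} {v : Fin b → F} (hu : u ≠ 0) (hv : v ≠ 0) : D.tp u v ≠ 0 := by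
  intro h
  have h0 : pure u v = 0 := D.E.injective (by rw [map_zero]; exact h)
  obtain ⟨i, hi⟩ := Function.ne_iff.1 hu
  obtain ⟨j, hj⟩ := Function.ne_iff.1 hv
  exact mul_ne_zero hi hj (congrFun h0 (i, j))

theorem tp_left_cancel {u u' : Fin a → F} {v : Fin b → F} (hv : v ≠ 0) (h : D.tp u v = D.tp u' v) : u = u' := by
  by_contra hne
  refine D.tp_ne_zero (sub_ne_zero.2 hne) hv ?_
  show D.tpL v (u - u') = 0
  rw [map_sub]; exact sub_eq_zero.2 h

theorem tp_right_cancel {u : Fin a → F} {v v' : Fin b → F} (hu : u ≠ 0) (h : D.tp u v = D.tp u v') : v = v' := by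
  by_contra hne
  refine D.tp_ne_zero hu (sub_ne_zero.2 hne) ?_
  show D.tpR u (v - v') = 0
  rw [map_sub]; exact sub_eq_zero.2 h

/-- The Kronecker product of two linear maps, transported to `ι → F`. -/
noncomputable def kmap (A : (Fin a → F) →ₗ[F] (Fin a → F)) (B : (Fin b → F) →ₗ[F] (Fin b → F)) :
    (ι → F) →ₗ[F] (ι → F) :=
  D.E.toLinearMap ∘ₗ Matrix.toLin' (LinearMap.toMatrix' A ⊗ₖ LinearMap.toMatrix' B) ∘ₗ D.E.symm.toLinearMap

theorem kmap_tp (A : (Fin a → F) →ₗ[F] (Fin a → F)) (B : (Fin b → F) →ₗ[F] (Fin b → F))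
    (u : Fin a → F) (v : Fin b → F) : D.kmap A B (D.tp u v) = D.tp (A u) (B v) := by
  simp [kmap, tp, kronecker_mulVec_pure]

theorem kmap_comp (A A' : (Fin a → F) →ₗ[F] (Fin a → F)) (B B' : (Fin b → F) →ₗ[F] (Fin b → F)) :
    (D.kmap A B).comp (D.kmap A' B') = D.kmap (A.comp A') (B.comp B') :=
  D.ext_tp fun u v => by simp [kmap_tp]

theorem kmap_id : D.kmap LinearMap.id LinearMap.id = LinearMap.id :=
  D.ext_tp fun u v => by simp [kmap_tp]

theorem polar_kmap (A : O D.q1) (B : O D.q2) (x y : ι → F) :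
    polar q (D.kmap (app A) (app B) x) (D.kmap (app A) (app B) y) = polar q x y := by
  have h : q.polarBilin.compl₁₂ (D.kmap (app A) (app B)) (D.kmap (app A) (app B)) = q.polarBilin :=
    D.ext_tp fun u v => D.ext_tp fun u' v' => by
      simp [kmap_tp, polar_tp]
  exact LinearMap.congr_fun (LinearMap.congr_fun h x) y

theorem Q_kmap (A : O D.q1) (B : O D.q2) (x : ι → F) : q (D.kmap (app A) (app B) x) = q x := by
  have h := D.polar_kmap A B x x
  rw [polar_self', polar_self'] at h
  exact mul_left_cancel₀ D.good.two h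

theorem kmap_inv (A : O D.q1) (B : O D.q2) :
    (D.kmap (app A) (app B)).comp (D.kmap (app A⁻¹) (app B⁻¹)) = LinearMap.id := by
  rw [kmap_comp, show (app A).comp (app A⁻¹) = LinearMap.id from LinearMap.ext (app_app_inv A),
    show (app B).comp (app B⁻¹) = LinearMap.id from LinearMap.ext (app_app_inv B), kmap_id]

/-- The tensor product of two isometries. -/
noncomputable def ten : O D.q1 × O D.q2 →* O q where
  toFun p := mkO (D.kmap (app p.1) (app p.2)) (D.kmap (app p.1⁻¹) (app p.2⁻¹)) (D.kmap_inv p.1 p.2)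
    (by simpa using D.kmap_inv p.1⁻¹ p.2⁻¹) (D.Q_kmap p.1 p.2)
  map_one' := D.ext_tp_O fun u v => by simp [app_mkO, kmap_tp]
  map_mul' p p' := D.ext_tp_O fun u v => by simp [app_mkO, kmap_tp]

theorem ten_tp (A : O D.q1) (B : O D.q2) (u : Fin a → F) (v : Fin b → F) :
    app (D.ten (A, B)) (D.tp u v) = D.tp (app A u) (app B v) := by
  simp [ten, app_mkO, kmap_tp]

/-- Isometries of the first factor. -/
noncomputable def L : O D.q1 →* O q := D.ten.comp (MonoidHom.inl _ _)

/-- Isometries of the second factor. -/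
noncomputable def R : O D.q2 →* O q := D.ten.comp (MonoidHom.inr _ _)

theorem L_tp (A : O D.q1) (u : Fin a → F) (v : Fin b → F) : app (D.L A) (D.tp u v) = D.tp (app A u) v := by
  simp [L, ten_tp]

theorem R_tp (B : O D.q2) (u : Fin a → F) (v : Fin b → F) : app (D.R B) (D.tp u v) = D.tp u (app B v) := by
  simp [R, ten_tp]

theorem ten_eq (A : O D.q1) (B : O D.q2) : D.ten (A, B) = D.L A * D.R B :=
  D.ext_tp_O fun u v => by rw [app_mul, R_tp, L_tp, ten_tp]

theorem L_R_comm (A : O D.q1) (B : O D.q2) : D.L A * D.R B = D.R B * D.L A :=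
  D.ext_tp_O fun u v => by simp [L_tp, R_tp]

/-- The stabiliser of the decomposition inside the isometry group. -/
noncomputable def TT : Subgroup (O q) := D.ten.range

theorem L_mem (A : O D.q1) : D.L A ∈ D.TT := ⟨(A, 1), rfl⟩

theorem R_mem (B : O D.q2) : D.R B ∈ D.TT := ⟨(1, B), rfl⟩

theorem mem_TT {g : O q} : g ∈ D.TT ↔ ∃ A B, g = D.ten (A, B) := by
  constructor
  · rintro ⟨⟨A, B⟩, rfl⟩; exact ⟨A, B, rfl⟩
  · rintro ⟨A, B, rfl⟩; exact ⟨_, rfl⟩

theorem L_negId : D.L (negId D.q1) = negId q :=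
  D.ext_tp_O fun u v => by rw [L_tp, app_negId, app_negId, tp_neg_left]

theorem R_negId : D.R (negId D.q2) = negId q :=
  D.ext_tp_O fun u v => by rw [R_tp, app_negId, app_negId, tp_neg_right]

theorem L_omega {A : O D.q1} (h : A ∈ commutator (O D.q1)) : D.L A ∈ commutator (O q) := by
  have : (commutator (O D.q1)).map D.L ≤ commutator (O q) := by
    rw [commutator_def, Subgroup.map_commutator]
    exact Subgroup.commutator_mono le_top le_top
  exact this ⟨A, h, rfl⟩

theorem R_omega {B : O D.q2} (h : B ∈ commutator (O D.q2)) : D.R B ∈ commutator (O q) := by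
  have : (commutator (O D.q2)).map D.R ≤ commutator (O q) := by
    rw [commutator_def, Subgroup.map_commutator]
    exact Subgroup.commutator_mono le_top le_top
  exact this ⟨B, h, rfl⟩

/-- An element of the stabiliser fixing a row pointwise is a left factor. -/
theorem eq_L_of_fix {g : O q} (hg : g ∈ D.TT) {u : Fin a → F} (hu : u ≠ 0)
    (h : ∀ v, app g (D.tp u v) = D.tp u v) : ∃ A, g = D.L A := by
  obtain ⟨A, B, rfl⟩ := D.mem_TT.1 hg
  obtain ⟨v₀, hv₀⟩ := exists_frame D.good2.nd D.good2.two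
  have hb : ∀ v, v ≠ 0 → ∃ t : F, t ≠ 0 ∧ app A u = t • u ∧ app B v = t⁻¹ • v := fun v hv => by
    have e := h v
    rw [ten_tp] at e
    exact D.tp_eq hu hv e.symm
  obtain ⟨j⟩ : Nonempty (Fin b) := Fintype.card_pos_iff.1 (by have := D.good2.three; omega)
  obtain ⟨t, ht0, ht, -⟩ := hb _ (hv₀.li.ne_zero j)
  have hB : ∀ v, app B v = t⁻¹ • v := fun v => by
    rcases eq_or_ne v 0 with rfl | hv
    · simp
    obtain ⟨t', -, ht', hv'⟩ := hb v hv
    have : t' = t := smul_left_injective F hu (ht'.symm.trans ht)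
    rw [hv', this]
  classical
  refine ⟨A * (if t = 1 then 1 else negId D.q1), ?_⟩
  rcases scalar_one_or D.good2 ⟨t⁻¹, hB⟩ with rfl | rfl
  · have : t = 1 := by
      have := hB (v₀ j)
      rw [app_one] at this
      have e : (1 : F) • v₀ j = t⁻¹ • v₀ j := by rwa [one_smul]
      exact inv_eq_one.1 (smul_left_injective F (hv₀.li.ne_zero j) e).symm
    rw [if_pos this, mul_one]; rfl
  · have : t ≠ 1 := fun h1 => by
      have e := hB (v₀ j)
      rw [app_negId, h1, inv_one, one_smul] at e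
      have : (2 : F) • v₀ j = 0 := by linear_combination (norm := module) -e
      exact hv₀.li.ne_zero j ((smul_eq_zero.1 this).resolve_left hv₀.two)
    rw [if_neg this, D.ten_eq, map_mul, D.L_negId, D.R_negId]

/-- The frame of pure tensors. -/
theorem isFrame_tp {u : Fin a → Fin a → F} {v : Fin b → Fin b → F} (hu : IsFrame D.q1 u) (hv : IsFrame D.q2 v) :
    IsFrame q (fun p : Fin a × Fin b => D.tp (u p.1) (v p.2)) := by
  refine ⟨?_, fun p p' h => ?_, fun p => ?_, D.good.two⟩
  · have h1 := D.E.finrank_eq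
    simpa only [Module.finrank_fintype_fun_eq_card] using h1
  · rw [polar_tp]
    by_cases h1 : p.1 = p'.1
    · rw [hv.orth p.2 p'.2 fun h2 => h (Prod.ext h1 h2), mul_zero]
    · rw [hu.orth _ _ h1, zero_mul]
  · rw [Q_tp]; exact mul_ne_zero (mul_ne_zero D.good.two (hu.nz _)) (hv.nz _)

/-- A reflection of the first factor as a product of reflections. -/
theorem L_refl {z : Fin a → F} (hz : D.q1 z ≠ 0) {v : Fin b → Fin b → F} (hv : IsFrame D.q2 v) :
    D.L (refl D.q1 z) = reflList q ((Finset.univ : Finset (Fin b)).toList.map fun j => D.tp z (v j)) := by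
  set l := reflList q ((Finset.univ : Finset (Fin b)).toList.map fun j => D.tp z (v j))
  have hnz : ∀ j, q (D.tp z (v j)) ≠ 0 := fun j => by
    rw [Q_tp]; exact mul_ne_zero (mul_ne_zero D.good.two hz) (hv.nz j)
  have horth : ∀ i j, i ≠ j → polar q (D.tp z (v i)) (D.tp z (v j)) = 0 := fun i j h => by
    rw [polar_tp, hv.orth i j h, mul_zero]
  refine D.ext_tp_O fun u y => ?_
  set c := (D.q1 z)⁻¹ * polar D.q1 u z / 2 with hc
  have hu : polar D.q1 (u - c • z) z = 0 := by
    rw [polar_sub_left, polar_smul_left, polar_self', hc, smul_eq_mul]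
    have := D.good1.two
    field_simp
    ring
  have h1 : app l (D.tp (u - c • z) y) = D.tp (u - c • z) y := reflList_fix fun w hw => by
    obtain ⟨j, -, rfl⟩ := List.mem_map.1 hw
    rw [polar_tp, hu, zero_mul]
  have h2 : app l (D.tp z y) = -D.tp z y := by
    rw [hv.eq_sum y, D.tp_sum_right, map_sum, ← Finset.sum_neg_distrib]
    refine Finset.sum_congr rfl fun j _ => ?_
    rw [map_smul, ← smul_neg]
    congr 1
    exact reflList_neg horth hnz (Finset.nodup_toList _) (Finset.mem_toList.2 (Finset.mem_univ j))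
  have hsplit : D.tp u y = D.tp (u - c • z) y + c • D.tp z y := by
    rw [← D.tp_smul_left, ← D.tp_add_left, sub_add_cancel]
  rw [hsplit, map_add, map_add, map_smul, map_smul, h1, h2, L_tp, L_tp, app_refl_of_ortho hu,
    app_refl_self hz, tp_neg_left]

/-- A left factor supported in a block corrects the spinor class. -/
theorem exists_L_mem {u : Fin a → Fin a → F} (hu : IsFrame D.q1 u) {S : Finset (Fin a)} (hS : 2 ≤ S.card)
    (g : O q) : ∃ A : O D.q1, (∀ j, j ∉ S → app A (u j) = u j) ∧ g * D.L A ∈ commutator (O q) := by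
  classical
  obtain ⟨d, hd⟩ := FiniteField.exists_nonsquare (F := F) fun hch => D.good.two (by
    have : CharP F 2 := ringChar.of_eq hch
    exact CharTwo.two_eq_zero)
  have hd0 : d ≠ 0 := fun h => hd (h ▸ IsSquare.zero)
  obtain ⟨v, hv⟩ := exists_frame D.good2.nd D.good2.two
  obtain ⟨z₁, hz₁, hq₁⟩ := exists_value_block hu hS (1 : F)
  obtain ⟨z₂, hz₂, hq₂⟩ := exists_value_block hu hS d
  have hchi : ∀ z, D.q1 z ≠ 0 → ∃ s : ℤˣ, chiPair q d (D.L (refl D.q1 z)) = (-s, s) ∧
      s = Cfsg.Agent.Spinor57.sqSign (∏ j, 2 * D.q2 (v j)) * Cfsg.Agent.Spinor57.sqSign (D.q1 z) := by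
    intro z hz
    have hnz : ∀ w ∈ (Finset.univ : Finset (Fin b)).toList.map (fun j => D.tp z (v j)), q w ≠ 0 := fun w hw => by
      obtain ⟨j, -, rfl⟩ := List.mem_map.1 hw
      rw [Q_tp]; exact mul_ne_zero (mul_ne_zero D.good.two hz) (hv.nz j)
    have h := (Cfsg.Agent.Spinor57.chiPair_prod_refl (Q := q) D.good.two hd _ hnz).2
    rw [D.L_refl hz hv, reflList, h, List.length_map, Finset.length_toList, Finset.card_univ]
    have hodd : Odd (Fintype.card (Fin b)) := D.good2.odd
    refine ⟨_, by rw [hodd.neg_one_pow, neg_one_mul], ?_⟩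
    have e : (((Finset.univ : Finset (Fin b)).toList.map fun j => D.tp z (v j)).map fun w => q w).prod =
        (∏ j, 2 * D.q2 (v j)) * D.q1 z ^ Fintype.card (Fin b) := by
      rw [List.map_map, ← Finset.card_univ, ← Finset.prod_const, ← Finset.prod_mul_distrib,
        Finset.prod_eq_multiset_prod Finset.univ (fun j => 2 * D.q2 (v j) * D.q1 z), ← Finset.coe_toList,
        Multiset.map_coe, Multiset.prod_coe]
      congr 1
      refine List.map_congr_left fun j _ => ?_
      simp [Q_tp]; ring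
    obtain ⟨m, hm⟩ := hodd
    rw [e, Cfsg.Agent.Spinor57.sqSign_mul (Finset.prod_ne_zero_iff.2 fun j _ => mul_ne_zero D.good.two (hv.nz j))
      (pow_ne_zero _ hz)]
    congr 1
    rw [hm, sqSign_eq_iff (pow_ne_zero _ hz) hz]
    exact ⟨D.q1 z ^ (m + 1), by ring⟩
  have hz₁0 : D.q1 z₁ ≠ 0 := hq₁ ▸ one_ne_zero
  have hz₂0 : D.q1 z₂ ≠ 0 := hq₂ ▸ hd0
  obtain ⟨s₁, e₁, f₁⟩ := hchi z₁ hz₁0
  obtain ⟨s₂, e₂, f₂⟩ := hchi z₂ hz₂0
  have hne : s₂ = -s₁ := by
    have h1 : Cfsg.Agent.Spinor57.sqSign (D.q1 z₁) = 1 := by rw [hq₁]; exact Cfsg.Agent.Spinor57.sqSign_one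
    have h2 : Cfsg.Agent.Spinor57.sqSign (D.q1 z₂) = -1 := by
      rw [hq₂]
      exact (Int.units_eq_one_or _).resolve_left fun h => hd ((Cfsg.Agent.Spinor57.sqSign_eq_one_iff d).1 h)
    rw [f₁, f₂, h1, h2]; simp
  have hfix : ∀ z, InBlock D.q1 u S z → ∀ j, j ∉ S → app (refl D.q1 z) (u j) = u j := fun z hz j hj =>
    app_refl_of_ortho (by rw [polar_comm]; exact hz j hj)
  suffices H : ∃ A : O D.q1, (∀ j, j ∉ S → app A (u j) = u j) ∧ chiPair q d (D.L A) = chiPair q d g by
    obtain ⟨A, hA, he⟩ := H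
    refine ⟨A, hA, ?_⟩
    rw [commutator_eq D.good.nd D.good.two hd, MonoidHom.mem_ker, map_mul, he]
    rcases Int.units_eq_one_or (chiPair q d g).1 with h1 | h1 <;>
      rcases Int.units_eq_one_or (chiPair q d g).2 with h2 | h2 <;>
        exact Prod.ext (by simp [h1]) (by simp [h2])
  generalize chiPair q d g = p
  have h12 : chiPair q d (D.L (refl D.q1 z₁ * refl D.q1 z₂)) = (-1, -1) := by
    rw [map_mul, map_mul, e₁, e₂, hne]
    rcases Int.units_eq_one_or s₁ with rfl | rfl <;> rfl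
  obtain ⟨p₁, p₂⟩ := p
  rcases Int.units_eq_one_or p₁ with rfl | rfl <;> rcases Int.units_eq_one_or p₂ with rfl | rfl
  · exact ⟨1, fun j _ => app_one _, by rw [map_one, map_one]; rfl⟩
  · rcases Int.units_eq_one_or s₁ with rfl | rfl
    · exact ⟨_, hfix z₂ hz₂, by rw [e₂, hne]; rfl⟩
    · exact ⟨_, hfix z₁ hz₁, by rw [e₁]; rfl⟩
  · rcases Int.units_eq_one_or s₁ with rfl | rfl
    · exact ⟨_, hfix z₁ hz₁, by rw [e₁]⟩
    · exact ⟨_, hfix z₂ hz₂, by rw [e₂, hne]; rfl⟩
  · exact ⟨refl D.q1 z₁ * refl D.q1 z₂, fun j hj => by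
      rw [app_mul, hfix z₂ hz₂ j hj, hfix z₁ hz₁ j hj], h12⟩

/-- The factors exchanged. -/
noncomputable def swap : Data q b a where
  q1 := D.q2
  q2 := D.q1
  E := (LinearEquiv.funCongrLeft F F (Equiv.prodComm (Fin a) (Fin b))).trans D.E
  polar_E u v u' v' := by
    have e : ∀ (x : Fin b → F) (y : Fin a → F),
        (LinearEquiv.funCongrLeft F F (Equiv.prodComm (Fin a) (Fin b))) (pure x y) = pure y x := fun x y => by
      funext p; simp [CfsgLib.Maximal.TensorTools.pure, LinearEquiv.funCongrLeft_apply, LinearMap.funLeft_apply, mul_comm]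
    simp only [LinearEquiv.trans_apply, e, D.polar_E]
    ring
  good1 := D.good2
  good2 := D.good1
  good := D.good

theorem swap_tp (v : Fin b → F) (u : Fin a → F) : D.swap.tp v u = D.tp u v := by
  show D.E ((LinearEquiv.funCongrLeft F F (Equiv.prodComm (Fin a) (Fin b))) (pure v u)) = D.E (pure u v)
  congr 1
  funext p
  simp [CfsgLib.Maximal.TensorTools.pure, LinearEquiv.funCongrLeft_apply, LinearMap.funLeft_apply, mul_comm]

theorem swap_L (B : O D.q2) : D.swap.L B = D.R B :=
  D.ext_tp_O fun u v => by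
    have h : app (D.swap.L B) (D.swap.tp v u) = D.swap.tp (app B v) u := D.swap.L_tp B v u
    rw [D.swap_tp v u] at h
    rw [h, D.R_tp]
    exact D.swap_tp _ _

theorem swap_R (A : O D.q1) : D.swap.R A = D.L A :=
  D.ext_tp_O fun u v => by
    have h : app (D.swap.R A) (D.swap.tp v u) = D.swap.tp v (app A u) := D.swap.R_tp A v u
    rw [D.swap_tp v u] at h
    rw [h, D.L_tp]
    exact D.swap_tp _ _

theorem swap_ten (A : O D.q1) (B : O D.q2) : D.swap.ten (B, A) = D.ten (A, B) :=
  D.ext_tp_O fun u v => by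
    have h : app (D.swap.ten (B, A)) (D.swap.tp v u) = D.swap.tp (app B v) (app A u) := D.swap.ten_tp B A v u
    rw [D.swap_tp v u] at h
    rw [h, D.ten_tp]
    exact D.swap_tp _ _

theorem swap_TT : D.swap.TT = D.TT := by
  ext g
  constructor
  · rintro ⟨⟨B, A⟩, rfl⟩
    exact ⟨(A, B), (D.swap_ten A B).symm⟩
  · rintro ⟨⟨A, B⟩, rfl⟩
    exact ⟨(B, A), D.swap_ten A B⟩

theorem R_refl {z : Fin b → F} (hz : D.q2 z ≠ 0) {u : Fin a → Fin a → F} (hu : IsFrame D.q1 u) :
    D.R (refl D.q2 z) = reflList q ((Finset.univ : Finset (Fin a)).toList.map fun i => D.tp (u i) z) := by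
  have h := D.swap.L_refl (z := z) hz (v := u) hu
  refine ((D.swap_L _).symm.trans h).trans ?_
  congr 1
  exact List.map_congr_left fun i _ => D.swap_tp z (u i)

theorem exists_R_mem {v : Fin b → Fin b → F} (hv : IsFrame D.q2 v) {S : Finset (Fin b)} (hS : 2 ≤ S.card)
    (g : O q) : ∃ B : O D.q2, (∀ j, j ∉ S → app B (v j) = v j) ∧ g * D.R B ∈ commutator (O q) := by
  obtain ⟨B, hB, h⟩ := D.swap.exists_L_mem (u := v) hv hS g
  exact ⟨B, hB, D.swap_L B ▸ h⟩

end Data

end CfsgLib.TensorOdd
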