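import Mathlib
import Cfsg.Agent.Lib.TensorOdd.Data

/-!
Involutions of a tensor product as pairs of sign maps, the dimensions of their fixed spaces, and dihedral
groups generated by two involutions.
-/

set_option autoImplicit false
set_option linter.unusedSectionVars false

namespace CfsgLib.TensorOdd

open Matrix QuadraticMap CfsgLib.Orth

/-- The central element of a dihedral group and the classes of its translates. -/
theorem dihedral {G : Type*} [Group G] {r s : G} (hr : r * r = 1) (hs : s * s = 1) {k : ℕ}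
    (hk : (s * r) ^ k * (s * r) ^ k = 1) :
    (s * r) ^ k * s = s * (s * r) ^ k ∧ (s * r) ^ k * r = r * (s * r) ^ k ∧
      (Even k → ∃ g, g * s * g⁻¹ = s * (s * r) ^ k) ∧ (Odd k → ∃ g, g * r * g⁻¹ = s * (s * r) ^ k) := by
  set p := s * r with hp
  have hr' : r⁻¹ = r := inv_eq_of_mul_eq_one_right hr
  have hs' : s⁻¹ = s := inv_eq_of_mul_eq_one_right hs
  have hsemi : SemiconjBy s p p⁻¹ := by
    show s * p = p⁻¹ * s
    rw [hp, _root_.mul_inv_rev, hr', hs', ← mul_assoc, hs, one_mul, mul_assoc, hs, mul_one]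
  have hn : ∀ n : ℕ, (p ^ n)⁻¹ * s = s * p ^ n := fun n => by
    rw [← inv_pow]; exact (hsemi.pow_right n).eq.symm
  have hcs : p ^ k * s = s * p ^ k := by
    rw [← hn k, inv_eq_of_mul_eq_one_right hk]
  have hrp : r = s * p := by rw [hp, ← mul_assoc, hs, one_mul]
  refine ⟨hcs, ?_, ?_, ?_⟩
  · rw [hrp, ← mul_assoc, hcs, mul_assoc, mul_assoc, (Commute.refl p).pow_left k |>.eq]
  · rintro ⟨i, rfl⟩
    refine ⟨(p ^ i)⁻¹, ?_⟩
    rw [inv_inv, hn i, mul_assoc, ← pow_add]
  · rintro ⟨i, rfl⟩
    refine ⟨(p ^ i)⁻¹, ?_⟩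
    rw [inv_inv, hrp, ← mul_assoc, hn i, mul_assoc, mul_assoc, ← pow_succ', ← pow_add]
    congr 2
    omega

/-- Two involutions with a product of odd order are conjugate. -/
theorem dihedral_odd {G : Type*} [Group G] {r s : G} (hr : r * r = 1) (hs : s * s = 1)
    (h : Odd (orderOf (s * r))) : ∃ g, g * r * g⁻¹ = s := by
  obtain ⟨g, hg⟩ := (dihedral hr hs (k := orderOf (s * r)) (by rw [pow_orderOf_eq_one, one_mul])).2.2.2 h
  exact ⟨g, by rw [hg, pow_orderOf_eq_one, mul_one]⟩

variable {ι : Type} [Fintype ι] [DecidableEq ι] {F : Type*} [Field F] [Fintype F]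

section

variable {κ : Type} [Fintype κ] [DecidableEq κ] {Q : QuadraticForm F (ι → F)} {v : κ → ι → F}

theorem blockSign_univ (hv : IsFrame Q v) : blockSign Q v Finset.univ = negId Q :=
  hv.ext_O fun i => by rw [blockSign_app hv, if_pos (Finset.mem_univ i), app_negId]

theorem blockSign_empty (hv : IsFrame Q v) : blockSign Q v ∅ = 1 :=
  hv.ext_O fun i => by rw [blockSign_app hv, if_neg (Finset.notMem_empty i), app_one]

theorem blockSign_erase (hv : IsFrame Q v) (i : κ) :
    blockSign Q v (Finset.univ.erase i) = negId Q * refl Q (v i) :=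
  hv.ext_O fun j => by
    rw [blockSign_app hv, app_mul, app_negId]
    by_cases h : j = i
    · subst h; rw [if_neg (by simp), app_refl_self (hv.nz _), neg_neg]
    · rw [if_pos (by simp [h]), app_refl_of_ortho (hv.orth j i h)]

theorem exists_sign (hg : IsGood Q) {g : O Q} (h : g * g = 1) :
    ∃ v : ι → ι → F, IsFrame Q v ∧ ∃ S, g = blockSign Q v S := by
  classical
  obtain ⟨v₀, hv₀⟩ := exists_frame hg.nd hg.two
  obtain ⟨v, hv, hs⟩ := exists_eigen_frame hv₀ h
  refine ⟨v, hv, Finset.univ.filter fun i => app g (v i) = -v i, hv.ext_O fun i => ?_⟩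
  rw [blockSign_app hv]
  simp only [Finset.mem_filter, Finset.mem_univ, true_and]
  split_ifs with hi
  · exact hi
  · exact (hs i).resolve_right hi

theorem sq_mem (hg : IsGood Q) (g : O Q) : g * g ∈ commutator (O Q) := by
  classical
  obtain ⟨d, hd⟩ := CfsgLib.OrthOmega.exists_not_square hg.two (F := F)
  rw [commutator_eq hg.nd hg.two hd, MonoidHom.mem_ker, map_mul]
  exact Prod.ext (Int.units_mul_self _) (Int.units_mul_self _)

theorem negId_refl_invol (v : ι → F) : negId Q * refl Q v * (negId Q * refl Q v) = 1 := by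
  rw [mul_assoc, ← mul_assoc (refl Q v), ← negId_comm, mul_assoc, refl_mul_self, mul_one, negId_mul_self]

end

variable {q : QuadraticForm F (ι → F)} {a b : ℕ}

namespace Data

variable (D : Data q a b)

theorem L_eq_ten (A : O D.q1) : D.L A = D.ten (A, 1) := rfl

theorem R_eq_ten (B : O D.q2) : D.R B = D.ten (1, B) := rfl

theorem R_injective : Function.Injective D.R := fun B B' h => ext_app fun y => by
  obtain ⟨u, hu⟩ := exists_anisotropic D.good1.nd (by have := D.good1.three; omega)
  refine D.tp_right_cancel (u := u) (fun h0 => hu (by rw [h0, QuadraticMap.map_zero])) ?_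
  rw [← D.R_tp, ← D.R_tp, h]

theorem ten_eq_one {A : O D.q1} {B : O D.q2} (h : D.ten (A, B) = 1) (hA : A ∈ commutator (O D.q1)) :
    A = 1 ∧ B = 1 := by
  obtain ⟨v, hv⟩ := exists_frame D.good2.nd D.good2.two
  obtain ⟨j⟩ : Nonempty (Fin b) := Fintype.card_pos_iff.1 (by have := D.good2.three; omega)
  obtain ⟨w, hw⟩ := exists_anisotropic D.good1.nd (by have := D.good1.three; omega)
  have hw0 : w ≠ 0 := fun h0 => hw (by rw [h0, QuadraticMap.map_zero])
  have key : ∀ u, D.tp u (v j) = D.tp (app A u) (app B (v j)) := fun u => by rw [← D.ten_tp, h, app_one]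
  obtain ⟨t, -, htw, htv⟩ := D.tp_eq hw0 (hv.li.ne_zero j) (key w)
  have hsc : IsScalar A := ⟨t, fun u => by
    rcases eq_or_ne u 0 with rfl | hu0
    · simp
    obtain ⟨t', -, hu', hv'⟩ := D.tp_eq hu0 (hv.li.ne_zero j) (key u)
    rw [hu', inv_injective (smul_left_injective F (hv.li.ne_zero j) (hv'.symm.trans htv))]⟩
  have hA1 := eq_one_of_scalar D.good1 hsc hA
  subst hA1
  exact ⟨rfl, D.R_injective (by rw [map_one, D.R_eq_ten, h])⟩

theorem ten_invol {A : O D.q1} {B : O D.q2} (h : D.ten (A, B) * D.ten (A, B) = 1) : A * A = 1 ∧ B * B = 1 :=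
  D.ten_eq_one (by rw [← h, ← map_mul]; rfl) (sq_mem D.good1 A)

theorem ten_neg (A : O D.q1) (B : O D.q2) : D.ten (negId D.q1 * A, negId D.q2 * B) = D.ten (A, B) :=
  D.ext_tp_O fun u v => by simp [D.ten_tp, D.tp_neg_left, D.tp_neg_right]

/-- The fixed space of a tensor product of two sign maps. -/
theorem fixdim {u : Fin a → Fin a → F} {v : Fin b → Fin b → F} (hu : IsFrame D.q1 u) (hv : IsFrame D.q2 v)
    (S : Finset (Fin a)) (S' : Finset (Fin b)) :
    Module.finrank F (fixS (D.ten (blockSign D.q1 u S, blockSign D.q2 v S'))) =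
      (a - S.card) * (b - S'.card) + S.card * S'.card := by
  classical
  have hf := D.isFrame_tp hu hv
  have happ : ∀ p : Fin a × Fin b, app (D.ten (blockSign D.q1 u S, blockSign D.q2 v S')) (hf.basis p) =
      if (p.1 ∈ S ↔ p.2 ∈ S') then hf.basis p else -hf.basis p := fun p => by
    rw [hf.basis_apply, D.ten_tp, blockSign_app hu, blockSign_app hv]
    by_cases h1 : p.1 ∈ S <;> by_cases h2 : p.2 ∈ S' <;> simp [h1, h2, D.tp_neg_left, D.tp_neg_right]
  rw [finrank_fixS_of_signs D.good.two hf.basis (fun p => p.1 ∈ S ↔ p.2 ∈ S')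
    (fun p hp => by rw [happ, if_pos hp]) (fun p hp => by rw [happ, if_neg hp])]
  have e : (Finset.univ.filter fun p : Fin a × Fin b => p.1 ∈ S ↔ p.2 ∈ S') = Sᶜ ×ˢ S'ᶜ ∪ S ×ˢ S' := by
    ext p
    simp only [Finset.mem_filter, Finset.mem_univ, true_and, Finset.mem_union, Finset.mem_product,
      Finset.mem_compl]
    tauto
  rw [e, Finset.card_union_of_disjoint, Finset.card_product, Finset.card_product, Finset.card_compl,
    Finset.card_compl, Fintype.card_fin, Fintype.card_fin]
  rw [Finset.disjoint_left]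
  intro p h1 h2
  exact (Finset.mem_compl.1 (Finset.mem_product.1 h1).1) (Finset.mem_product.1 h2).1

theorem fixdim_R {v : Fin b → F} (hv : D.q2 v ≠ 0) :
    Module.finrank F (fixS (D.R (negId D.q2 * refl D.q2 v))) = a := by
  obtain ⟨u, hu⟩ := exists_frame D.good1.nd D.good1.two
  obtain ⟨v₀, hv₀⟩ := exists_frame D.good2.nd D.good2.two
  obtain ⟨v', i, -, rfl, hR⟩ := refr_vec hv₀ Finset.univ (fun j hj => absurd (Finset.mem_univ j) hj) hv
  rw [D.R_eq_ten, ← blockSign_erase hR.1, ← blockSign_empty hu, D.fixdim hu hR.1, Finset.card_empty,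
    Finset.card_erase_of_mem (Finset.mem_univ i), Finset.card_univ, Fintype.card_fin]
  have := D.good2.three
  simp only [Fintype.card_fin] at this
  rw [show b - (b - 1) = 1 by omega]
  simp

theorem fixdim_L {u : Fin a → F} (hu : D.q1 u ≠ 0) :
    Module.finrank F (fixS (D.L (negId D.q1 * refl D.q1 u))) = b := by
  have h := D.swap.fixdim_R (v := u) hu
  exact (D.swap_R (negId D.q1 * refl D.q1 u)) ▸ h

/-- An involution of the stabiliser as a pair of sign maps. -/
theorem exists_signs {c : O q} (hc : c ∈ D.TT) (h : c * c = 1) :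
    ∃ (u : Fin a → Fin a → F) (v : Fin b → Fin b → F) (S : Finset (Fin a)) (S' : Finset (Fin b)), IsFrame D.q1 u ∧ IsFrame D.q2 v ∧ c = D.ten (blockSign D.q1 u S, blockSign D.q2 v S') := by
  obtain ⟨A, B, rfl⟩ := D.mem_TT.1 hc
  obtain ⟨h1, h2⟩ := D.ten_invol h
  obtain ⟨u, hu, S, rfl⟩ := exists_sign D.good1 h1
  obtain ⟨v, hv, S', rfl⟩ := exists_sign D.good2 h2
  exact ⟨u, v, S, S', hu, hv, rfl⟩

end Data

end CfsgLib.TensorOdd
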