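import Mathlib
import Cfsg.Agent.Lib.TensorOdd.Factor

/-!
`Ω` is not monomial; the centraliser of a non-scalar set stable under `Ω` consists of scalars.
-/

set_option autoImplicit false
set_option linter.unusedSectionVars false

namespace CfsgLib.TensorOdd

open Matrix QuadraticMap CfsgLib.Orth

variable {ι : Type} [Fintype ι] [DecidableEq ι] {F : Type*} [Field F] [Fintype F]
  {Q : QuadraticForm F (ι → F)}

variable (hg : IsGood Q)
include hg

/-- An Eichler element with anisotropic parameter lies in `Ω`. -/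
theorem eich_mem_omega {w a : ι → F} (hw : Q w = 0) (hwa : polar Q w a = 0) (ha : Q a ≠ 0) :
    eich Q w a ∈ commutator (O Q) := by
  rw [eich_eq_refl_mul hw hwa ha]
  refine pair_mem hg ha ?_
  rw [QuadraticMap.map_add ⇑Q, QuadraticMap.map_smul, polar_smul_right, hw, polar_comm (f := ⇑Q) a w, hwa]
  simp

/-- `Ω` is not monomial in any basis. -/
theorem not_monomial (e : Module.Basis ι F (ι → F))
    (h : ∀ g ∈ commutator (O Q), ∀ i, ∃ j, ∃ t : F, app g (e i) = t • e j) : False := by
  classical
  have hnd := hg.nd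
  obtain ⟨w, -, hw0, hw⟩ := CfsgLib.POmega.exists_singular_mem (Q := Q) (⊤ : Submodule F (ι → F))
    (by rw [finrank_top, Module.finrank_fintype_fun_eq_card]; exact hg.three)
  have hww : polar Q w w = 0 := by rw [polar_self', hw, mul_zero]
  let p := ringChar F
  have : CharP F p := ringChar.charP F
  have hp : p.Prime := CharP.char_is_prime F p
  have hp2 : p ≠ 2 := fun h2 => hg.two (by
    have := (CharP.cast_eq_zero F p); rw [h2] at this; exact_mod_cast this)
  -- line maps
  have uniq : ∀ {g : O Q} {i j j' : ι} {t t' : F}, app g (e i) = t • e j → app g (e i) = t' • e j' → j = j' := by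
    intro g i j j' t t' h1 h2
    by_contra hjj
    have h3 := congrArg (fun z => e.repr z j) (h1.symm.trans h2)
    simp [Ne.symm hjj] at h3
    refine e.ne_zero i (app_injective g ?_)
    rw [h1, h3, zero_smul, map_zero]
  have hne : ∀ {g : O Q} {i j : ι} {t : F}, app g (e i) = t • e j → t ≠ 0 := by
    intro g i j t h1 ht
    exact e.ne_zero i (app_injective g (by rw [h1, ht, zero_smul, map_zero]))
  have hadd : ∀ a b, polar Q w a = 0 → polar Q w b = 0 → eich Q w a * eich Q w b = eich Q w (a + b) :=
    fun a b ha hb => eich_add hw ha hb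
  have hzero : eich Q w 0 = 1 := CfsgLib.POmega.eich_zero_right hw
  have hpow : ∀ a, polar Q w a = 0 → ∀ n : ℕ, eich Q w a ^ n = eich Q w ((n : F) • a) := by
    intro a ha n
    induction n with
    | zero => simp [hzero]
    | succ n ih =>
      rw [pow_succ, ih, hadd _ _ (by rw [polar_smul_right, ha, smul_zero]) ha, Nat.cast_succ, add_smul, one_smul]
  -- an element fixing every line is trivial on the root group
  have hdiag : ∀ a, polar Q w a = 0 → (∀ i, ∃ t : F, app (eich Q w a) (e i) = t • e i) → ∃ c : F, a = c • w := by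
    intro a ha hd
    choose t ht using hd
    have h1 : ∀ i, t i = 1 := fun i => by
      have e1 : app (eich Q w a ^ p) (e i) = t i ^ p • e i := by
        have : ∀ n : ℕ, app (eich Q w a ^ n) (e i) = t i ^ n • e i := fun n => by
          induction n with
          | zero => simp
          | succ n ih => rw [pow_succ', app_mul, ih, map_smul, ht, smul_smul, pow_succ]
        exact this p
      rw [hpow a ha, CharP.cast_eq_zero, zero_smul, hzero, app_one] at e1
      have h2 : t i ^ p = 1 := by
        have := congrArg (fun z => e.repr z i) e1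
        simpa using this.symm
      have h3 : (t i - 1) ^ p = 0 := by
        have := Fact.mk hp
        rw [sub_pow_char, one_pow, h2, sub_self]
      exact sub_eq_zero.1 (pow_eq_zero_iff hp.ne_zero |>.1 h3)
    have hid : ∀ x, app (eich Q w a) x = x := fun x => by
      have : app (eich Q w a) = LinearMap.id := e.ext fun i => by rw [ht, h1, one_smul]; rfl
      rw [this]; rfl
    obtain ⟨r, hr1, -⟩ := CfsgLib.POmega.exists_partner hnd hw hw0
    have := hid r
    rw [app_eich hw ha, polar_comm (f := ⇑Q) r w, hr1, one_smul, mul_one, add_assoc, add_eq_left] at this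
    exact ⟨-(-(polar Q r a) - Q a), by linear_combination (norm := module) this⟩
  -- anisotropic parameters move exactly the support of `w`
  set Sw := Finset.univ.filter fun i => e.repr w i ≠ 0 with hSw
  have main : ∀ a, polar Q w a = 0 → Q a ≠ 0 → ∃ σ : ι → ι, (∀ i, ∃ t : F, app (eich Q w a) (e i) = t • e (σ i)) ∧
      (∀ i, σ i ≠ i → Sw = {i, σ i, σ (σ i)}) ∧ (∀ i, σ (σ i) = i → σ i = i) ∧ (∀ i, σ (σ (σ i)) = i) := by
    intro a ha haQ
    set g := eich Q w a with hgdef
    have hmem : g ∈ commutator (O Q) := eich_mem_omega hg hw ha haQ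
    choose σ t ht using h g hmem
    refine ⟨σ, fun i => ⟨t i, ht i⟩, ?_⟩
    have hit : ∀ n : ℕ, ∀ i, ∃ c : F, app (g ^ n) (e i) = c • e (σ^[n] i) := fun n => by
      induction n with
      | zero => exact fun i => ⟨1, by simp⟩
      | succ n ih =>
        intro i
        obtain ⟨c, hc⟩ := ih i
        exact ⟨c * t (σ^[n] i), by
          rw [pow_succ', app_mul, hc, map_smul, ht, smul_smul, Function.iterate_succ_apply']⟩
    have hperiod : ∀ i, σ^[p] i = i := fun i => by
      obtain ⟨c, hc⟩ := hit p i
      rw [hgdef, hpow a ha, CharP.cast_eq_zero, zero_smul, hzero, app_one] at hc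
      have h1 : app (1 : O Q) (e i) = (1 : F) • e i := by simp
      rw [← app_one (e i)] at hc
      exact (uniq h1 hc).symm
    have h2per : ∀ i, σ (σ i) = i → σ i = i := fun i hi => by
      obtain ⟨m, hm⟩ := hp.odd_of_ne_two hp2
      have he : ∀ m, σ^[2 * m] i = i := fun m => by
        rw [Function.iterate_mul]
        exact Function.iterate_fixed (by simpa using hi) m
      have := hperiod i
      rw [hm, add_comm, Function.iterate_add_apply, he, Function.iterate_one] at this
      exact this
    have d2 : ∀ x, app g (app g x) - (2 : F) • app g x + x = (-(2 * Q a) * polar Q x w) • w := by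
      intro x
      simp only [hgdef, app_eich hw ha, map_add, map_smul, polar_self', hw, polar_comm (f := ⇑Q) a w, ha,
        polar_add_left, polar_smul_left, smul_eq_mul, mul_zero]
      module
    have d3 : ∀ x, app g (app g (app g x)) = (3 : F) • app g (app g x) - (3 : F) • app g x + x := by
      intro x
      have h1 := congrArg (app g) (d2 x)
      have hgw : app g w = w := by
        rw [hgdef, app_eich hw ha, hww, ha]; simp
      rw [map_add, map_sub, map_smul, map_smul, hgw, ← d2 x] at h1
      linear_combination (norm := module) h1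
    have hmov : ∀ i, σ i ≠ i → σ (σ i) ≠ i ∧ σ (σ i) ≠ σ i := fun i hi => by
      refine ⟨fun h' => hi (h2per i h'), fun h' => hi ?_⟩
      obtain ⟨k, hk⟩ := Nat.exists_eq_add_of_le hp.one_lt.le
      have := hperiod i
      rwa [hk, add_comm, Function.iterate_add_apply, Function.iterate_one, Function.iterate_fixed h'] at this
    have h3per : ∀ i, σ (σ (σ i)) = i := fun i => by
      by_cases hi : σ i = i
      · rw [hi, hi, hi]
      obtain ⟨h20, h21⟩ := hmov i hi
      have e0 := d3 (e i)
      rw [ht i, map_smul, ht (σ i), map_smul, map_smul, ht (σ (σ i))] at e0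
      by_contra hne3
      have := congrArg (fun z => e.repr z i) e0
      simp [hne3, Ne.symm hne3, h20, Ne.symm h20, hi, Ne.symm hi] at this
    refine ⟨fun i hi => ?_, h2per, h3per⟩
    obtain ⟨h20, h21⟩ := hmov i hi
    have e0 := d2 (e i)
    rw [ht i, map_smul, ht (σ i)] at e0
    set lam := -(2 * Q a) * polar Q (e i) w
    have r1 := congrArg (fun z => e.repr z i) e0
    simp [h20, Ne.symm h20, hi, Ne.symm hi] at r1
    have hlam : lam ≠ 0 := fun h => by rw [h, zero_mul] at r1; exact one_ne_zero r1
    ext j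
    simp only [hSw, Finset.mem_filter, Finset.mem_univ, true_and, Finset.mem_insert, Finset.mem_singleton]
    have rj := congrArg (fun z => e.repr z j) e0
    constructor
    · intro hj
      by_contra hno
      simp only [not_or] at hno
      simp [Ne.symm hno.1, Ne.symm hno.2.1, Ne.symm hno.2.2] at rj
      rcases rj with h | h
      · first | exact hlam h | exact hj h
      · first | exact hlam h | exact hj h
    · rintro (rfl | rfl | rfl) hz
      · rw [hz, mul_zero] at r1; exact one_ne_zero r1
      · simp [hz, hi, Ne.symm hi, h21, Ne.symm h21] at rj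
        exact hne (ht i) (rj.resolve_left hg.two)
      · simp [hz, h20, Ne.symm h20, h21, Ne.symm h21] at rj
        rcases rj with h | h
        · exact hne (ht i) h
        · exact hne (ht (σ i)) h
  -- three anisotropic parameters
  obtain ⟨a₁, a₂, a₃, h1, h2, h3, q1, q2, q3, n12, n13, n23⟩ : ∃ a₁ a₂ a₃ : ι → F, polar Q w a₁ = 0 ∧
      polar Q w a₂ = 0 ∧ polar Q w a₃ = 0 ∧ Q a₁ ≠ 0 ∧ Q a₂ ≠ 0 ∧ Q a₃ ≠ 0 ∧
      (∀ c : F, a₁ - a₂ ≠ c • w) ∧ (∀ c : F, a₁ - a₃ ≠ c • w) ∧ ∀ c : F, a₂ - a₃ ≠ c • w := by
    obtain ⟨a, ha, hq⟩ := CfsgLib.POmega.exists_aniso_perp hnd (fun _ : Fin 1 => w) (by have := hg.three; omega)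
    have ha' : polar Q w a = 0 := ha 0
    have key : ∀ x y : ι → F, polar Q w y = 0 → polar Q x y ≠ 0 → ∀ c : F, x ≠ c • w := by
      intro x y hy hxy c hc
      exact hxy (by rw [hc, polar_smul_left, hy, smul_zero])
    have haa : polar Q a a ≠ 0 := by rw [polar_self']; exact mul_ne_zero hg.two hq
    rcases hg.big with h5 | h5
    · obtain ⟨a', ha'', hq'⟩ := CfsgLib.POmega.exists_aniso_perp hnd ![w, a] (by omega)
      have hwa : polar Q w a' = 0 := ha'' 0
      have haa' : polar Q a a' = 0 := ha'' 1
      refine ⟨a, -a, a', ha', by rw [polar_neg_right, ha', neg_zero], hwa, hq, by rwa [QuadraticMap.map_neg], hq',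
        key _ a ha' ?_, key _ a ha' ?_, key _ a ha' ?_⟩
      · rw [polar_sub_left, polar_neg_left, sub_neg_eq_add, ← two_mul]; exact mul_ne_zero hg.two haa
      · rw [polar_sub_left, polar_comm (f := ⇑Q) a' a, haa', sub_zero]; exact haa
      · rw [polar_sub_left, polar_neg_left, polar_comm (f := ⇑Q) a' a, haa', sub_zero]; exact neg_ne_zero.2 haa
    · obtain ⟨t, -, ht⟩ := Finset.exists_mem_notMem_of_card_lt_card (s := ({0, 1, -1} : Finset F))
        (t := Finset.univ) ((Finset.card_le_three).trans_lt (by rw [Finset.card_univ]; omega))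
      simp only [Finset.mem_insert, Finset.mem_singleton, not_or] at ht
      refine ⟨a, -a, t • a, ha', by rw [polar_neg_right, ha', neg_zero], by rw [polar_smul_right, ha', smul_zero],
        hq, by rwa [QuadraticMap.map_neg], by rw [QuadraticMap.map_smul]; exact smul_ne_zero (mul_ne_zero ht.1 ht.1) hq,
        key _ a ha' ?_, key _ a ha' ?_, key _ a ha' ?_⟩
      · rw [polar_sub_left, polar_neg_left, sub_neg_eq_add, ← two_mul]; exact mul_ne_zero hg.two haa
      · rw [polar_sub_left, polar_smul_left, smul_eq_mul, show ∀ z : F, z - t * z = (1 - t) * z from fun z => by ring]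
        exact mul_ne_zero (sub_ne_zero.2 (Ne.symm ht.2.1)) haa
      · rw [polar_sub_left, polar_smul_left, polar_neg_left, smul_eq_mul,
          show ∀ z : F, -z - t * z = (-1 - t) * z from fun z => by ring]
        exact mul_ne_zero (sub_ne_zero.2 (Ne.symm ht.2.2)) haa
  obtain ⟨s₁, e₁, f₁, g₁, k₁⟩ := main a₁ h1 q1
  obtain ⟨s₂, e₂, f₂, g₂, k₂⟩ := main a₂ h2 q2
  obtain ⟨s₃, e₃, f₃, g₃, k₃⟩ := main a₃ h3 q3
  -- two of them induce the same permutation
  have moved : ∀ {a : ι → F} {s : ι → ι}, polar Q w a = 0 → Q a ≠ 0 →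
      (∀ i, ∃ t : F, app (eich Q w a) (e i) = t • e (s i)) → ∃ i, s i ≠ i := by
    intro a s ha haQ hs
    by_contra hno
    push Not at hno
    obtain ⟨c, rfl⟩ := hdiag a ha fun i => by obtain ⟨t, ht⟩ := hs i; exact ⟨t, by rwa [hno i] at ht⟩
    exact haQ (by rw [QuadraticMap.map_smul, hw, smul_zero])
  obtain ⟨i₀, hi₀⟩ := moved h1 q1 e₁
  have hS := f₁ i₀ hi₀
  have i1 : s₁ (s₁ i₀) ≠ i₀ := fun h => hi₀ (g₁ _ h)
  have i2 : s₁ (s₁ i₀) ≠ s₁ i₀ := fun h => hi₀ (by have := k₁ i₀; rw [h, h] at this; exact this)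
  have struct : ∀ {s : ι → ι}, (∀ i, s i ≠ i → Sw = {i, s i, s (s i)}) → (∀ i, s (s i) = i → s i = i) →
      (∀ i, s (s (s i)) = i) → (∃ i, s i ≠ i) →
      (∀ j, j ∉ Sw → s j = j) ∧ (s i₀ = s₁ i₀ ∧ s (s₁ i₀) = s₁ (s₁ i₀) ∧ s (s₁ (s₁ i₀)) = i₀ ∨
        s i₀ = s₁ (s₁ i₀) ∧ s (s₁ (s₁ i₀)) = s₁ i₀ ∧ s (s₁ i₀) = i₀) := by
    intro s hf hgg hk ⟨i, hi⟩
    refine ⟨fun j hj => ?_, ?_⟩
    · by_contra hne'
      exact hj (by rw [hf j hne']; simp)
    have hmoved : s i₀ ≠ i₀ := by
      intro h0
      have hmem : i₀ ∈ Sw := by rw [hS]; simp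
      rw [hf i hi] at hmem
      simp only [Finset.mem_insert, Finset.mem_singleton] at hmem
      rcases hmem with rfl | h | h
      · exact hi h0
      · rw [h] at h0; exact hi (by have := hk i; rw [h0, h0] at this; exact this)
      · rw [h, hk i] at h0; exact hi (hgg i h0.symm)
    have hmem : s i₀ ∈ Sw := by rw [hf i₀ hmoved]; simp
    have hmem2 : s (s i₀) ∈ Sw := by rw [hf i₀ hmoved]; simp
    rw [hS] at hmem hmem2
    simp only [Finset.mem_insert, Finset.mem_singleton] at hmem hmem2
    have n1 : s (s i₀) ≠ i₀ := fun h => hmoved (hgg _ h)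
    have n2 : s (s i₀) ≠ s i₀ := fun h => hmoved (by have := hk i₀; rw [h, h] at this; exact this)
    rcases hmem with h | h | h
    · exact absurd h hmoved
    · rcases hmem2 with h' | h' | h'
      · exact absurd h' n1
      · exact absurd (h'.trans h.symm) n2
      · exact Or.inl ⟨h, (congrArg s h).symm.trans h', (congrArg s h').symm.trans (hk i₀)⟩
    · rcases hmem2 with h' | h' | h'
      · exact absurd h' n1
      · exact Or.inr ⟨h, (congrArg s h).symm.trans h', (congrArg s h').symm.trans (hk i₀)⟩
      · exact absurd (h'.trans h.symm) n2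
  have close : ∀ {a b : ι → F} {s s' : ι → ι}, polar Q w a = 0 → polar Q w b = 0 →
      (∀ i, ∃ t : F, app (eich Q w a) (e i) = t • e (s i)) →
      (∀ i, ∃ t : F, app (eich Q w b) (e i) = t • e (s' i)) → (∀ i, s i = s' i) → ∃ c : F, a - b = c • w := by
    intro a b s s' ha hb hs hs' heq
    refine hdiag _ (by rw [polar_sub_right, ha, hb, sub_zero]) fun i => ?_
    obtain ⟨t, ht⟩ := hs i
    obtain ⟨t', ht'⟩ := hs' i
    refine ⟨t / t', ?_⟩
    have hsum : eich Q w a = eich Q w b * eich Q w (a - b) := by
      rw [hadd b (a - b) hb (by rw [polar_sub_right, ha, hb, sub_zero]), add_sub_cancel]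
    have h4 : app (eich Q w b) (app (eich Q w (a - b)) (e i)) = app (eich Q w b) ((t / t') • e i) := by
      rw [← app_mul, ← hsum, ht, map_smul, ht', smul_smul, div_mul_cancel₀ _ (hne ht'), heq]
    exact app_injective _ h4
  obtain ⟨o₁, -⟩ := struct f₁ g₁ k₁ ⟨i₀, hi₀⟩
  obtain ⟨o₂, c₂⟩ := struct f₂ g₂ k₂ (moved h2 q2 e₂)
  obtain ⟨o₃, c₃⟩ := struct f₃ g₃ k₃ (moved h3 q3 e₃)
  have onS : ∀ {s s' : ι → ι}, (∀ j, j ∉ Sw → s j = j) → (∀ j, j ∉ Sw → s' j = j) → s i₀ = s' i₀ →
      s (s₁ i₀) = s' (s₁ i₀) → s (s₁ (s₁ i₀)) = s' (s₁ (s₁ i₀)) → ∀ i, s i = s' i := by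
    intro s s' o o' a b c i
    by_cases hi : i ∈ Sw
    · rw [hS] at hi
      simp only [Finset.mem_insert, Finset.mem_singleton] at hi
      rcases hi with rfl | rfl | rfl <;> assumption
    · rw [o i hi, o' i hi]
  rcases c₂ with ⟨x, y, z⟩ | ⟨x, z, y⟩
  · obtain ⟨c, hc⟩ := close h1 h2 e₁ e₂ (onS o₁ o₂ x.symm (by rw [y]) (by rw [z, k₁]))
    exact n12 c hc
  rcases c₃ with ⟨x', y', z'⟩ | ⟨x', z', y'⟩
  · obtain ⟨c, hc⟩ := close h1 h3 e₁ e₃ (onS o₁ o₃ x'.symm (by rw [y']) (by rw [z', k₁]))
    exact n13 c hc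
  · obtain ⟨c, hc⟩ := close h2 h3 e₂ e₃ (onS o₂ o₃ (x.trans x'.symm) (y.trans y'.symm) (z.trans z'.symm))
    exact n23 c hc

/-- Isometries commuting with a non-scalar set that is stable under `Ω` are scalars. -/
theorem scalar_of_commute (D : Set (O Q)) (hD : ∀ g ∈ commutator (O Q), ∀ x ∈ D, g * x * g⁻¹ ∈ D) {x₀ : O Q}
    (hx₀ : x₀ ∈ D) (hns : ¬ IsScalar x₀) {y : O Q} (hy : ∀ x ∈ D, y * x = x * y) : IsScalar y := by
  classical
  let Bc : Set ((ι → F) →ₗ[F] (ι → F)) := {L | ∀ x ∈ D, ∀ z, L (app x z) = app x (L z)}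
  have hyB : app y ∈ Bc := fun x hx z => by rw [← app_mul, ← app_mul, hy x hx]
  have hinv : ∀ L ∈ Bc, ∀ x ∈ D, ∀ z, L (app x⁻¹ z) = app x⁻¹ (L z) := fun L hL x hx z => by
    apply app_injective x
    rw [← hL x hx, app_app_inv, app_app_inv]
  have hDr : ∀ v, Adm Q v → ∀ x ∈ D, refl Q v * x * refl Q v ∈ D := fun v hv x hx => by
    have e : negId Q * refl Q v * x * (negId Q * refl Q v)⁻¹ = refl Q v * x * refl Q v :=
      ext_app fun z => by
        rw [_root_.mul_inv_rev, refl_inv, inv_eq_of_mul_eq_one_right (negId_mul_self)]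
        simp [map_neg]
    exact e ▸ hD _ hv.2 x hx
  have hBstab : ∀ g ∈ commutator (O Q), ∀ L ∈ Bc, (app g⁻¹).comp (L.comp (app g)) ∈ Bc := by
    intro g hgm L hL x hx z
    simp only [LinearMap.comp_apply]
    apply app_injective g
    rw [app_app_inv]
    have e1 : app g (app x (app g⁻¹ (L (app g z)))) = app (g * x * g⁻¹) (L (app g z)) := by simp
    rw [e1, ← hL _ (hD g hgm x hx), ← app_mul, ← app_mul]
    congr 2
    group
  have hBr : ∀ v, Adm Q v → ∀ L ∈ Bc, (app (refl Q v)).comp (L.comp (app (refl Q v))) ∈ Bc := by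
    intro v hv L hL x hx z
    simp only [LinearMap.comp_apply]
    apply app_injective (refl Q v)
    rw [← app_mul (refl Q v) (refl Q v), refl_mul_self, app_one]
    have e1 : app (refl Q v) (app x (app (refl Q v) (L (app (refl Q v) z)))) =
        app (refl Q v * x * refl Q v) (L (app (refl Q v) z)) := by simp
    rw [e1, ← hL _ (hDr v hv x hx)]
    congr 1
    rw [← app_mul, ← app_mul]
    congr 2
    rw [mul_assoc, mul_assoc, refl_mul_self, mul_one]
  -- a plane invariant under all of `Bc`
  obtain ⟨v, hv, hvx⟩ : ∃ v, Adm Q v ∧ ∀ t : F, app x₀ v ≠ t • v := by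
    by_contra hno
    push Not at hno
    refine hns (scalar_of_adm hg fun v hv => ?_)
    obtain ⟨t, ht⟩ := hno v hv
    have ht0 : t ≠ 0 := fun h0 => hv.1 (by rw [← Q_app x₀ v, ht, h0, zero_smul, QuadraticMap.map_zero])
    rw [← mul_inv_eq_iff_eq_mul, refl_conj, ht, refl_smul ht0]
  set x := app x₀ v with hxdef
  let P : Submodule F (ι → F) := Submodule.span F {v, x}
  have hxQ : Q x = Q v := Q_app x₀ v
  have hlin : ∀ s t : F, s • v + t • x = 0 → s = 0 ∧ t = 0 := by
    intro s t hst
    by_cases ht : t = 0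
    · subst ht
      rw [zero_smul, add_zero, smul_eq_zero] at hst
      exact ⟨hst.resolve_right fun h => hv.1 (by rw [h, QuadraticMap.map_zero]), rfl⟩
    · exfalso
      refine hvx (-(s / t)) ?_
      have h1 : t • x = (-s) • v := by linear_combination (norm := module) hst
      calc x = t⁻¹ • (t • x) := by rw [smul_smul, inv_mul_cancel₀ ht, one_smul]
        _ = _ := by rw [h1, smul_smul]; congr 1; field_simp
  have hPB : ∀ L ∈ Bc, ∀ z ∈ P, L z ∈ P := by
    intro L hL z hz
    set w0 := x₀ * (refl Q v * x₀⁻¹ * refl Q v)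
    have hw0 : ∀ z, app w0 z = app (refl Q x) (app (refl Q v) z) := fun z => by
      rw [← app_mul, hxdef, ← refl_conj]
      congr 2
      simp only [w0]
      group
    have hc : ∀ z, L (app w0 z) = app w0 (L z) := fun z => by
      have h2 : ∀ z, L (app (refl Q v * x₀⁻¹ * refl Q v) z) = app (refl Q v * x₀⁻¹ * refl Q v) (L z) := fun z => by
        rw [show refl Q v * x₀⁻¹ * refl Q v = (refl Q v * x₀ * refl Q v)⁻¹ by
          rw [_root_.mul_inv_rev, _root_.mul_inv_rev, refl_inv, mul_assoc]]
        exact hinv L hL _ (hDr v hv x₀ hx₀) z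
      simp only [w0, app_mul x₀, hL x₀ hx₀, h2]
    have himg : ∀ z, app w0 z - z ∈ P := fun z => by
      rw [hw0, app_refl x, app_refl v]
      refine (Submodule.mem_span_pair).2 ⟨-((Q v)⁻¹ * polar Q z v),
        -((Q x)⁻¹ * polar Q x (z - ((Q v)⁻¹ * polar Q z v) • v)), ?_⟩
      rw [polar_comm (f := ⇑Q) x]
      module
    have hsurj : ∀ y ∈ P, ∃ z, app w0 z - z = y := by
      obtain ⟨r, hr1, hr2⟩ : ∃ r, polar Q v r = 0 ∧ polar Q x r = 1 := by
        obtain ⟨r, h1, h2⟩ := exists_polar_eq_zero_one (Q := Q) hg.nd (u := v) (v := x) fun hmem => by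
          obtain ⟨c, hc⟩ := Submodule.mem_span_singleton.1 hmem
          exact hvx c hc.symm
        exact ⟨r, h1, h2⟩
      have hx : app w0 ((-(Q v)) • r) - (-(Q v)) • r = x := by
        rw [hw0, app_refl_of_ortho (x := (-(Q v)) • r) (by rw [polar_smul_left, polar_comm, hr1, smul_zero]),
          app_refl, polar_smul_left, polar_comm (f := ⇑Q) r x, hr2, hxQ, smul_eq_mul, mul_one,
          mul_neg, inv_mul_cancel₀ hv.1]
        module
      set c := (Q x)⁻¹ * polar Q x v
      have hv' : app w0 ((-(1 / 2) : F) • (v - c • ((-(Q v)) • r))) - (-(1 / 2) : F) • (v - c • ((-(Q v)) • r)) = v := by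
        have h1 : app w0 v - v = (-2 : F) • v + c • x := by
          rw [hw0, app_refl_self hv.1, map_neg, app_refl, polar_comm (f := ⇑Q) v x]
          module
        have h2 : app w0 (v - c • ((-(Q v)) • r)) - (v - c • ((-(Q v)) • r)) = (-2 : F) • v := by
          rw [map_sub, map_smul]
          linear_combination (norm := module) h1 - c • hx
        rw [map_smul, ← smul_sub, h2, smul_smul]
        have := hg.two
        rw [show -(1 / 2 : F) * -2 = 1 by field_simp, one_smul]
      intro y hy
      obtain ⟨s, t, rfl⟩ := Submodule.mem_span_pair.1 hy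
      refine ⟨s • ((-(1 / 2) : F) • (v - c • ((-(Q v)) • r))) + t • ((-(Q v)) • r), ?_⟩
      conv_rhs => rw [← hv', ← hx]
      simp only [map_add, map_smul, map_sub]
      module
    obtain ⟨z', rfl⟩ := hsurj z hz
    rw [map_sub, hc]
    exact himg _
  -- an invariant line
  obtain ⟨v', hv', p, hp, hpout⟩ : ∃ v', Adm Q v' ∧ ∃ p ∈ P, app (refl Q v') p ∉ P := by
    by_contra hno
    push Not at hno
    rcases invariant_eq hg P hno with h | h
    · exact hv.1 (by
        have : v ∈ P := Submodule.subset_span (by simp)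
        rw [h, Submodule.mem_bot] at this
        rw [this, QuadraticMap.map_zero])
    · have h1 := congrArg (fun W : Submodule F (ι → F) => Module.finrank F W) h
      simp only [finrank_top, Module.finrank_fintype_fun_eq_card] at h1
      have h2 : Module.finrank F P ≤ 2 := by
        have := finrank_span_finset_le_card (R := F) ({v, x} : Finset (ι → F))
        rw [Finset.coe_pair, Set.finrank] at this
        exact this.trans Finset.card_le_two
      have := hg.three
      omega
  have hpv : polar Q p v' ≠ 0 := fun h0 => hpout (by rwa [app_refl_of_ortho h0])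
  set l := polar Q x v' • v - polar Q v v' • x with hldef
  have hlP : l ∈ P := P.sub_mem (P.smul_mem _ (Submodule.subset_span (by simp)))
    (P.smul_mem _ (Submodule.subset_span (by simp)))
  have hlfix : polar Q l v' = 0 := by
    simp only [hldef, polar_sub_left, polar_smul_left, smul_eq_mul]; ring
  have hcoef : polar Q v v' ≠ 0 ∨ polar Q x v' ≠ 0 := by
    by_contra h0
    push Not at h0
    obtain ⟨s, t, rfl⟩ := Submodule.mem_span_pair.1 hp
    exact hpv (by rw [polar_add_left, polar_smul_left, polar_smul_left, h0.1, h0.2, smul_zero, smul_zero, add_zero])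
  have hl0 : l ≠ 0 := fun h0 => by
    obtain ⟨h1, h2⟩ := hlin (polar Q x v') (-polar Q v v') (by linear_combination (norm := module) h0)
    rcases hcoef with h | h
    · exact h (neg_eq_zero.1 h2)
    · exact h h1
  have hline : ∀ z ∈ P, app (refl Q v') z ∈ P → ∃ c : F, z = c • l := by
    intro z hz hz'
    have hzv : polar Q z v' = 0 := by
      by_contra h0
      apply hpout
      have h1 := P.sub_mem hz hz'
      rw [app_refl, sub_sub_cancel, Submodule.smul_mem_iff P (mul_ne_zero (inv_ne_zero hv'.1) h0)] at h1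
      rw [app_refl]
      exact P.sub_mem hp (P.smul_mem _ h1)
    obtain ⟨s, t, rfl⟩ := Submodule.mem_span_pair.1 hz
    rw [polar_add_left, polar_smul_left, polar_smul_left, smul_eq_mul, smul_eq_mul] at hzv
    rcases hcoef with h | h
    · refine ⟨-t / polar Q v v', ?_⟩
      rw [hldef, smul_sub, smul_smul, smul_smul]
      have e1 : s = -t / polar Q v v' * polar Q x v' := by field_simp; linear_combination hzv
      have e2 : -t / polar Q v v' * polar Q v v' = -t := by field_simp
      rw [e2, ← e1]; module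
    · refine ⟨s / polar Q x v', ?_⟩
      rw [hldef, smul_sub, smul_smul, smul_smul]
      have e1 : t = -(s / polar Q x v' * polar Q v v') := by field_simp; linear_combination hzv
      have e2 : s / polar Q x v' * polar Q x v' = s := by field_simp
      rw [e2]; conv_lhs => rw [e1]
      module
  have hl : ∀ L ∈ Bc, ∃ c : F, L l = c • l := fun L hL => by
    refine hline _ (hPB L hL l hlP) ?_
    have h1 := hPB _ (hBr v' hv' L hL) l hlP
    simpa only [LinearMap.comp_apply, app_refl_of_ortho hlfix] using h1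
  -- common eigenvectors
  let CE : Set (ι → F) := {z | ∀ L ∈ Bc, ∃ c : F, L z = c • z}
  have hCE_r : ∀ v, Adm Q v → ∀ z ∈ CE, app (refl Q v) z ∈ CE := by
    intro v hv z hz L hL
    obtain ⟨c, hc⟩ := hz _ (hBr v hv L hL)
    refine ⟨c, ?_⟩
    have := congrArg (app (refl Q v)) hc
    rwa [LinearMap.comp_apply, LinearMap.comp_apply, ← app_mul (refl Q v) (refl Q v), refl_mul_self, app_one,
      map_smul] at this
  have hspan : Submodule.span F CE = ⊤ := by
    refine (invariant_eq hg _ fun v hv w hw => ?_).resolve_left fun h0 => hl0 ?_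
    · induction hw using Submodule.span_induction with
      | mem z hz => exact Submodule.subset_span (hCE_r v hv z hz)
      | zero => rw [map_zero]; exact zero_mem _
      | add a b _ _ ha hb => rw [map_add]; exact add_mem ha hb
      | smul c a _ ha => rw [map_smul]; exact Submodule.smul_mem _ c ha
    · have : l ∈ Submodule.span F CE := Submodule.subset_span hl
      rwa [h0, Submodule.mem_bot] at this
  obtain ⟨T, hTsub, hTspan, hTli⟩ := exists_linearIndependent F CE
  rw [hspan] at hTspan
  let b0 : Module.Basis T F (ι → F) := Module.Basis.mk hTli (by rw [Subtype.range_coe_subtype]; exact hTspan.ge)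
  haveI : Fintype T := FiniteDimensional.fintypeBasisIndex b0
  have hcardT : Fintype.card T = Fintype.card ι := by
    rw [← Module.finrank_eq_card_basis b0, Module.finrank_fintype_fun_eq_card]
  let e := b0.reindex (Fintype.equivOfCardEq hcardT)
  have heCE : ∀ i, e i ∈ CE := fun i => by
    simp only [e, b0, Module.Basis.reindex_apply, Module.Basis.mk_apply]
    exact hTsub (Subtype.coe_prop _)
  choose chi hchi using fun (i : ι) (L : Bc) => heCE i L.1 L.2
  by_cases hinj : ∀ i j, i ≠ j → ∃ L, chi i L ≠ chi j L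
  · -- `Ω` permutes the lines
    exfalso
    refine not_monomial hg e fun g hgm i => ?_
    have hz : app g (e i) ∈ CE := fun L hL => by
      obtain ⟨c, hc⟩ := heCE i _ (hBstab g hgm L hL)
      refine ⟨c, ?_⟩
      have := congrArg (app g) hc
      rwa [LinearMap.comp_apply, LinearMap.comp_apply, app_app_inv, map_smul] at this
    set z := app g (e i) with hzdef
    obtain ⟨j, hj⟩ : ∃ j, e.repr z j ≠ 0 := by
      by_contra hno; push Not at hno
      have hz0 : z = 0 := e.repr.injective (by rw [map_zero]; exact Finsupp.ext hno)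
      exact e.ne_zero i (app_injective g (by rw [← hzdef, hz0, map_zero]))
    refine ⟨j, e.repr z j, ?_⟩
    have only : ∀ k, k ≠ j → e.repr z k = 0 := fun k hk => by
      obtain ⟨L, hL⟩ := hinj k j hk
      obtain ⟨c, hc⟩ := hz L.1 L.2
      have coord : ∀ m, e.repr z m * chi m L = c * e.repr z m := fun m => by
        have h1 := congrArg (fun u => e.repr u m) hc
        simp only [map_smul, Finsupp.smul_apply, smul_eq_mul] at h1
        rw [← h1]
        conv_rhs => rw [← e.sum_repr z]
        simp only [map_sum, map_smul, hchi, Finsupp.finsetSum_apply, Finsupp.smul_apply, smul_eq_mul,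
          e.repr_self, Finsupp.single_apply]
        rw [Finset.sum_eq_single m (fun b _ hb => by simp [hb]) (fun h => absurd (Finset.mem_univ m) h)]
        simp
      by_contra hk0
      apply hL
      have h1 : chi k L = c := mul_left_cancel₀ hk0 (by rw [coord k, mul_comm])
      have h2 : chi j L = c := mul_left_cancel₀ hj (by rw [coord j, mul_comm])
      rw [h1, h2]
    conv_lhs => rw [← e.sum_repr z]
    exact Finset.sum_eq_single j (fun b _ hb => by rw [only b hb, zero_smul]) (fun h => absurd (Finset.mem_univ j) h)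
  · -- a common eigenspace of dimension at least two is everything
    push Not at hinj
    obtain ⟨i, j, hij, hijc⟩ := hinj
    let E : Submodule F (ι → F) := ⨅ L : Bc, LinearMap.ker ((L : (ι → F) →ₗ[F] (ι → F)) - chi i L • LinearMap.id)
    have hE : ∀ z, z ∈ E ↔ ∀ L : Bc, (L : (ι → F) →ₗ[F] (ι → F)) z = chi i L • z := fun z => by
      simp [E, Submodule.mem_iInf, sub_eq_zero]
    have hiE : e i ∈ E := (hE _).2 (hchi i)
    have hjE : e j ∈ E := (hE _).2 fun L => by rw [hchi j L, hijc L]
    rcases invariant_eq hg E (fun v hv z hz => by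
      -- a vector of `E` orthogonal to `v`
      obtain ⟨u, huE, hu0, huv⟩ : ∃ u ∈ E, u ≠ 0 ∧ polar Q u v = 0 := by
        by_cases h1 : polar Q (e i) v = 0
        · exact ⟨e i, hiE, e.ne_zero i, h1⟩
        refine ⟨polar Q (e i) v • e j - polar Q (e j) v • e i,
          E.sub_mem (E.smul_mem _ hjE) (E.smul_mem _ hiE), ?_, ?_⟩
        · intro h0
          have := congrArg (fun u => e.repr u j) h0
          simp [Ne.symm hij] at this
          exact h1 this
        · simp only [polar_sub_left, polar_smul_left, smul_eq_mul]; ring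
      rw [hE] at huE hz ⊢
      intro L
      set L' : Bc := ⟨_, hBr v hv L.1 L.2⟩
      have e1 : chi i L' = chi i L := by
        have h2 := huE L'
        simp only [L', LinearMap.comp_apply, app_refl_of_ortho huv, huE L, map_smul] at h2
        exact (smul_left_injective F hu0 h2).symm
      have h3 := congrArg (app (refl Q v)) (hz L')
      rw [e1] at h3
      simpa only [L', LinearMap.comp_apply, ← app_mul (refl Q v) (refl Q v), refl_mul_self, app_one, map_smul]
        using h3) with h0 | h1
    · rw [h0, Submodule.mem_bot] at hiE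
      exact absurd hiE (e.ne_zero i)
    · exact ⟨chi i ⟨app y, hyB⟩, fun z => (hE z).1 (h1 ▸ Submodule.mem_top) ⟨app y, hyB⟩⟩

end CfsgLib.TensorOdd
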