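import Mathlib
import Cfsg.Agent.Lib.TensorOdd.Data
import Cfsg.Agent.Lib.TensorOdd.Irred

/-!
Overgroups of the tensor stabiliser without elements supported on one row or column: an element preserving
the columns of an orthogonal frame preserves the decomposition.
-/

set_option autoImplicit false
set_option linter.unusedSectionVars false

namespace CfsgLib.TensorOdd

open Matrix QuadraticMap CfsgLib.Orth

variable {ι : Type} [Fintype ι] [DecidableEq ι] {F : Type*} [Field F] [Fintype F]
variable {q : QuadraticForm F (ι → F)} {a b : ℕ}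

namespace Data

variable (D : Data q a b)

/-- `g` fixes the rows outside `S` pointwise. -/
def Fix1 (u : Fin a → Fin a → F) (S : Finset (Fin a)) (g : O q) : Prop :=
  ∀ i, i ∉ S → ∀ y, app g (D.tp (u i) y) = D.tp (u i) y

/-- `g` fixes the columns outside `S` pointwise. -/
def Fix2 (v : Fin b → Fin b → F) (S : Finset (Fin b)) (g : O q) : Prop :=
  ∀ j, j ∉ S → ∀ x, app g (D.tp x (v j)) = D.tp x (v j)

theorem swap_fix1 (v : Fin b → Fin b → F) (S : Finset (Fin b)) (g : O q) :
    D.swap.Fix1 v S g ↔ D.Fix2 v S g :=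
  forall₃_congr fun j _ x => by rw [D.swap_tp]

theorem swap_fix2 (u : Fin a → Fin a → F) (S : Finset (Fin a)) (g : O q) :
    D.swap.Fix2 u S g ↔ D.Fix1 u S g :=
  forall₃_congr fun i _ y => by rw [D.swap_tp]

/-- An overgroup of the stabiliser in `Ω` without elements supported on one row or one column. -/
structure Over (H : Subgroup (O q)) : Prop where
  le : H ≤ commutator (O q)
  T_le : D.TT ⊓ commutator (O q) ≤ H
  cellR : ∀ u : Fin a → Fin a → F, IsFrame D.q1 u → ∀ i, ∀ h ∈ H, D.Fix1 u {i} h → h ∈ D.TT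
  cellC : ∀ v : Fin b → Fin b → F, IsFrame D.q2 v → ∀ j, ∀ h ∈ H, D.Fix2 v {j} h → h ∈ D.TT

theorem Over.swap {H : Subgroup (O q)} (h : D.Over H) : D.swap.Over H where
  le := h.le
  T_le := by rw [D.swap_TT]; exact h.T_le
  cellR v hv j g hg hf := by rw [D.swap_TT]; exact h.cellC v hv j g hg ((D.swap_fix1 v _ g).1 hf)
  cellC u hu i g hg hf := by rw [D.swap_TT]; exact h.cellR u hu i g hg ((D.swap_fix2 u _ g).1 hf)

/-- The product of an element of `H` and one of the stabiliser. -/
def InHT (H : Subgroup (O q)) (g : O q) : Prop := ∃ h ∈ H, ∃ t ∈ D.TT, g = h * t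

variable {D} {H : Subgroup (O q)}

theorem InHT.of_mem {g : O q} (hg : g ∈ H) : D.InHT H g := ⟨g, hg, 1, one_mem _, (mul_one g).symm⟩

theorem InHT.mul_TT {g t : O q} (hg : D.InHT H g) (ht : t ∈ D.TT) : D.InHT H (g * t) := by
  obtain ⟨h, hh, t', ht', rfl⟩ := hg
  exact ⟨h, hh, t' * t, mul_mem ht' ht, mul_assoc _ _ _⟩

theorem InHT.conj_mem (hT : D.TT ⊓ commutator (O q) ≤ H) {g x : O q} (hg : D.InHT H g) (hx : x ∈ D.TT ⊓ commutator (O q)) :
    g * x * g⁻¹ ∈ H := by
  obtain ⟨h, hh, t, ht, rfl⟩ := hg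
  have h1 : t * x * t⁻¹ ∈ H :=
    hT (Subgroup.mem_inf.2 ⟨D.TT.mul_mem (D.TT.mul_mem ht (Subgroup.mem_inf.1 hx).1) (D.TT.inv_mem ht),
      Subgroup.Normal.conj_mem inferInstance x (Subgroup.mem_inf.1 hx).2 t⟩)
  have := H.mul_mem (H.mul_mem hh h1) (H.inv_mem hh)
  convert this using 1
  group

theorem InHT.comm_mem (hT : D.TT ⊓ commutator (O q) ≤ H) {g x : O q} (hg : D.InHT H g) (hx : x ∈ D.TT ⊓ commutator (O q)) :
    g * x * g⁻¹ * x⁻¹ ∈ H :=
  H.mul_mem (hg.conj_mem hT hx) (H.inv_mem (hT hx))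

/-- `g` acts on the columns of `v` by the isometries `α`. -/
def ColRep (D : Data q a b) (v : Fin b → Fin b → F) (g : O q) (α : Fin b → O D.q1) : Prop :=
  ∀ j x, app g (D.tp x (v j)) = D.tp (app (α j) x) (v j)

variable (D)

theorem ext_col {v : Fin b → Fin b → F} (hv : IsFrame D.q2 v) {g g' : O q}
    (h : ∀ j x, app g (D.tp x (v j)) = app g' (D.tp x (v j))) : g = g' :=
  D.ext_tp_O fun x y => by
    rw [hv.eq_sum y, D.tp_sum_right, map_sum, map_sum]
    exact Finset.sum_congr rfl fun j _ => by rw [map_smul, map_smul, h]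

theorem colRep_L (v : Fin b → Fin b → F) (A : O D.q1) : D.ColRep v (D.L A) (fun _ => A) :=
  fun _ _ => D.L_tp _ _ _

variable {D}

theorem ColRep.mul {v : Fin b → Fin b → F} {g g' : O q} {α α' : Fin b → O D.q1} (h : D.ColRep v g α)
    (h' : D.ColRep v g' α') : D.ColRep v (g * g') (fun j => α j * α' j) := fun j x => by
  rw [app_mul, h', h, app_mul]

theorem ColRep.inv {v : Fin b → Fin b → F} {g : O q} {α : Fin b → O D.q1} (h : D.ColRep v g α) :
    D.ColRep v g⁻¹ (fun j => (α j)⁻¹) := fun j x => by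
  apply app_injective g
  rw [app_app_inv, h, app_app_inv]

theorem ColRep.eq {v : Fin b → Fin b → F} (hv : IsFrame D.q2 v) {g : O q} {α α' : Fin b → O D.q1}
    (h : D.ColRep v g α) (h' : D.ColRep v g α') (j : Fin b) : α j = α' j :=
  ext_app fun x => D.tp_left_cancel (hv.li.ne_zero j) ((h j x).symm.trans (h' j x))

/-- An element of the stabiliser with column components in `Ω`, trivial on one column, is trivial. -/
theorem eq_one_of_TT {v : Fin b → Fin b → F} (hv : IsFrame D.q2 v) {g : O q} (hg : g ∈ D.TT)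
    {γ : Fin b → O D.q1} (h : D.ColRep v g γ) (hΩ : ∀ j, γ j ∈ commutator (O D.q1)) {l : Fin b} (hl : γ l = 1) :
    ∀ j, γ j = 1 := by
  obtain ⟨B, hB⟩ : ∃ B, g = D.R B := by
    obtain ⟨B, hB⟩ := D.swap.eq_L_of_fix (g := g) (by rw [D.swap_TT]; exact hg) (hv.li.ne_zero l) fun x => by
      rw [D.swap_tp, h, hl, app_one]
    exact ⟨B, hB.trans (D.swap_L B)⟩
  intro j
  refine eq_one_of_scalar D.good1 ?_ (hΩ j)
  obtain ⟨u, hu⟩ := exists_frame D.good1.nd D.good1.two
  set e := app B (v j)
  have key : ∀ x, D.tp x e = D.tp (app (γ j) x) (v j) := fun x => by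
    rw [← h, hB, D.R_tp]
  obtain ⟨i⟩ : Nonempty (Fin a) := Fintype.card_pos_iff.1 (by have := D.good1.three; omega)
  have he0 : e ≠ 0 := fun h0 => hv.li.ne_zero j (app_injective B (by rw [map_zero]; exact h0))
  obtain ⟨t, ht0, htu, htv⟩ := D.tp_eq (hu.li.ne_zero i) he0 (key (u i))
  refine ⟨t, fun x => ?_⟩
  rcases eq_or_ne x 0 with rfl | hx
  · simp
  obtain ⟨t', -, htx, htv'⟩ := D.tp_eq hx he0 (key x)
  have ee : t'⁻¹ = t⁻¹ := smul_left_injective F he0 (htv'.symm.trans htv)
  rw [htx, inv_injective ee]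

/-- There is a non-scalar element in `Ω`. -/
theorem exists_nonscalar {n : ℕ} {Q : QuadraticForm F (Fin n → F)} (hg : IsGood Q) :
    ∃ x ∈ commutator (O Q), ¬ IsScalar x := by
  obtain ⟨v, hv, hadm⟩ := exists_adm_frame hg
  obtain ⟨i, k, hik⟩ : ∃ i k : Fin n, i ≠ k := Fintype.exists_pair_of_one_lt_card (by have := hg.three; omega)
  refine ⟨negId Q * refl Q (v i), (hadm i).2, fun h => ?_⟩
  rcases scalar_one_or hg h with e | e
  · have := congrArg (fun g => app g (v k)) e
    simp only [app_mul, app_refl_of_ortho (hv.orth k i hik.symm), app_negId, app_one] at this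
    have h2 : (2 : F) • v k = 0 := by linear_combination (norm := module) -this
    exact hv.li.ne_zero k ((smul_eq_zero.1 h2).resolve_left hg.two)
  · have := congrArg (fun g => app g (v i)) e
    simp only [app_mul, app_refl_self (hv.nz i), app_negId, neg_neg] at this
    have h2 : (2 : F) • v i = 0 := by linear_combination (norm := module) this
    exact hv.li.ne_zero i ((smul_eq_zero.1 h2).resolve_left hg.two)

/-- An element acting on columns, trivial outside a proper set of them, preserves the decomposition. -/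
theorem col_support (hO : D.Over H) : ∀ n, ∀ S : Finset (Fin b), S.card = n → n < b →
    ∀ v : Fin b → Fin b → F, IsFrame D.q2 v → ∀ h, D.InHT H h → ∀ α, D.ColRep v h α →
      (∀ j, j ∉ S → α j = 1) → h ∈ D.TT := by
  classical
  intro n
  induction n using Nat.strong_induction_on with
  | _ n ih =>
  intro S hS hn v hv h hh α hα hαS
  obtain ⟨l, hl⟩ : ∃ l, l ∉ S := by
    by_contra hno
    push Not at hno
    rw [Finset.eq_univ_iff_forall.2 hno, Finset.card_univ, Fintype.card_fin] at hS
    omega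
  have small : ∀ T : Finset (Fin b), T.card < n → ∀ v : Fin b → Fin b → F, IsFrame D.q2 v → ∀ y ∈ H,
      ∀ γ, D.ColRep v y γ → (∀ j, j ∉ T → γ j = 1) → (∀ j, γ j ∈ commutator (O D.q1)) → ∀ j, γ j = 1 := by
    intro T hT v hv y hy γ hγ hγT hγΩ
    obtain ⟨m, hm⟩ : ∃ m, m ∉ T := by
      by_contra hno
      push Not at hno
      rw [Finset.eq_univ_iff_forall.2 hno, Finset.card_univ, Fintype.card_fin] at hT
      omega
    exact eq_one_of_TT hv (ih _ hT T rfl (hT.trans hn) v hv y (InHT.of_mem hy) γ hγ hγT) hγ hγΩ (hγT m hm)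
  have triv : ∀ y ∈ H, ∀ γ, D.ColRep v y γ → (∀ j, j ∉ S → γ j = 1) →
      (∀ j, γ j ∈ commutator (O D.q1)) → ∀ j, γ j = 1 := by
    intro y hy γ hγ hγS hγΩ
    by_contra hne
    push Not at hne
    have inj : ∀ i ∈ S, ∀ y ∈ H, ∀ γ, D.ColRep v y γ → (∀ j, j ∉ S → γ j = 1) →
        (∀ j, γ j ∈ commutator (O D.q1)) → γ i = 1 → ∀ j, γ j = 1 := by
      intro i hi y hy γ hγ hγS hγΩ hγi
      refine small (S.erase i) (by rw [Finset.card_erase_of_mem hi]; have := Finset.card_pos.2 ⟨i, hi⟩; omega)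
        v hv y hy γ hγ (fun j hj => ?_) hγΩ
      by_cases hji : j = i
      · exact hji ▸ hγi
      · exact hγS j fun h' => hj (Finset.mem_erase.2 ⟨hji, h'⟩)
    have ne1 : ∀ j ∈ S, γ j ≠ 1 := fun j hj h1 => by
      obtain ⟨k, hk⟩ := hne
      exact hk (inj j hj y hy γ hγ hγS hγΩ h1 k)
    obtain ⟨i, hi⟩ : S.Nonempty := by
      obtain ⟨k, hk⟩ := hne
      exact ⟨k, by_contra fun h' => hk (hγS k h')⟩
    -- all the components are equal
    have equal : ∀ j ∈ S, γ j = γ i := by
      intro j hj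
      set Dj : Set (O D.q1) := {δ | ∃ y' ∈ H, ∃ γ', D.ColRep v y' γ' ∧ (∀ k, k ∉ S → γ' k = 1) ∧
        (∀ k, γ' k ∈ commutator (O D.q1)) ∧ δ = γ' j}
      have hstab : ∀ g ∈ commutator (O D.q1), ∀ x ∈ Dj, g * x * g⁻¹ ∈ Dj := by
        rintro g hg _ ⟨y', hy', γ', hγ', hS', hΩ', rfl⟩
        have hL : D.L g ∈ H := hO.T_le ⟨D.L_mem g, D.L_omega hg⟩
        refine ⟨D.L g * y' * (D.L g)⁻¹, H.mul_mem (H.mul_mem hL hy') (H.inv_mem hL),
          fun k => g * γ' k * g⁻¹, ((D.colRep_L v g).mul hγ').mul (D.colRep_L v g).inv,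
          fun k hk => by simp only [hS' k hk]; group, fun k => Subgroup.Normal.conj_mem inferInstance _ (hΩ' k) g, rfl⟩
      have hcomm : ∀ x ∈ Dj, ((γ i)⁻¹ * γ j) * x = x * ((γ i)⁻¹ * γ j) := by
        rintro _ ⟨y', hy', γ', hγ', hS', hΩ', rfl⟩
        have hL : D.L (γ i) ∈ H := hO.T_le ⟨D.L_mem _, D.L_omega (hγΩ i)⟩
        have hz := inj i hi (y * y' * y⁻¹ * (D.L (γ i) * y' * (D.L (γ i))⁻¹)⁻¹)
          (H.mul_mem (H.mul_mem (H.mul_mem hy hy') (H.inv_mem hy))
            (H.inv_mem (H.mul_mem (H.mul_mem hL hy') (H.inv_mem hL))))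
          (fun k => γ k * γ' k * (γ k)⁻¹ * (γ i * γ' k * (γ i)⁻¹)⁻¹)
          (((hγ.mul hγ').mul hγ.inv).mul (((D.colRep_L v _).mul hγ').mul (D.colRep_L v _).inv).inv)
          (fun k hk => by rw [hγS k hk, hS' k hk]; group)
          (fun k => mul_mem (Subgroup.Normal.conj_mem inferInstance _ (hΩ' k) _)
            (inv_mem (Subgroup.Normal.conj_mem inferInstance _ (hΩ' k) _)))
          (by group) j
        simp only [mul_inv_eq_one] at hz
        calc (γ i)⁻¹ * γ j * γ' j = (γ i)⁻¹ * (γ j * γ' j * (γ j)⁻¹) * γ j := by group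
          _ = (γ i)⁻¹ * (γ i * γ' j * (γ i)⁻¹) * γ j := by rw [hz]
          _ = γ' j * ((γ i)⁻¹ * γ j) := by group
      have hns : ¬ IsScalar (γ j) := fun hsc => ne1 j hj (eq_one_of_scalar D.good1 hsc (hγΩ j))
      have := eq_one_of_scalar D.good1
        (scalar_of_commute D.good1 Dj hstab ⟨y, hy, γ, hγ, hγS, hγΩ, rfl⟩ hns hcomm)
        (mul_mem (inv_mem (hγΩ i)) (hγΩ j))
      exact (inv_mul_eq_one.1 this).symm
    rcases lt_or_ge S.card 2 with h1 | h2
    · -- one column
      have hSi : ∀ k, k ≠ i → k ∉ S := fun k hk hkS => hk (Finset.card_le_one.1 (by omega) k hkS i hi)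
      obtain ⟨k, hk⟩ := hne
      exact hk (eq_one_of_TT hv (hO.cellC v hv i y hy fun k hk x => by
        rw [hγ, hγS k (hSi k (by simpa using hk)), app_one]) hγ hγΩ (hγS l hl) k)
    -- move one column outside
    obtain ⟨v', i', hi', hq, hR⟩ := refr_value hv h2 (hv.nz l)
    have hvl : v' l = v l := hR.2.1 l hl
    set c := γ i
    have hγ' : D.ColRep v' y (fun k => if k ∈ S then c else 1) := by
      intro k x
      by_cases hk : k ∈ S
      · simp only [if_pos hk]
        rw [(hR.2.2 k hk).eq_sum hv, D.tp_sum_right, D.tp_sum_right, map_sum]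
        exact Finset.sum_congr rfl fun m hm => by rw [map_smul, hγ, equal m hm]
      · simp only [if_neg hk, hR.2.1 k hk]
        rw [hγ, hγS k hk]
    have hli : l ≠ i' := fun h' => hl (h' ▸ hi')
    set w := v' i' - v' l
    have hwQ : D.q2 w = 2 * D.q2 (v' l) := by
      rw [show w = v' i' + -v' l from sub_eq_add_neg _ _, QuadraticMap.map_add ⇑D.q2, QuadraticMap.map_neg,
        polar_neg_right, hR.1.orth i' l hli.symm, hq, hvl]
      ring
    have hwQ0 : D.q2 w ≠ 0 := by rw [hwQ]; exact mul_ne_zero hR.1.two (hR.1.nz l)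
    set B := refl D.q2 w
    have hBi : app B (v' i') = v' l := by
      have e : polar D.q2 (v' i') w = D.q2 w := by
        simp only [w, polar_sub_right, polar_self', hR.1.orth i' l hli.symm]
        rw [show v' i' - v' l = w from rfl, hwQ, hq, hvl]; ring
      rw [app_refl, e, inv_mul_cancel₀ hwQ0, one_smul]
      simp [w]
    have hBl : app B (v' l) = v' i' := by
      rw [← hBi, ← app_mul, refl_mul_self, app_one]
    have hBo : ∀ k, k ≠ i' → k ≠ l → app B (v' k) = v' k := fun k h1 h2 =>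
      app_refl_of_ortho (by simp only [w, polar_sub_right, hR.1.orth k i' h1, hR.1.orth k l h2, sub_zero])
    let σ : Equiv.Perm (Fin b) := Equiv.swap i' l
    have hBσ : ∀ k, app B (v' k) = v' (σ k) := fun k => by
      by_cases h1 : k = i'
      · subst h1; simp [σ, hBi]
      by_cases h2 : k = l
      · subst h2; simp [σ, hBl]
      simp [σ, Equiv.swap_apply_of_ne_of_ne h1 h2, hBo k h1 h2]
    obtain ⟨u, hu⟩ := exists_frame D.good1.nd D.good1.two
    obtain ⟨A, -, hA⟩ := D.exists_L_mem hu (S := Finset.univ)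
      (by rw [Finset.card_univ]; have := D.good1.three; omega) (D.R B)
    set t := D.R B * D.L A
    have ht : t ∈ H := hO.T_le ⟨mul_mem (D.R_mem B) (D.L_mem A), hA⟩
    set cA := A * c * A⁻¹
    have hty : D.ColRep v' (t * y * t⁻¹) (fun k => if σ k ∈ S then cA else 1) := by
      intro k x
      have hσσ : app B (v' (σ k)) = v' k := by rw [hBσ, Equiv.swap_apply_self]
      have e1 : app t⁻¹ (D.tp x (v' k)) = D.tp (app A⁻¹ x) (v' (σ k)) := by
        apply app_injective t
        rw [app_app_inv, app_mul, D.L_tp, D.R_tp, app_app_inv, hσσ]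
      rw [app_mul, app_mul, e1, hγ', app_mul, D.L_tp, D.R_tp, hσσ]
      by_cases hs : σ k ∈ S
      · simp only [if_pos hs, cA, app_mul]
      · simp only [if_neg hs, app_one, app_app_inv]
    have hcc : ∀ ω ∈ commutator (O D.q1), c * (ω * cA * ω⁻¹) = ω * cA * ω⁻¹ * c := by
      intro ω hω
      have hL : D.L ω ∈ H := hO.T_le ⟨D.L_mem ω, D.L_omega hω⟩
      set y' := D.L ω * (t * y * t⁻¹) * (D.L ω)⁻¹
      have hy' : y' ∈ H := H.mul_mem (H.mul_mem hL (H.mul_mem (H.mul_mem ht hy) (H.inv_mem ht))) (H.inv_mem hL)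
      have hy'c := (((D.colRep_L v' ω).mul hty).mul (D.colRep_L v' ω).inv)
      have hcΩ : c ∈ commutator (O D.q1) := hγΩ i
      have hdΩ : ω * cA * ω⁻¹ ∈ commutator (O D.q1) :=
        Subgroup.Normal.conj_mem inferInstance _ (Subgroup.Normal.conj_mem inferInstance c hcΩ A) ω
      have hz := small (S.erase i') (by rw [Finset.card_erase_of_mem hi']; omega) v' hR.1
        (y * y' * y⁻¹ * y'⁻¹) (H.mul_mem (H.mul_mem (H.mul_mem hy hy') (H.inv_mem hy)) (H.inv_mem hy'))
        _ (((hγ'.mul hy'c).mul hγ'.inv).mul hy'c.inv) (fun k hk => ?_) (fun k => ?_)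
      · obtain ⟨m, hm, hmi⟩ : ∃ m ∈ S, m ≠ i' := Finset.exists_mem_ne (by omega) i'
        have := hz m
        have hσm : σ m = m := Equiv.swap_apply_of_ne_of_ne hmi fun h' => hl (h' ▸ hm)
        simp only [if_pos hm, hσm] at this
        rw [mul_inv_eq_one, mul_inv_eq_iff_eq_mul] at this
        exact this
      · by_cases hki : k = i'
        · subst hki
          have : σ k ∉ S := by simp [σ, hl]
          simp only [if_neg this, if_pos hi']; group
        · have hkS : k ∉ S := fun h' => hk (Finset.mem_erase.2 ⟨hki, h'⟩)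
          simp only [if_neg hkS]; group
      · have h1 : ∀ p : Prop, [Decidable p] → (if p then c else (1 : O D.q1)) ∈ commutator (O D.q1) :=
          fun p => by split_ifs; exacts [hcΩ, one_mem _]
        have h2' : (ω * (if σ k ∈ S then cA else 1) * ω⁻¹) ∈ commutator (O D.q1) := by
          split_ifs
          · exact hdΩ
          · simpa using one_mem (commutator (O D.q1))
        exact mul_mem (mul_mem (mul_mem (h1 _) h2') (inv_mem (h1 _))) (inv_mem h2')
    have hc0 : ¬ IsScalar cA := by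
      intro hsc
      rcases scalar_one_or D.good1 hsc with e | e
      · refine ne1 i hi ?_
        calc c = A⁻¹ * cA * A := by simp only [cA]; group
          _ = 1 := by rw [e]; group
      · refine negId_notMem D.good1 ?_
        rw [← e]
        exact Subgroup.Normal.conj_mem inferInstance c (hγΩ i) A
    refine ne1 i hi (eq_one_of_scalar D.good1 ?_ (hγΩ i))
    refine scalar_of_commute D.good1 {x | ∃ ω ∈ commutator (O D.q1), x = ω * cA * ω⁻¹}
      (fun g hg x ⟨ω, hω, hx⟩ => ⟨g * ω, mul_mem hg hω, by rw [hx]; group⟩)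
      ⟨1, one_mem _, by group⟩ hc0 fun x ⟨ω, hω, hx⟩ => hx ▸ hcc ω hω
  -- every component is a scalar
  have hsc : ∀ j, α j = 1 ∨ α j = negId D.q1 := by
    intro j
    refine scalar_one_or D.good1 ?_
    obtain ⟨x₀, hx₀, hns⟩ := exists_nonscalar D.good1
    refine scalar_of_commute D.good1 (commutator (O D.q1) : Set (O D.q1))
      (fun g hg x hx => Subgroup.Normal.conj_mem inferInstance x hx g) hx₀ hns fun A hA => ?_
    have hz := triv _ (hh.comm_mem hO.T_le ⟨D.L_mem A, D.L_omega hA⟩) _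
      (((hα.mul (D.colRep_L v A)).mul hα.inv).mul (D.colRep_L v A).inv)
      (fun k hk => by rw [hαS k hk]; group)
      (fun k => mul_mem (Subgroup.Normal.conj_mem inferInstance A hA (α k)) (inv_mem hA)) j
    rwa [mul_inv_eq_one, mul_inv_eq_iff_eq_mul] at hz
  have e : h = D.R (blockSign D.q2 v (Finset.univ.filter fun j => α j ≠ 1)) := D.ext_col hv fun j x => by
    rw [hα, D.R_tp, blockSign_app hv]
    rcases hsc j with e | e
    · rw [if_neg (by simp [e]), e, app_one]
    · have hne : negId D.q1 ≠ 1 := fun h1 => negId_notMem D.good1 (h1 ▸ one_mem _)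
      rw [if_pos (by simp [e, hne]), e, app_negId, D.tp_neg_left, D.tp_neg_right]
  rw [e]
  exact D.R_mem _

/-- An element preserving the columns of an orthogonal frame preserves the decomposition. -/
theorem col_frame (hO : D.Over H) {v : Fin b → Fin b → F} (hv : IsFrame D.q2 v) {g : O q} (hg : D.InHT H g)
    (hcol : ∀ j x, ∃ x', app g (D.tp x (v j)) = D.tp x' (v j)) : g ∈ D.TT := by
  classical
  have hα : ∀ j, ∃ A : O D.q1, ∀ x, app g (D.tp x (v j)) = D.tp (app A x) (v j) := by
    intro j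
    choose f hf using hcol j
    have hlin : IsLinearMap F f := by
      constructor
      · intro x y
        apply D.tp_left_cancel (hv.li.ne_zero j)
        rw [← hf, D.tp_add_left, map_add, hf, hf, ← D.tp_add_left]
      · intro c x
        apply D.tp_left_cancel (hv.li.ne_zero j)
        rw [← hf, D.tp_smul_left, map_smul, hf, ← D.tp_smul_left]
    set L := IsLinearMap.mk' f hlin
    have hL : ∀ x, D.q1 (L x) = D.q1 x := fun x => by
      have := Q_app g (D.tp x (v j))
      rw [hf, D.Q_tp, D.Q_tp] at this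
      exact mul_left_cancel₀ D.good1.two (mul_right_cancel₀ (hv.nz j) this)
    have hinj : Function.Injective L := fun x y hxy => by
      refine D.tp_left_cancel (hv.li.ne_zero j) (app_injective g ?_)
      rw [hf, hf]; exact congrArg (D.tp · (v j)) hxy
    let e := LinearEquiv.ofInjectiveEndo L hinj
    refine ⟨mkO (e : (Fin a → F) →ₗ[F] (Fin a → F)) e.symm (LinearMap.ext e.apply_symm_apply)
      (LinearMap.ext e.symm_apply_apply) hL, fun x => ?_⟩
    rw [hf x]
    congr 1
    exact (app_mkO (Q := D.q1) (e : (Fin a → F) →ₗ[F] (Fin a → F)) e.symm (LinearMap.ext e.apply_symm_apply)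
      (LinearMap.ext e.symm_apply_apply) hL x).symm
  choose α hα using hα
  obtain ⟨j₀⟩ : Nonempty (Fin b) := Fintype.card_pos_iff.1 (by have := D.good2.three; omega)
  have hrep : D.ColRep v g α := hα
  have h1 := col_support hO _ (Finset.univ.erase j₀) rfl
    (by rw [Finset.card_erase_of_mem (Finset.mem_univ _), Finset.card_univ, Fintype.card_fin]
        have := D.good2.three; simp at this; omega) v hv _ (hg.mul_TT (D.L_mem (α j₀)⁻¹)) _
    (hrep.mul (D.colRep_L v (α j₀)⁻¹)) (fun j hj => by rw [show j = j₀ by simpa using hj, mul_inv_cancel])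
  have := mul_mem h1 (D.L_mem (α j₀))
  rwa [mul_assoc, ← map_mul, inv_mul_cancel, map_one, mul_one] at this

end Data

end CfsgLib.TensorOdd
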