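import Mathlib
import Cfsg.Agent.Lib.TensorOdd.Frame
import Cfsg.Agent.Lib.TensorMax63.Slice

/-!
Slices of a tensor decomposition: images of slices read off conjugates of elements of the second factor,
and the reduction of a centraliser to the stabiliser of a singular slice.
-/

set_option autoImplicit false
set_option linter.unusedSectionVars false

namespace CfsgLib.TensorOdd

open Matrix QuadraticMap CfsgLib.Orth

variable {ι : Type} [Fintype ι] [DecidableEq ι] {F : Type*} [Field F] [Fintype F]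
variable {q : QuadraticForm F (ι → F)} {a b : ℕ}

namespace Data

variable (D : Data q a b)

theorem three_a (D : Data q a b) : 3 ≤ a := by have := D.good1.three; simpa using this

theorem three_b (D : Data q a b) : 3 ≤ b := by have := D.good2.three; simpa using this

theorem odd_a (D : Data q a b) : Odd a := by have := D.good1.odd; simpa using this

theorem odd_b (D : Data q a b) : Odd b := by have := D.good2.odd; simpa using this

theorem exists_anis (D : Data q a b) : ∃ u, D.q1 u ≠ 0 := by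
  obtain ⟨u, hu⟩ := exists_frame D.good1.nd D.good1.two
  obtain ⟨i⟩ : Nonempty (Fin a) := Fintype.card_pos_iff.1 (by have := D.three_a; simp; omega)
  exact ⟨u i, hu.nz i⟩

theorem tp_sub_right (u : Fin a → F) (v v' : Fin b → F) : D.tp u (v - v') = D.tp u v - D.tp u v' :=
  map_sub (D.tpR u) v v'

theorem tp_zero_right (u : Fin a → F) : D.tp u 0 = 0 := map_zero (D.tpR u)

theorem tp_zero_left (v : Fin b → F) : D.tp 0 v = 0 := map_zero (D.tpL v)

/-- `g` fixes the slices of the members in `P`. -/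
def FixS (v : Fin b → Fin b → F) (P : Finset (Fin b)) (g : O q) : Prop :=
  ∀ j ∈ P, ∀ x, app g (D.tp x (v j)) = D.tp x (v j)

/-- A group between the stabiliser in `Ω` and `Ω` in which the stabiliser of a singular slice preserves the
decomposition. -/
structure Proper (H : Subgroup (O q)) : Prop where
  le : H ≤ commutator (O q)
  T_le : D.TT ⊓ commutator (O q) ≤ H
  lt : a < b
  slice : ∀ g ∈ H, ∀ w, D.q2 w = 0 → w ≠ 0 → ∀ v, (∀ x, ∃ x', app g (D.tp x w) = D.tp x' v) → g ∈ D.TT

/-- A vector orthogonal to the other slices of a frame lies in the span of the remaining ones. -/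
theorem mem_cols {v : Fin b → Fin b → F} (hv : IsFrame D.q2 v) (U : Finset (Fin b)) {z : ι → F}
    (h : ∀ k, k ∉ U → ∀ x, polar q z (D.tp x (v k)) = 0) :
    ∃ x : Fin b → Fin a → F, z = ∑ k ∈ U, D.tp (x k) (v k) := by
  obtain ⟨u, hu⟩ := exists_frame D.good1.nd D.good1.two
  refine ⟨fun k => ∑ i, (polar q z (D.tp (u i) (v k)) / (2 * q (D.tp (u i) (v k)))) • u i, ?_⟩
  conv_lhs => rw [(D.isFrame_tp hu hv).eq_sum z, Fintype.sum_prod_type, Finset.sum_comm]
  refine ((Finset.sum_congr rfl fun k _ => D.tp_sum_left _ _ _ _).trans ?_).symm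
  refine Finset.sum_subset (Finset.subset_univ U) fun k _ hk => Finset.sum_eq_zero fun i _ => ?_
  rw [h k hk, zero_div, zero_smul]

theorem mem_col {v : Fin b → Fin b → F} (hv : IsFrame D.q2 v) (j : Fin b) {z : ι → F}
    (h : ∀ k, k ≠ j → ∀ x, polar q z (D.tp x (v k)) = 0) : ∃ x, z = D.tp x (v j) := by
  obtain ⟨x, hx⟩ := D.mem_cols hv {j} fun k hk => h k (by simpa using hk)
  exact ⟨x j, by rw [hx, Finset.sum_singleton]⟩

/-- The image of a map acting on the second factor with image a line. -/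
theorem range_mem {P : (ι → F) →ₗ[F] (ι → F)} {f : (Fin b → F) → (Fin b → F)}
    (hP : ∀ u y, P (D.tp u y) = D.tp u (f y)) {x : Fin b → F} (hf : ∀ y, ∃ c : F, f y = c • x) (z : ι → F) :
    ∃ u, P z = D.tp u x := by
  have h : (LinearMap.range (D.tpL x)).mkQ.comp P = 0 := D.ext_tp fun u y => by
    obtain ⟨c, hc⟩ := hf y
    rw [LinearMap.comp_apply, hP, hc, D.tp_smul_right, ← D.tp_smul_left, LinearMap.zero_apply,
      Submodule.mkQ_apply, Submodule.Quotient.mk_eq_zero]
    exact ⟨c • u, rfl⟩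
  have h1 := LinearMap.congr_fun h z
  rw [LinearMap.comp_apply, LinearMap.zero_apply, Submodule.mkQ_apply, Submodule.Quotient.mk_eq_zero] at h1
  obtain ⟨u, hu⟩ := h1
  exact ⟨u, hu.symm⟩

/-- A map between slices is linear. -/
theorem lift_slice {g : O q} {x y : Fin b → F} (hy : y ≠ 0) (hx : x ≠ 0)
    (h : ∀ u, ∃ u', app g (D.tp u x) = D.tp u' y) :
    ∃ φ : (Fin a → F) →ₗ[F] (Fin a → F), Function.Bijective φ ∧ ∀ u, app g (D.tp u x) = D.tp (φ u) y := by
  choose f hf using h
  have hlin : IsLinearMap F f := by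
    constructor
    · intro u u'
      apply D.tp_left_cancel hy
      rw [← hf, D.tp_add_left, map_add, hf, hf, ← D.tp_add_left]
    · intro c u
      apply D.tp_left_cancel hy
      rw [← hf, D.tp_smul_left, map_smul, hf, ← D.tp_smul_left]
  have hinj : Function.Injective (IsLinearMap.mk' f hlin) := fun u u' e => by
    refine D.tp_left_cancel hx (app_injective g ?_)
    rw [hf, hf]
    exact congrArg (D.tp · y) e
  exact ⟨IsLinearMap.mk' f hlin, ⟨hinj, LinearMap.surjective_of_injective hinj⟩, hf⟩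

/-- An element intertwining two maps of the second factor maps the image line of the first into a slice. -/
theorem map_range {g : O q} {P P' : (ι → F) →ₗ[F] (ι → F)} {f f' : (Fin b → F) → (Fin b → F)}
    (hP : ∀ u y, P (D.tp u y) = D.tp u (f y)) (hP' : ∀ u y, P' (D.tp u y) = D.tp u (f' y))
    (hcomm : ∀ z, app g (P z) = P' (app g z)) {x : Fin b → F} (hf : ∀ y, ∃ c : F, f y = c • x)
    {y0 : Fin b → F} (hy0 : f y0 ≠ 0) :
    ∃ v, v ≠ 0 ∧ ∀ u, ∃ u', app g (D.tp u x) = D.tp u' v := by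
  have hx : x ≠ 0 := fun h => hy0 (by
    obtain ⟨c, hc⟩ := hf y0
    rw [hc, h, smul_zero])
  obtain ⟨y1, hy1⟩ : ∃ y1, f' y1 ≠ 0 := by
    by_contra hno
    push Not at hno
    obtain ⟨u, hu⟩ := D.exists_anis
    have h0 : P' = 0 := D.ext_tp fun u y => by rw [hP', hno, D.tp_zero_right, LinearMap.zero_apply]
    have h1 := hcomm (D.tp u y0)
    rw [h0, LinearMap.zero_apply, hP] at h1
    exact D.tp_ne_zero (u := u) (fun h => hu (by rw [h, QuadraticMap.map_zero])) hy0
      (app_injective g (by rw [h1, map_zero]))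
  refine ⟨f' y1, hy1, fun u => ?_⟩
  have h : ∀ u, ∃ u', app g⁻¹ (D.tp u (f' y1)) = D.tp u' x := fun u => by
    obtain ⟨u', hu'⟩ := D.range_mem hP hf (app g⁻¹ (D.tp u y1))
    refine ⟨u', ?_⟩
    apply app_injective g
    rw [app_app_inv, ← hu', hcomm, app_app_inv, hP']
  obtain ⟨φ, hφ, hφg⟩ := D.lift_slice hx hy1 h
  obtain ⟨u', rfl⟩ := hφ.2 u
  exact ⟨u', by rw [← hφg, app_app_inv]⟩

theorem sub_one_tp (B : O D.q2) (u : Fin a → F) (y : Fin b → F) :
    (app (D.R B) - LinearMap.id : (ι → F) →ₗ[F] (ι → F)) (D.tp u y) = D.tp u (app B y - y) := by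
  rw [LinearMap.sub_apply, LinearMap.id_apply, D.R_tp, D.tp_sub_right]

omit [Fintype F] in
theorem comm_sub_one {g X Y : O q} (h : g * X * g⁻¹ = Y) (z : ι → F) :
    app g ((app X - LinearMap.id : (ι → F) →ₗ[F] (ι → F)) z) =
      (app Y - LinearMap.id : (ι → F) →ₗ[F] (ι → F)) (app g z) := by
  subst h
  simp [app_mul, app_inv_app]

/-- Conjugating a reflection into the second factor maps its slice to a slice. -/
theorem map_refl {g : O q} {x : Fin b → F} (hx : D.q2 x ≠ 0) {B : O D.q2}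
    (h : g * D.R (refl D.q2 x) * g⁻¹ = D.R B) : ∃ v, v ≠ 0 ∧ ∀ u, ∃ u', app g (D.tp u x) = D.tp u' v :=
  D.map_range (D.sub_one_tp _) (D.sub_one_tp B) (fun z => comm_sub_one h z) (x := x)
    (fun y => ⟨-((D.q2 x)⁻¹ * polar D.q2 y x), by rw [app_refl]; module⟩) (y0 := x) (by
      rw [app_refl_self hx]
      intro h0
      have : (2 : F) • x = 0 := by linear_combination (norm := module) -h0
      exact hx (by rw [(smul_eq_zero.1 this).resolve_left D.good2.two, QuadraticMap.map_zero]))

/-- A map between anisotropic slices is an isometry. -/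
theorem exists_iso {g : O q} {x v : Fin b → F} (hx : D.q2 x ≠ 0) (hv : v ≠ 0)
    (h : ∀ u, ∃ u', app g (D.tp u x) = D.tp u' v) :
    ∃ (A : O D.q1) (c : F), c ≠ 0 ∧ D.q2 (c • v) = D.q2 x ∧ ∀ u, app g (D.tp u x) = D.tp (app A u) (c • v) := by
  obtain ⟨φ, hφ, hφg⟩ := D.lift_slice hv (fun h0 => hx (by rw [h0, QuadraticMap.map_zero])) h
  have key : ∀ u u', polar D.q1 (φ u) (φ u') * (2 * D.q2 v) = polar D.q1 u u' * (2 * D.q2 x) := fun u u' => by
    have e := polar_app g (D.tp u x) (D.tp u' x)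
    rw [hφg, hφg, D.polar_tp, D.polar_tp, polar_self', polar_self'] at e
    exact e
  obtain ⟨u, hu⟩ := D.exists_anis
  have hqv : D.q2 v ≠ 0 := fun h0 => by
    have e := key u u
    rw [h0, mul_zero, mul_zero, polar_self'] at e
    exact mul_ne_zero (mul_ne_zero D.good1.two hu) (mul_ne_zero D.good2.two hx) e.symm
  classical
  obtain ⟨ν, A, hν, hν2, hA⟩ := CfsgLib.TensorMax63.similitude D.good1.nd D.good1.two D.odd_a
    (div_ne_zero hx hqv) φ fun u u' => by
      have e := key u u'
      have := D.good2.two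
      field_simp
      apply mul_left_cancel₀ this
      linear_combination e
  refine ⟨A, ν, hν, ?_, fun u => ?_⟩
  · rw [QuadraticMap.map_smul, smul_eq_mul, hν2, div_mul_cancel₀ _ hqv]
  · rw [hφg, hA, D.tp_smul_left, D.tp_smul_right]

/-- Images of slices separated by a sign map of the second factor commuting with `g`. -/
theorem orth_of_comm {v : Fin b → Fin b → F} (hv : IsFrame D.q2 v) {U : Finset (Fin b)} {g : O q}
    (hc : g * D.R (blockSign D.q2 v U) = D.R (blockSign D.q2 v U) * g) {j k : Fin b}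
    (hjk : j ∈ U ↔ k ∉ U) (x x' : Fin a → F) : polar q (app g (D.tp x (v j))) (D.tp x' (v k)) = 0 := by
  set σ := D.R (blockSign D.q2 v U)
  have hσ : ∀ (l : Fin b) (y : Fin a → F), app σ (D.tp y (v l)) =
      (if l ∈ U then (-1 : F) else 1) • D.tp y (v l) := fun l y => by
    rw [D.R_tp, blockSign_app hv]
    split_ifs <;> simp [D.tp_neg_right]
  have e := polar_app σ (app g (D.tp x (v j))) (D.tp x' (v k))
  rw [← app_mul, ← hc, app_mul, hσ, hσ, map_smul, polar_smul_left, polar_smul_right, smul_eq_mul,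
    smul_eq_mul] at e
  have h2 : (2 : F) * polar q (app g (D.tp x (v j))) (D.tp x' (v k)) = 0 := by
    by_cases hj : j ∈ U
    · rw [if_pos hj, if_neg (hjk.1 hj)] at e; linear_combination -e
    · rw [if_neg hj, if_pos (not_not.1 fun hk => hj (hjk.2 hk))] at e; linear_combination -e
  exact (mul_eq_zero.1 h2).resolve_left D.good.two

/-- Separated images give commutation with the sign map. -/
theorem comm_of_orth {v : Fin b → Fin b → F} (hv : IsFrame D.q2 v) {U : Finset (Fin b)} {g : O q}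
    (h : ∀ j k, (j ∈ U ↔ k ∉ U) → ∀ x x', polar q (app g (D.tp x (v j))) (D.tp x' (v k)) = 0) :
    g * D.R (blockSign D.q2 v U) = D.R (blockSign D.q2 v U) * g := by
  classical
  refine D.ext_col hv fun j x => ?_
  obtain ⟨y, hy⟩ := D.mem_cols hv (Finset.univ.filter fun k => (j ∈ U ↔ k ∈ U))
    (z := app g (D.tp x (v j))) fun k hk y => h j k (by
      simp only [Finset.mem_filter, Finset.mem_univ, true_and] at hk
      tauto) x y
  rw [app_mul, app_mul, D.R_tp, blockSign_app hv, hy, map_sum]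
  by_cases hj : j ∈ U
  · rw [if_pos hj, D.tp_neg_right, map_neg, hy, ← Finset.sum_neg_distrib]
    refine Finset.sum_congr rfl fun k hk => ?_
    rw [D.R_tp, blockSign_app hv, if_pos ((Finset.mem_filter.1 hk).2.1 hj), D.tp_neg_right]
  · rw [if_neg hj, hy]
    refine Finset.sum_congr rfl fun k hk => ?_
    rw [D.R_tp, blockSign_app hv, if_neg fun hk' => hj ((Finset.mem_filter.1 hk).2.2 hk')]

theorem FixS.inv {v : Fin b → Fin b → F} {P : Finset (Fin b)} {g : O q} (h : D.FixS v P g) :
    D.FixS v P g⁻¹ := fun j hj x => by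
  apply app_injective g
  rw [app_app_inv, h j hj]

theorem FixS.orth {v : Fin b → Fin b → F} (hv : IsFrame D.q2 v) {P : Finset (Fin b)} {g : O q}
    (h : D.FixS v P g) {j k : Fin b} (hk : k ∈ P) (hjk : j ≠ k) (x x' : Fin a → F) :
    polar q (app g (D.tp x (v j))) (D.tp x' (v k)) = 0 := by
  conv_lhs => rw [← h k hk x']
  rw [polar_app, D.polar_tp, hv.orth j k hjk, mul_zero]

/-- An element of the stabiliser fixing a slice pointwise lies in the second factor. -/
theorem eq_R_of_fix {g : O q} (hg : g ∈ D.TT) {y : Fin b → F} (hy : y ≠ 0)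
    (h : ∀ x, app g (D.tp x y) = D.tp x y) : ∃ B, app B y = y ∧ g = D.R B := by
  obtain ⟨B, hB⟩ := D.swap.eq_L_of_fix (g := g) (by rw [D.swap_TT]; exact hg) hy fun x => by
    rw [D.swap_tp]; exact h x
  obtain ⟨B, hB'⟩ : ∃ B' : O D.q2, g = D.R B' := ⟨B, hB.trans (D.swap_L B)⟩
  obtain ⟨u, hu⟩ := D.exists_anis
  refine ⟨B, D.tp_right_cancel (u := u) (fun h0 => hu (by rw [h0, QuadraticMap.map_zero])) ?_, hB'⟩
  rw [← D.R_tp, ← hB', h]

theorem eich_mem {w b0 : Fin b → F} (hw : D.q2 w = 0) (hwb : polar D.q2 w b0 = 0) :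
    D.R (eich D.q2 w b0) ∈ D.TT ⊓ commutator (O q) := by
  classical
  exact Subgroup.mem_inf.2 ⟨D.R_mem _,
    D.R_omega (CfsgLib.TensorMax63.eich_mem_commutator D.good2.nd D.good2.two hw hwb)⟩

/-- A vector orthogonal to the slices of `w` and `b0` is fixed by their Eichler element. -/
theorem R_eich_fix {w b0 : Fin b → F} (hw : D.q2 w = 0) (hwb : polar D.q2 w b0 = 0) {z : ι → F}
    (h1 : ∀ x, polar q z (D.tp x w) = 0) (h2 : ∀ x, polar q z (D.tp x b0) = 0) :
    app (D.R (eich D.q2 w b0)) z = z := by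
  set E := eich D.q2 w b0
  have key : q.polarBilin (app (D.R E) z) = q.polarBilin z := D.ext_tp fun x y => by
    rw [polarBilin_apply_apply, polarBilin_apply_apply]
    obtain ⟨y', rfl⟩ : ∃ y', app E y' = y := ⟨app E⁻¹ y, app_app_inv E y⟩
    conv_lhs => rw [← D.R_tp, polar_app]
    rw [app_eich hw hwb, D.tp_add_right, D.tp_add_right, polar_add_right, polar_add_right, D.tp_smul_right,
      D.tp_smul_right, polar_smul_right, polar_smul_right, h1, h2, smul_zero, smul_zero, add_zero, add_zero]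
  exact sub_eq_zero.1 (eq_zero_of_polar D.good.nd fun y => by
    rw [polar_sub_left, sub_eq_zero]
    exact LinearMap.congr_fun key y)

variable {D} {H : Subgroup (O q)}

theorem Proper.five (hP : D.Proper H) : 5 ≤ b := by
  have h1 := D.three_a
  have h2 := hP.lt
  obtain ⟨k, hk⟩ := D.odd_b
  omega

theorem slice_InHT (hP : D.Proper H) {g : O q} (hg : D.InHT H g) {w v : Fin b → F} (hw : D.q2 w = 0)
    (hw0 : w ≠ 0) (h : ∀ x, ∃ x', app g (D.tp x w) = D.tp x' v) : g ∈ D.TT := by
  obtain ⟨h', hh, t, ht, rfl⟩ := hg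
  obtain ⟨A, B, rfl⟩ := D.mem_TT.1 ht
  refine mul_mem (hP.slice h' hh (app B w) (by rw [Q_app]; exact hw)
    (fun h0 => hw0 (app_injective B (by rw [h0, map_zero]))) v fun x => ?_) ht
  obtain ⟨x', hx'⟩ := h (app A⁻¹ x)
  exact ⟨x', by rw [app_mul, D.ten_tp, app_app_inv] at hx'; exact hx'⟩

theorem slice_of_eich (hP : D.Proper H) {g : O q} (hg : D.InHT H g) {w b0 : Fin b → F} (hw : D.q2 w = 0)
    (hw0 : w ≠ 0) (hwb : polar D.q2 w b0 = 0) (hb : D.q2 b0 ≠ 0) {B : O D.q2}
    (h : g * D.R (eich D.q2 w b0) * g⁻¹ = D.R B) : g ∈ D.TT := by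
  set E := eich D.q2 w b0
  set P : (ι → F) →ₗ[F] (ι → F) := app (D.R E) - LinearMap.id
  set P' : (ι → F) →ₗ[F] (ι → F) := app (D.R B) - LinearMap.id
  have hbw : polar D.q2 b0 w = 0 := by rw [polar_comm]; exact hwb
  have hww : polar D.q2 w w = 0 := by rw [polar_self', hw, mul_zero]
  have hE : ∀ y, app E y - y = polar D.q2 y w • b0 + (-(polar D.q2 y b0) - D.q2 b0 * polar D.q2 y w) • w :=
    fun y => by rw [app_eich hw hwb]; abel
  obtain ⟨y0, hy0⟩ := exists_polar_eq_one D.good2.nd hw0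
  have hf : ∀ y, app E (app E y - y) - (app E y - y) = (-(2 * D.q2 b0 * polar D.q2 y w)) • w := fun y => by
    rw [hE (app E y - y), hE y]
    simp only [polar_add_left, polar_smul_left, hbw, hww, hwb, polar_self', smul_eq_mul]
    module
  obtain ⟨v, -, hv⟩ := D.map_range (g := g) (P := P.comp P) (P' := P'.comp P')
    (f := fun y => app E (app E y - y) - (app E y - y)) (f' := fun y => app B (app B y - y) - (app B y - y))
    (fun u y => by rw [LinearMap.comp_apply, D.sub_one_tp, D.sub_one_tp])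
    (fun u y => by rw [LinearMap.comp_apply, D.sub_one_tp, D.sub_one_tp])
    (fun z => by rw [LinearMap.comp_apply, LinearMap.comp_apply, comm_sub_one h, comm_sub_one h])
    (x := w) (fun y => ⟨_, hf y⟩) (y0 := y0) (by
      rw [hf, polar_comm (f := ⇑D.q2) y0 w, hy0, mul_one]
      exact smul_ne_zero (neg_ne_zero.2 (mul_ne_zero D.good2.two hb)) hw0)
  exact slice_InHT hP hg hw hw0 hv

/-- A centraliser containing an Eichler element modulo fixed slices preserves the decomposition. -/
theorem eich_part (hP : D.Proper H) {v : Fin b → Fin b → F} (hv : IsFrame D.q2 v) {P : Finset (Fin b)}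
    (hP0 : P.Nonempty) (hfix : ∀ z, D.InHT H z → D.FixS v P z → z ∈ D.TT) {g : O q} (hg : D.InHT H g)
    {w b0 : Fin b → F} (hw : D.q2 w = 0) (hw0 : w ≠ 0) (hwb : polar D.q2 w b0 = 0) (hb : D.q2 b0 ≠ 0)
    (hv1 : ∀ j ∈ P, polar D.q2 (v j) w = 0 ∧ polar D.q2 (v j) b0 = 0)
    (horth : ∀ j ∈ P, ∀ x x', polar q (app g⁻¹ (D.tp x (v j))) (D.tp x' w) = 0 ∧
      polar q (app g⁻¹ (D.tp x (v j))) (D.tp x' b0) = 0) : g ∈ D.TT := by
  have hX := D.eich_mem hw hwb
  set X := D.R (eich D.q2 w b0)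
  have hz : D.FixS v P (g * X * g⁻¹ * X⁻¹) := fun j hj x => by
    have h1 : app X⁻¹ (D.tp x (v j)) = D.tp x (v j) := by
      apply app_injective X
      rw [app_app_inv, D.R_tp, app_eich hw hwb, (hv1 j hj).1, (hv1 j hj).2]
      simp
    rw [app_mul, app_mul, app_mul, h1, D.R_eich_fix hw hwb (fun x' => (horth j hj x x').1)
      (fun x' => (horth j hj x x').2), app_app_inv]
  have hT := hfix _ (InHT.of_mem (hg.comm_mem hP.T_le hX)) hz
  obtain ⟨j, hj⟩ := hP0
  obtain ⟨B, -, hB⟩ := D.eq_R_of_fix hT (hv.li.ne_zero j) (hz j hj)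
  refine slice_of_eich hP hg hw hw0 hwb hb (B := B * eich D.q2 w b0) ?_
  rw [map_mul, ← hB, inv_mul_cancel_right]

end Data

end CfsgLib.TensorOdd
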