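import Mathlib
import Cfsg.Agent.Lib.TensorOdd.Slices
import Cfsg.Agent.Lib.TensorOdd.Signs

/-!
A proper overgroup has no elements supported on one row or one column; an element conjugating the
reflections of an orthogonal frame of the second factor into that factor preserves the decomposition.
-/

set_option autoImplicit false
set_option linter.unusedSectionVars false

namespace CfsgLib.TensorOdd

open Matrix QuadraticMap CfsgLib.Orth

variable {ι : Type} [Fintype ι] [DecidableEq ι] {F : Type*} [Field F] [Fintype F]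
variable {q : QuadraticForm F (ι → F)} {a b : ℕ}

/-- A singular vector and an orthogonal anisotropic one in a block with three members. -/
theorem exists_eich_block {κ μ : Type} [Fintype κ] [DecidableEq κ] [Fintype μ] [DecidableEq μ]
    {Q : QuadraticForm F (μ → F)} {v : κ → μ → F} (hv : IsFrame Q v) {S : Finset κ} (hS : 3 ≤ S.card) :
    ∃ w b0, InBlock Q v S w ∧ InBlock Q v S b0 ∧ Q w = 0 ∧ w ≠ 0 ∧ polar Q w b0 = 0 ∧ Q b0 ≠ 0 := by
  obtain ⟨i, hi⟩ := Finset.card_pos.1 (show 0 < S.card by omega)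
  obtain ⟨v', k, hk, hq, hR⟩ := refr_value hv (S := S.erase i)
    (by rw [Finset.card_erase_of_mem hi]; omega) (neg_ne_zero.2 (hv.nz i))
  obtain ⟨l, hl⟩ := Finset.card_pos.1 (show 0 < ((S.erase i).erase k).card by
    rw [Finset.card_erase_of_mem hk, Finset.card_erase_of_mem hi]; omega)
  obtain ⟨hlk, hlS⟩ := Finset.mem_erase.1 hl
  have hsub := Finset.erase_subset i S
  have hki := (Finset.mem_erase.1 hk).1
  have hli := (Finset.mem_erase.1 hlS).1
  have hvi : v' i = v i := hR.2.1 i (Finset.notMem_erase i S)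
  refine ⟨v i + v' k, v' l, (InBlock.vec hv hi).add ((hR.2.2 k hk).mono hsub), (hR.2.2 l hlS).mono hsub,
    ?_, fun h0 => ?_, ?_, hR.1.nz l⟩
  · rw [QuadraticMap.map_add ⇑Q, hq, ← hvi, hR.1.orth i k hki.symm]; ring
  · have h1 := congrArg (fun z => polar Q z (v' i)) h0
    rw [← hvi] at h1
    simp only [polar_add_left, polar_zero_left, hR.1.orth k i hki, add_zero] at h1
    exact hR.1.polar_self_ne i h1
  · rw [← hvi, polar_add_left, hR.1.orth i l hli.symm, hR.1.orth k l hlk.symm, add_zero]

/-- A singular vector orthogonal to few vectors. -/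
theorem exists_singular_perp {μ : Type} [Fintype μ] [DecidableEq μ] {Q : QuadraticForm F (μ → F)}
    (hQ : Q.polarBilin.Nondegenerate) {k : ℕ} (x : Fin k → μ → F) (hn : k + 3 ≤ Fintype.card μ) :
    ∃ w, w ≠ 0 ∧ Q w = 0 ∧ ∀ i, polar Q (x i) w = 0 := by
  let W := LinearMap.BilinForm.orthogonal Q.polarBilin (Submodule.span F (Set.range x))
  have h3 : 3 ≤ Module.finrank F W := by
    rw [LinearMap.BilinForm.finrank_orthogonal hQ, Module.finrank_fintype_fun_eq_card]
    have h2 := finrank_range_le_card (R := F) x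
    rw [Set.finrank, Fintype.card_fin] at h2
    omega
  obtain ⟨w, hw, hw0, hqw⟩ := CfsgLib.POmega.exists_singular_mem W h3
  exact ⟨w, hw0, hqw, fun i =>
    LinearMap.BilinForm.mem_orthogonal_iff.1 hw (x i) (Submodule.subset_span ⟨i, rfl⟩)⟩

namespace Data

variable {D : Data q a b} {H : Subgroup (O q)}

theorem tp_block_fix {v : Fin b → Fin b → F} (hv : IsFrame D.q2 v) {P : Finset (Fin b)} {g : O q}
    (hf : D.FixS v P g) {y : Fin b → F} (hy : InBlock D.q2 v P y) (x : Fin a → F) :
    app g (D.tp x y) = D.tp x y := by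
  rw [hy.eq_sum hv, D.tp_sum_right, map_sum]
  exact Finset.sum_congr rfl fun j hj => by rw [map_smul, hf j hj]

theorem fix_big (hP : D.Proper H) {v : Fin b → Fin b → F} (hv : IsFrame D.q2 v) {P : Finset (Fin b)}
    (h3 : 3 ≤ P.card) {g : O q} (hg : D.InHT H g) (hf : D.FixS v P g) : g ∈ D.TT := by
  obtain ⟨w, -, hwP, -, hw, hw0, -⟩ := exists_eich_block hv h3
  exact slice_InHT hP hg hw hw0 fun x => ⟨x, tp_block_fix hv hf hwP x⟩

theorem cell_col (hP : D.Proper H) {v : Fin b → Fin b → F} (hv : IsFrame D.q2 v) (j : Fin b) {h : O q}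
    (hh : h ∈ H) (hf : D.Fix2 v {j} h) : h ∈ D.TT :=
  fix_big hP hv (P := Finset.univ.erase j)
    (by rw [Finset.card_erase_of_mem (Finset.mem_univ j), Finset.card_univ, Fintype.card_fin]
        have := hP.five; omega)
    (InHT.of_mem hh) fun k hk x => hf k (by simpa using (Finset.mem_erase.1 hk).1) x

theorem cell_row (hP : D.Proper H) {u : Fin a → Fin a → F} (hu : IsFrame D.q1 u) (i : Fin a) {h : O q}
    (hh : h ∈ H) (hf : D.Fix1 u {i} h) : h ∈ D.TT := by
  classical
  have hrow : ∀ y, ∃ y', app h (D.swap.tp y (u i)) = D.swap.tp y' (u i) := fun y =>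
    D.swap.mem_col hu i fun k hk y' => by
      rw [D.swap_tp, D.swap_tp]
      conv_lhs => rw [← hf k (by simpa using hk) y']
      rw [polar_app, D.polar_tp, hu.orth i k hk.symm, zero_mul]
  obtain ⟨A', c, hc, hqc, hA⟩ := D.swap.exists_iso (g := h) (hu.nz i) (hu.li.ne_zero i) hrow
  obtain ⟨A, hA'⟩ : ∃ A : O D.q2, ∀ y, app h (D.tp (u i) y) = c • D.tp (u i) (app A y) := ⟨A', fun y => by
    have e := hA y
    rw [D.swap_tp, D.swap_tp, D.tp_smul_left] at e
    exact e⟩
  have hi : ∀ y, app h⁻¹ (D.tp (u i) y) = c⁻¹ • D.tp (u i) (app A⁻¹ y) := fun y => by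
    apply app_injective h
    rw [app_app_inv, map_smul, hA', smul_smul, inv_mul_cancel₀ hc, one_smul, app_app_inv]
  have hk : ∀ k, k ≠ i → ∀ y, app h⁻¹ (D.tp (u k) y) = D.tp (u k) y := fun k hk y => by
    apply app_injective h
    rw [app_app_inv, hf k (by simpa using hk) y]
  -- commutation with the admissible reflections
  have hcomm : ∀ x, Adm D.q2 x → A * refl D.q2 x = refl D.q2 x * A := by
    intro x hx
    set n := negId D.q2 * refl D.q2 x with hn
    have hn2 : n⁻¹ = n := inv_eq_of_mul_eq_one_right (negId_refl_invol x)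
    have hX : D.R n ∈ D.TT ⊓ commutator (O q) := Subgroup.mem_inf.2 ⟨D.R_mem _, D.R_omega hx.2⟩
    set z := h * D.R n * h⁻¹ * (D.R n)⁻¹ with hz
    have hzH : z ∈ H := (InHT.of_mem hh).comm_mem hP.T_le hX
    have hz1 : ∀ y, app z (D.tp (u i) y) = D.tp (u i) (app (A * n * A⁻¹ * n⁻¹) y) := fun y => by
      simp only [hz, app_mul]
      rw [← map_inv, D.R_tp, hi, map_smul, D.R_tp, map_smul, hA', smul_smul, inv_mul_cancel₀ hc, one_smul]
    have hz2 : ∀ k, k ≠ i → ∀ y, app z (D.tp (u k) y) = D.tp (u k) y := fun k hki y => by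
      simp only [hz, app_mul]
      rw [← map_inv, D.R_tp, hk k hki, D.R_tp, hf k (by simpa using hki), app_app_inv]
    obtain ⟨w, hw0, hqw, hperp⟩ := exists_singular_perp D.good2.nd ![x, app A x]
      (by rw [Fintype.card_fin]; have := hP.five; omega)
    have hwx : polar D.q2 w x = 0 := by rw [polar_comm]; exact hperp 0
    have hwA : polar D.q2 w (app A x) = 0 := by rw [polar_comm]; exact hperp 1
    have hB : app (A * n * A⁻¹ * n⁻¹) w = w := by
      have e : A * n * A⁻¹ * n⁻¹ = refl D.q2 (app A x) * refl D.q2 x := by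
        rw [← refl_conj, hn2, hn, ← mul_assoc A, ← negId_comm A]
        calc negId D.q2 * A * refl D.q2 x * A⁻¹ * (negId D.q2 * refl D.q2 x)
            = negId D.q2 * (A * refl D.q2 x * A⁻¹) * negId D.q2 * refl D.q2 x := by group
          _ = _ := by rw [negId_comm (A * refl D.q2 x * A⁻¹), mul_assoc _ (negId D.q2) (negId D.q2),
                negId_mul_self, mul_one]
      rw [e, app_mul, app_refl_of_ortho hwx, app_refl_of_ortho hwA]
    have hzw : ∀ y, app z (D.tp y w) = D.tp y w := fun y => by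
      rw [hu.eq_sum y, D.tp_sum_left, map_sum]
      refine Finset.sum_congr rfl fun k _ => ?_
      rw [map_smul]
      by_cases hki : k = i
      · subst hki; rw [hz1, hB]
      · rw [hz2 k hki]
    obtain ⟨B, -, hB'⟩ := D.eq_R_of_fix (slice_InHT hP (InHT.of_mem hzH) hqw hw0 fun y => ⟨y, hzw y⟩) hw0 hzw
    obtain ⟨k, hki⟩ : ∃ k, k ≠ i := by
      obtain ⟨k, hk⟩ := Finset.card_pos.1 (show 0 < (Finset.univ.erase i).card by
        rw [Finset.card_erase_of_mem (Finset.mem_univ i), Finset.card_univ, Fintype.card_fin]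
        have := D.three_a; omega)
      exact ⟨k, (Finset.mem_erase.1 hk).1⟩
    have hB1 : B = 1 := ext_app fun y => D.tp_right_cancel (hu.li.ne_zero k) (by
      rw [← D.R_tp, ← hB', hz2 k hki, app_one])
    have h1 : A * n * A⁻¹ * n⁻¹ = 1 := ext_app fun y => D.tp_right_cancel (hu.li.ne_zero i) (by
      rw [← hz1, hB', hB1, map_one, app_one, app_one])
    rw [mul_inv_eq_one, mul_inv_eq_iff_eq_mul, hn, ← mul_assoc, ← negId_comm A, mul_assoc, mul_assoc] at h1
    exact mul_left_cancel h1
  obtain ⟨e, he1, he⟩ : ∃ e : F, e * e = 1 ∧ ∀ y, app h (D.tp (u i) y) = e • D.tp (u i) y := by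
    have hc2 : c * c = 1 := by
      refine mul_right_cancel₀ (hu.nz i) ?_
      have : D.q1 (c • u i) = D.q1 (u i) := hqc
      rw [QuadraticMap.map_smul, smul_eq_mul] at this
      rw [one_mul]; exact this
    rcases scalar_one_or D.good2 (scalar_of_adm D.good2 hcomm) with e | e
    · exact ⟨c, hc2, fun y => by rw [hA', e, app_one]⟩
    · exact ⟨-c, by linear_combination hc2, fun y => by rw [hA', e, app_negId, D.tp_neg_right, smul_neg, neg_smul]⟩
  rcases mul_self_eq_one_iff.1 he1 with rfl | rfl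
  · rw [show h = 1 from D.swap.ext_col hu fun k y => by
      rw [D.swap_tp, app_one]
      by_cases hki : k = i
      · subst hki; rw [he, one_smul]
      · exact hf k (by simpa using hki) y]
    exact one_mem _
  · rw [show h = D.L (refl D.q1 (u i)) from D.swap.ext_col hu fun k y => by
      rw [D.swap_tp, D.L_tp]
      by_cases hki : k = i
      · subst hki; rw [he, app_refl_self (hu.nz _), D.tp_neg_left, neg_one_smul]
      · rw [app_refl_of_ortho (hu.orth k i hki)]; exact hf k (by simpa using hki) y]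
    exact D.L_mem _

theorem Proper.over (hP : D.Proper H) : D.Over H where
  le := hP.le
  T_le := hP.T_le
  cellR _ hu i _ hh hf := cell_row hP hu i hh hf
  cellC _ hv j _ hh hf := cell_col hP hv j hh hf

variable (D)

/-- The elements of the second factor which `g` conjugates into the second factor. -/
noncomputable def KK (g : O q) : Subgroup (O D.q2) := D.R.range.comap ((MulAut.conj g).toMonoidHom.comp D.R)

theorem mem_KK {g : O q} {B : O D.q2} : B ∈ D.KK g ↔ ∃ B', g * D.R B * g⁻¹ = D.R B' :=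
  ⟨fun ⟨B', h⟩ => ⟨B', h.symm⟩, fun ⟨B', h⟩ => ⟨B', h.symm⟩⟩

theorem mem_KK_of_comm {g : O q} {B : O D.q2} (h : g * D.R B = D.R B * g) : B ∈ D.KK g :=
  D.mem_KK.2 ⟨B, by rw [h, mul_inv_cancel_right]⟩

variable {D}

/-- Conjugating the reflections of a frame into the second factor forces the decomposition to be preserved. -/
theorem transfer (hP : D.Proper H) {v : Fin b → Fin b → F} (hv : IsFrame D.q2 v) {g : O q}
    (hg : D.InHT H g) (hK : ∀ j, refl D.q2 (v j) ∈ D.KK g) : g ∈ D.TT := by
  have key : ∀ j, ∃ (A : O D.q1) (y : Fin b → F), D.q2 y = D.q2 (v j) ∧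
      ∀ x, app g (D.tp x (v j)) = D.tp (app A x) y := fun j => by
    obtain ⟨B, hB⟩ := D.mem_KK.1 (hK j)
    obtain ⟨w, hw0, hw⟩ := D.map_refl (hv.nz j) hB
    obtain ⟨A, c, -, hq, hA⟩ := D.exists_iso (hv.nz j) hw0 hw
    exact ⟨A, c • w, hq, hA⟩
  choose A y hy hA using key
  obtain ⟨u, hu⟩ := D.exists_anis
  have hy' : IsFrame D.q2 y := ⟨rfl, fun i j hij => by
      have e := polar_app g (D.tp (app (A i)⁻¹ u) (v i)) (D.tp (app (A j)⁻¹ u) (v j))
      rw [hA, hA, app_app_inv, app_app_inv, D.polar_tp, D.polar_tp, hv.orth i j hij, mul_zero, polar_self'] at e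
      exact (mul_eq_zero.1 e).resolve_left (mul_ne_zero D.good1.two hu),
    fun i => hy i ▸ hv.nz i, D.good2.two⟩
  obtain ⟨B, hB⟩ := CfsgLib.POmega.exists_O_map D.good2.nd y v hy'.li hv.li hy fun i j => by
    by_cases h : i = j
    · subst h; rw [polar_self', polar_self', hy]
    · rw [hy'.orth i j h, hv.orth i j h]
  have h := col_frame hP.over hy' (hg.mul_TT (D.R_mem B)) fun j x =>
    ⟨app (A j) x, by rw [app_mul, D.R_tp, hB, hA]⟩
  simpa using mul_mem h (inv_mem (D.R_mem B))

end Data

end CfsgLib.TensorOdd
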