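import Mathlib
import Cfsg.Agent.Lib.TensorOdd.Cells

/-!
In a proper overgroup an element fixing a non-degenerate slice of the second factor pointwise preserves the
decomposition: induction on the number of fixed slices, with a dihedral group for each admissible reflection.
-/

set_option autoImplicit false
set_option linter.unusedSectionVars false

namespace CfsgLib.TensorOdd

open Matrix QuadraticMap CfsgLib.Orth

variable {ι : Type} [Fintype ι] [DecidableEq ι] {F : Type*} [Field F] [Fintype F]
variable {q : QuadraticForm F (ι → F)} {a b : ℕ}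

namespace Data

variable {D : Data q a b} {H : Subgroup (O q)}

/-- The statement of the descent for frames with more than `n` fixed slices. -/
def FixAbove (D : Data q a b) (H : Subgroup (O q)) (n : ℕ) : Prop :=
  ∀ v : Fin b → Fin b → F, IsFrame D.q2 v → ∀ P : Finset (Fin b), n < P.card →
    ∀ z, D.InHT H z → D.FixS v P z → z ∈ D.TT

theorem FixS.comm_single {v : Fin b → Fin b → F} (hv : IsFrame D.q2 v) {P : Finset (Fin b)} {g : O q}
    (hf : D.FixS v P g) {j : Fin b} (hj : j ∈ P) :
    g * D.R (refl D.q2 (v j)) = D.R (refl D.q2 (v j)) * g := by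
  rw [← blockSign_single (Q := D.q2) (v := v) j]
  refine D.comm_of_orth hv fun k l hkl x x' => ?_
  simp only [Finset.mem_singleton] at hkl
  by_cases hk : k = j
  · subst hk
    rw [hf k hj x, D.polar_tp, hv.orth k l (Ne.symm (hkl.1 rfl)), mul_zero]
  · have hl : l = j := not_not.1 fun h => hk (hkl.2 h)
    subst hl
    exact hf.orth D hv hj hk x x'

theorem small_part (hP : D.Proper H) {v : Fin b → Fin b → F} (hv : IsFrame D.q2 v) {P : Finset (Fin b)}
    (hP0 : P.Nonempty) (IH : D.FixAbove H P.card) {V : Finset (Fin b)} (hV0 : V.Nonempty)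
    (hVP : Disjoint V P) (hW : P ∪ V ≠ Finset.univ) (hV2 : V.card ≤ 2) {g : O q} (hg : D.InHT H g)
    (hf : D.FixS v P g) (hc : g * D.R (blockSign D.q2 v V) = D.R (blockSign D.q2 v V) * g) :
    ∃ v', Refr D.q2 v v' V ∧ ∀ k ∈ V, refl D.q2 (v' k) ∈ D.KK g := by
  classical
  have hcK : blockSign D.q2 v V ∈ D.KK g := D.mem_KK_of_comm hc
  rcases lt_or_ge V.card 2 with h1 | h2
  · obtain ⟨k, rfl⟩ := Finset.card_eq_one.1 (le_antisymm (by omega) hV0.card_pos)
    exact ⟨v, Refr.refl' hv _, fun l hl => by
      rw [Finset.mem_singleton.1 hl, ← blockSign_single (Q := D.q2) (v := v) k]; exact hcK⟩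
  obtain ⟨j0, hj0⟩ := hP0
  have hj0V : j0 ∉ V := fun h => Finset.disjoint_left.1 hVP h hj0
  obtain ⟨v', i, hi, hqi, hR⟩ := refr_value hv h2 (hv.nz j0)
  refine ⟨v', hR, ?_⟩
  have hij : i ≠ j0 := fun h => hj0V (h ▸ hi)
  set B := refl D.q2 (v' i) * refl D.q2 (v j0) with hBdef
  have hBΩ : B ∈ commutator (O D.q2) := pair_mem D.good2 (hR.1.nz i) hqi
  have hX : D.R B ∈ D.TT ⊓ commutator (O q) := Subgroup.mem_inf.2 ⟨D.R_mem _, D.R_omega hBΩ⟩
  have hBfix : ∀ k, k ∉ V → k ≠ j0 → app B (v k) = v k := fun k hk hk0 => by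
    rw [hBdef, app_mul, app_refl_of_ortho (hv.orth k j0 hk0),
      app_refl_of_ortho (by rw [polar_comm]; exact hR.2.2 i hi k hk)]
  have hB0 : app B (v j0) = -v j0 := by
    rw [hBdef, app_mul, app_refl_self (hv.nz j0), map_neg,
      app_refl_of_ortho (by rw [polar_comm]; exact hR.2.2 i hi j0 hj0V)]
  -- the commutator fixes the slices outside the part
  have hz : D.FixS v Vᶜ (g * D.R B * g⁻¹ * (D.R B)⁻¹) := fun j hj x => by
    rw [Finset.mem_compl] at hj
    by_cases hj' : j = j0
    · subst hj'
      have h1 : app (D.R B)⁻¹ (D.tp x (v j)) = -D.tp x (v j) := by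
        apply app_injective (D.R B)
        rw [app_app_inv, map_neg, D.R_tp, hB0, D.tp_neg_right, neg_neg]
      rw [app_mul, app_mul, app_mul, h1, map_neg, map_neg, map_neg, hf.inv D j hj0 x, D.R_tp, hB0,
        D.tp_neg_right, map_neg, hf j hj0 x, neg_neg]
    have h1 : app (D.R B)⁻¹ (D.tp x (v j)) = D.tp x (v j) := by
      apply app_injective (D.R B)
      rw [app_app_inv, D.R_tp, hBfix j hj hj']
    have h2 : app (D.R B) (app g⁻¹ (D.tp x (v j))) = app g⁻¹ (D.tp x (v j)) := by
      by_cases hjP : j ∈ P
      · rw [hf.inv D j hjP x, D.R_tp, hBfix j hj hj']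
      obtain ⟨y, hy⟩ := D.mem_cols hv (Vᶜ.erase j0) (z := app g⁻¹ (D.tp x (v j))) fun k hk y => by
        by_cases hk0 : k = j0
        · subst hk0; exact (hf.inv D).orth D hv hj0 hj' x y
        · have hkV : k ∈ V := by simpa [hk0] using hk
          refine D.orth_of_comm hv (U := V) ?_ ⟨fun h => absurd h hj, fun h => absurd hkV h⟩ x y
          exact (Commute.inv_left (show Commute g (D.R (blockSign D.q2 v V)) from hc)).eq
      rw [hy, map_sum]
      refine Finset.sum_congr rfl fun k hk => ?_
      rw [D.R_tp, hBfix k (Finset.mem_compl.1 (Finset.mem_erase.1 hk).2) (Finset.mem_erase.1 hk).1]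
    rw [app_mul, app_mul, app_mul, h1, h2, app_app_inv]
  have hlt : P.card < (Vᶜ).card := by
    refine Finset.card_lt_card ((Finset.ssubset_iff_of_subset fun x hx =>
      Finset.mem_compl.2 fun hxV => Finset.disjoint_left.1 hVP hxV hx).2 ?_)
    by_contra hno
    push Not at hno
    refine hW (Finset.eq_univ_iff_forall.2 fun x => Finset.mem_union.2 ?_)
    by_cases hxV : x ∈ V
    · exact Or.inr hxV
    · exact Or.inl (hno x (Finset.mem_compl.2 hxV))
  obtain ⟨B', -, hB'⟩ := D.eq_R_of_fix (IH v hv _ hlt _ (InHT.of_mem (hg.comm_mem hP.T_le hX)) hz)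
    (hv.li.ne_zero j0) (hz j0 (Finset.mem_compl.2 hj0V))
  have hBK : B ∈ D.KK g := D.mem_KK.2 ⟨B' * B, by rw [map_mul D.R B' B, ← hB', inv_mul_cancel_right]⟩
  have hri : refl D.q2 (v' i) ∈ D.KK g := by
    have := (D.KK g).mul_mem hBK (D.mem_KK_of_comm (hf.comm_single hv hj0))
    rwa [hBdef, mul_assoc, refl_mul_self, mul_one] at this
  intro k hk
  by_cases hki : k = i
  · exact hki ▸ hri
  have hV' : V = {i} ∪ {k} := (Finset.eq_of_subset_of_card_le
    (Finset.union_subset (Finset.singleton_subset_iff.2 hi) (Finset.singleton_subset_iff.2 hk))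
    (by rw [Finset.card_union_of_disjoint (by simpa using Ne.symm hki)]; simpa using hV2)).symm
  have h3 := (D.KK g).mul_mem hri hcK
  rwa [← blockSign_refr hv hR, hV', blockSign_union hR.1 (by simpa using Ne.symm hki), blockSign_single,
    blockSign_single, ← mul_assoc, refl_mul_self, one_mul] at h3

/-- The centraliser of a proper sign map among the elements fixing the slices of `P`. -/
theorem split (hP : D.Proper H) {v : Fin b → Fin b → F} (hv : IsFrame D.q2 v) {P : Finset (Fin b)}
    (hP0 : P.Nonempty) (IH : D.FixAbove H P.card) {U : Finset (Fin b)} (hU0 : U.Nonempty)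
    (hUP : Disjoint U P) (hW : P ∪ U ≠ Finset.univ) {g : O q} (hg : D.InHT H g) (hf : D.FixS v P g)
    (hc : g * D.R (blockSign D.q2 v U) = D.R (blockSign D.q2 v U) * g) : g ∈ D.TT := by
  classical
  set U' := (P ∪ U)ᶜ with hU'def
  have hU'0 : U'.Nonempty := by
    rw [Finset.nonempty_iff_ne_empty, hU'def, Ne, Finset.compl_eq_empty_iff]; exact hW
  have hU'P : Disjoint U' P := Finset.disjoint_left.2 fun x hx hxP =>
    (Finset.mem_compl.1 hx) (Finset.mem_union_left _ hxP)
  have mU' : ∀ x, x ∈ U' ↔ x ∉ P ∧ x ∉ U := fun x => by simp [hU'def]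
  have hcinv := (Commute.inv_left (show Commute g (D.R (blockSign D.q2 v U)) from hc)).eq
  -- images of different classes are orthogonal
  have sep : ∀ g', (g' * D.R (blockSign D.q2 v U) = D.R (blockSign D.q2 v U) * g') → D.FixS v P g' →
      ∀ V, (V = U ∨ V = U') → ∀ j k, (j ∈ V ↔ k ∉ V) → ∀ x x',
        polar q (app g' (D.tp x (v j))) (D.tp x' (v k)) = 0 := by
    intro g' hc' hf' V hV j k hjk x x'
    have hjk' : j ≠ k := fun h => by subst h; tauto
    by_cases hk : k ∈ P
    · exact hf'.orth D hv hk hjk' x x'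
    by_cases hj : j ∈ P
    · rw [hf' j hj x, D.polar_tp, hv.orth j k hjk', mul_zero]
    refine D.orth_of_comm hv hc' ?_ x x'
    rcases hV with rfl | rfl
    · exact hjk
    · simp only [mU', hj, hk, not_false_eq_true, true_and, not_not] at hjk
      tauto
  have hc' : g * D.R (blockSign D.q2 v U') = D.R (blockSign D.q2 v U') * g :=
    D.comm_of_orth hv (sep g hc hf U' (Or.inr rfl))
  -- a part with three members
  have big : ∀ V, (V = U ∨ V = U') → 3 ≤ V.card → g ∈ D.TT := by
    intro V hV h3
    have hVP : Disjoint V P := by rcases hV with rfl | rfl; exacts [hUP, hU'P]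
    obtain ⟨w, b0, hwV, hbV, hw, hw0, hwb, hb⟩ := exists_eich_block hv h3
    have hlt : P.card < (Vᶜ).card := by
      refine Finset.card_lt_card ((Finset.ssubset_iff_of_subset fun x hx =>
        Finset.mem_compl.2 fun hxV => Finset.disjoint_left.1 hVP hxV hx).2 ?_)
      rcases hV with rfl | rfl
      · obtain ⟨x, hx⟩ := hU'0
        exact ⟨x, Finset.mem_compl.2 ((mU' x).1 hx).2, ((mU' x).1 hx).1⟩
      · obtain ⟨x, hx⟩ := hU0
        exact ⟨x, Finset.mem_compl.2 fun h => ((mU' x).1 h).2 hx, Finset.disjoint_left.1 hUP hx⟩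
    have hperp : ∀ {y}, InBlock D.q2 v V y → ∀ j ∈ Vᶜ, ∀ x x',
        polar q (app g⁻¹ (D.tp x (v j))) (D.tp x' y) = 0 := by
      intro y hy j hj x x'
      rw [hy.eq_sum hv, D.tp_sum_right, ← polarBilin_apply_apply, map_sum]
      refine Finset.sum_eq_zero fun k hk => ?_
      rw [map_smul, polarBilin_apply_apply,
        sep g⁻¹ hcinv (hf.inv D) V hV j k ⟨fun h => absurd h (Finset.mem_compl.1 hj), fun h => absurd hk h⟩,
        smul_zero]
    exact eich_part hP hv (P := Vᶜ) (Finset.card_pos.1 (by omega)) (IH v hv _ hlt) hg hw hw0 hwb hb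
      (fun j hj => ⟨by rw [polar_comm]; exact hwV j (Finset.mem_compl.1 hj),
        by rw [polar_comm]; exact hbV j (Finset.mem_compl.1 hj)⟩)
      (fun j hj x x' => ⟨hperp hwV j hj x x', hperp hbV j hj x x'⟩)
  by_cases h3 : 3 ≤ U.card
  · exact big U (Or.inl rfl) h3
  by_cases h3' : 3 ≤ U'.card
  · exact big U' (Or.inr rfl) h3'
  -- both parts small
  obtain ⟨v', hR, hK⟩ := small_part hP hv hP0 IH hU0 hUP hW (by omega) hg hf hc
  have hout : ∀ k, k ∉ U → v' k = v k := hR.2.1
  have hfv' : D.FixS v' P g := fun j hj x => by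
    rw [hout j fun h => Finset.disjoint_left.1 hUP h hj]; exact hf j hj x
  have hbs : blockSign D.q2 v' U' = blockSign D.q2 v U' := by
    simp only [blockSign]
    congr 1
    exact List.map_congr_left fun k hk => hout k ((mU' k).1 (Finset.mem_toList.1 hk)).2
  have hW' : P ∪ U' ≠ Finset.univ := fun h => by
    obtain ⟨x, hx⟩ := hU0
    rcases Finset.mem_union.1 (h ▸ Finset.mem_univ x : x ∈ P ∪ U') with h' | h'
    · exact Finset.disjoint_left.1 hUP hx h'
    · exact ((mU' x).1 h').2 hx
  obtain ⟨v'', hR', hK'⟩ := small_part hP hR.1 hP0 IH hU'0 hU'P hW' (by omega) hg hfv' (hbs.symm ▸ hc')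
  refine transfer hP hR'.1 hg fun j => ?_
  by_cases hjU' : j ∈ U'
  · exact hK' j hjU'
  rw [hR'.2.1 j hjU']
  by_cases hjU : j ∈ U
  · exact hK j hjU
  · have hjP : j ∈ P := not_not.1 fun h => hjU' ((mU' j).2 ⟨h, hjU⟩)
    exact D.mem_KK_of_comm (hfv'.comm_single hR.1 hjP)

/-- An element fixing a slice of an orthogonal frame pointwise preserves the decomposition. -/
theorem fix_TT (hP : D.Proper H) {v : Fin b → Fin b → F} (hv : IsFrame D.q2 v) {P : Finset (Fin b)}
    (hP0 : P.Nonempty) {g : O q} (hg : D.InHT H g) (hf : D.FixS v P g) : g ∈ D.TT := by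
  classical
  suffices H' : ∀ n, ∀ v : Fin b → Fin b → F, IsFrame D.q2 v → ∀ P : Finset (Fin b), P.Nonempty →
      b - P.card = n → ∀ g, D.InHT H g → D.FixS v P g → g ∈ D.TT from H' _ v hv P hP0 rfl g hg hf
  clear! v g P
  intro n
  induction n using Nat.strong_induction_on with
  | _ n ih =>
  intro v hv P hP0 hn g hg hf
  by_cases h3 : 3 ≤ P.card
  · exact fix_big hP hv h3 hg hf
  have hb5 := hP.five
  have hPb : ∀ P' : Finset (Fin b), P'.card ≤ b := fun P' => by
    simpa using Finset.card_le_univ P'
  have IH : D.FixAbove H P.card := fun v' hv' P' hP' z hz hzf =>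
    ih _ (by have := hPb P'; omega) v' hv' P' (Finset.card_pos.1 (by omega)) rfl z hz hzf
  obtain ⟨j0, hj0⟩ := hP0
  have hP0 : P.Nonempty := ⟨j0, hj0⟩
  have hW3 : 3 ≤ Pᶜ.card := by rw [Finset.card_compl, Fintype.card_fin]; omega
  -- for each admissible `u` the conjugate of the reflection is the reflection
  have key : ∀ u, Adm D.q1 u → g * D.L (refl D.q1 u) = D.L (refl D.q1 u) * g := by
    intro u hu
    set t := D.L (negId D.q1 * refl D.q1 u) with ht
    have ht2 : t * t = 1 := by rw [ht, ← map_mul, negId_refl_invol, map_one]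
    have htX : t ∈ D.TT ⊓ commutator (O q) := Subgroup.mem_inf.2 ⟨D.L_mem _, D.L_omega hu.2⟩
    set r := g * t * g⁻¹ with hr
    have hrH : r ∈ H := hg.conj_mem hP.T_le htX
    have hr2 : r * r = 1 := by
      rw [hr, show g * t * g⁻¹ * (g * t * g⁻¹) = g * (t * t) * g⁻¹ by group, ht2, mul_one, mul_inv_cancel]
    have hrt : ∀ j ∈ P, ∀ x, app r (D.tp x (v j)) = -D.tp (app (refl D.q1 u) x) (v j) := fun j hj x => by
      rw [hr, app_mul, app_mul, hf.inv D j hj x, ht, D.L_tp, hf j hj, app_mul, app_negId, D.tp_neg_left]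
    have hru : app (refl D.q1 u) u ≠ u := fun h => by
      rw [app_refl_self hu.1] at h
      have h2 : (2 : F) • u = 0 := by linear_combination (norm := module) -h
      exact hu.1 (by rw [(smul_eq_zero.1 h2).resolve_left D.good1.two, QuadraticMap.map_zero])
    have hrr : refl D.q1 u * refl D.q1 u = 1 := refl_mul_self u
    -- one admissible vector of the complement
    have one : ∀ v' : Fin b → Fin b → F, IsFrame D.q2 v' → (∀ j ∈ P, v' j = v j) → ∀ i, i ∉ P →
        Adm D.q2 (v' i) → r ∈ D.TT ∨
          r * (D.L (refl D.q1 u) * D.R (refl D.q2 (v' i))) = D.L (refl D.q1 u) * D.R (refl D.q2 (v' i)) * r := by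
      intro v' hv' hvv i hi hx
      set s := D.R (negId D.q2 * refl D.q2 (v' i)) with hs
      have hs2 : s * s = 1 := by rw [hs, ← map_mul, negId_refl_invol, map_one]
      have hsH : s ∈ H := hP.T_le (Subgroup.mem_inf.2 ⟨D.R_mem _, D.R_omega hx.2⟩)
      have hp : ∀ n : ℕ, ∀ j ∈ P, ∀ x, app ((s * r) ^ n) (D.tp x (v j)) =
          D.tp (app (refl D.q1 u ^ n) x) (v j) := by
        intro n j hj
        induction n with
        | zero => intro x; rw [pow_zero, pow_zero, app_one, app_one]
        | succ n ihn =>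
          intro x
          rw [pow_succ, app_mul, app_mul, hrt j hj, map_neg, map_neg, hs, D.R_tp, app_mul, app_negId,
            ← hvv j hj, app_refl_of_ortho (hv'.orth j i fun h => hi (h ▸ hj)), hvv j hj, D.tp_neg_right,
            map_neg, neg_neg, ← hs, ihn, pow_succ, app_mul]
      obtain ⟨k, hk⟩ : Even (orderOf (s * r)) := by
        rcases Nat.even_or_odd (orderOf (s * r)) with h | h
        · exact h
        · exfalso
          refine hru (D.tp_left_cancel (hv.li.ne_zero j0) ?_)
          have e := hp (orderOf (s * r)) j0 hj0 u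
          rw [pow_orderOf_eq_one, app_one] at e
          obtain ⟨m, hm⟩ := h
          rw [hm, pow_succ, pow_mul, pow_two, hrr, one_pow, one_mul] at e
          exact e.symm
      have hk0 : k ≠ 0 := by
        have := orderOf_pos (s * r)
        omega
      set c := (s * r) ^ k with hc
      have hcc : c * c = 1 := by rw [hc, ← pow_add, ← hk, pow_orderOf_eq_one]
      have hc1 : c ≠ 1 := pow_ne_one_of_lt_orderOf hk0 (by omega)
      obtain ⟨hcs, hcr, heven, hodd⟩ := dihedral hr2 hs2 hcc
      have hcH : c ∈ H := H.pow_mem (H.mul_mem hsH hrH) k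
      have hcx : c * D.R (refl D.q2 (v' i)) = D.R (refl D.q2 (v' i)) * c := by
        rw [← hc, hs, map_mul, D.R_negId, ← mul_assoc, ← negId_comm c, mul_assoc, mul_assoc] at hcs
        exact mul_left_cancel hcs
      have hiP : Disjoint ({i} : Finset (Fin b)) P := by simpa using hi
      have hPi : P ∪ {i} ≠ Finset.univ := fun h => by
        have := congrArg Finset.card h
        have h' := Finset.card_union_le P {i}
        rw [Finset.card_univ, Fintype.card_fin] at this
        rw [Finset.card_singleton] at h'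
        omega
      rcases Nat.even_or_odd k with hke | hko
      · -- even
        left
        have hcf : D.FixS v' P c := fun j hj x => by
          rw [hvv j hj, hc, hp k j hj x]
          obtain ⟨m, hm⟩ := hke
          rw [hm, ← two_mul, pow_mul, pow_two, hrr, one_pow, app_one]
        have hcT := split hP hv' hP0 IH (Finset.singleton_nonempty i) hiP hPi (InHT.of_mem hcH) hcf
          (by rw [blockSign_single]; exact hcx)
        obtain ⟨β, -, hβ⟩ := D.eq_R_of_fix hcT (hv'.li.ne_zero j0) (hcf j0 hj0)
        have hββ : β * β = 1 := D.R_injective (by rw [map_mul, ← hβ, hcc, map_one])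
        obtain ⟨u₀, hu₀⟩ := D.exists_anis
        have hβP : ∀ j ∈ P, app β (v' j) = v' j := fun j hj => by
          refine D.tp_right_cancel (u := u₀) (fun h => hu₀ (by rw [h, QuadraticMap.map_zero])) ?_
          rw [← D.R_tp, ← hβ]; exact hcf j hj u₀
        obtain ⟨v'', hR, hsign⟩ := exists_eigen_refr hv' hββ Pᶜ fun j hj =>
          Or.inl (hβP j (by simpa using hj))
        set Z := Finset.univ.filter fun j => app β (v'' j) = -v'' j
        have hβZ : β = blockSign D.q2 v'' Z := hR.1.ext_O fun j => by
          rw [blockSign_app hR.1]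
          simp only [Z, Finset.mem_filter, Finset.mem_univ, true_and]
          split_ifs with h
          · exact h
          · exact (hsign j).resolve_right h
        have hZP : Disjoint Z P := Finset.disjoint_left.2 fun j hjZ hjP => by
          have h1 := (Finset.mem_filter.1 hjZ).2
          rw [hR.2.1 j (by simpa using hjP), hβP j hjP] at h1
          have h2 : (2 : F) • v' j = 0 := by linear_combination (norm := module) h1
          exact hv'.li.ne_zero j ((smul_eq_zero.1 h2).resolve_left D.good2.two)
        have hZ0 : Z.Nonempty := by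
          rw [Finset.nonempty_iff_ne_empty]
          intro h
          exact hc1 (by rw [hβ, hβZ, h, blockSign_empty hR.1, map_one])
        have hZW : P ∪ Z ≠ Finset.univ := by
          intro h
          -- the class of `s` contains `s c`
          have hZeq : Z = Pᶜ := Finset.ext fun j => by
            rw [Finset.mem_compl]
            refine ⟨fun hj hjP => Finset.disjoint_left.1 hZP hj hjP, fun hj => ?_⟩
            exact (Finset.mem_union.1 (h ▸ Finset.mem_univ j : j ∈ P ∪ Z)).resolve_left hj
          rw [hZeq, blockSign_refr hv' hR] at hβZ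
          obtain ⟨w, hw⟩ := heven hke
          have e := finrank_fixS_conj w s
          rw [hw, hs, D.fixdim_R (hv'.nz i), ← hs] at e
          obtain ⟨u', hu'⟩ := exists_frame D.good1.nd D.good1.two
          have e2 : s * c = D.ten (blockSign D.q1 u' ∅, blockSign D.q2 v' (P ∪ {i})) := by
            rw [hs, hβ, ← map_mul, D.R_eq_ten, blockSign_empty hu', hβZ]
            congr 2
            refine hv'.ext_O fun j => ?_
            simp only [app_mul, blockSign_app hv', Finset.mem_compl, Finset.mem_union, Finset.mem_singleton]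
            by_cases hjP : j ∈ P
            · have : j ≠ i := fun h => hi (h ▸ hjP)
              simp [hjP, app_refl_of_ortho (hv'.orth j i this)]
            · by_cases hji : j = i
              · subst hji; simp [hjP, app_refl_self (hv'.nz _)]
              · simp [hjP, hji, app_refl_of_ortho (hv'.orth j i hji)]
          rw [e2, D.fixdim hu' hv', Finset.card_union_of_disjoint hiP.symm, Finset.card_singleton,
            Finset.card_empty, tsub_zero, zero_mul, add_zero] at e
          have : b - (P.card + 1) = 1 := by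
            have := D.three_a
            exact Nat.eq_of_mul_eq_mul_left (by omega : 0 < a) (by rw [e, mul_one])
          omega
        have hrtT := split hP hR.1 hP0 IH hZ0 hZP hZW ((InHT.of_mem hrH).mul_TT htX.1)
          (fun j hj x => by
            rw [hR.2.1 j (by simpa using hj), hvv j hj, app_mul, ht, D.L_tp, hrt j hj, app_mul, app_negId,
              map_neg, D.tp_neg_left, neg_neg, ← app_mul, hrr, app_one])
          (by
            have e1 : t * c = c * t := by rw [ht, hβ, D.L_R_comm]
            rw [← hβZ, ← hβ, mul_assoc, e1, ← mul_assoc, ← hcr, mul_assoc])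
        have := D.TT.mul_mem hrtT htX.1
        rwa [mul_assoc, ht2, mul_one] at this
      · -- odd
        right
        have hcL : D.FixS v' P (c * D.L (refl D.q1 u)) := fun j hj x => by
          rw [app_mul, D.L_tp, hvv j hj, hc, hp k j hj, ← app_mul]
          obtain ⟨m, hm⟩ := hko
          rw [hm, ← pow_succ, show 2 * m + 1 + 1 = 2 * (m + 1) by omega, pow_mul, pow_two, hrr, one_pow, app_one]
        have hgT := split hP hv' hP0 IH (Finset.singleton_nonempty i) hiP hPi
          ((InHT.of_mem hcH).mul_TT (D.L_mem _)) hcL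
          (by rw [blockSign_single, mul_assoc, D.L_R_comm, ← mul_assoc, hcx, mul_assoc])
        obtain ⟨β, -, hβ⟩ := D.eq_R_of_fix hgT (hv'.li.ne_zero j0) (hcL j0 hj0)
        have hceq : c = D.ten (refl D.q1 u, β) := by
          rw [D.ten_eq, D.L_R_comm, ← hβ, mul_assoc, ← map_mul, hrr, map_one, mul_one]
        have hsc : s * c = D.ten (refl D.q1 u, negId D.q2 * refl D.q2 (v' i) * β) := by
          rw [hs, hceq, D.R_eq_ten, ← map_mul, Prod.mk_mul_mk, one_mul]
        have hinv : negId D.q2 * refl D.q2 (v' i) * β * (negId D.q2 * refl D.q2 (v' i) * β) = 1 := by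
          refine (D.ten_invol (A := refl D.q1 u) ?_).2
          rw [← hsc, mul_assoc, ← mul_assoc c, hcs, mul_assoc, hcc, mul_one, hs2]
        obtain ⟨v₁, hv₁, S', hS'⟩ := exists_sign D.good2 hinv
        obtain ⟨u₀, hu₀⟩ := exists_frame D.good1.nd D.good1.two
        obtain ⟨u₁, l, -, hul, hRu⟩ := refr_vec hu₀ Finset.univ
          (fun j hj => absurd (Finset.mem_univ j) hj) hu.1
        obtain ⟨w, hw⟩ := hodd hko
        have e := finrank_fixS_conj w r
        rw [hw, hsc, hS', ← hul, ← blockSign_single (Q := D.q1) (v := u₁) l, D.fixdim hRu.1 hv₁,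
          Finset.card_singleton, hr, finrank_fixS_conj, ht, D.fixdim_L hu.1] at e
        have hS'u : S' = Finset.univ := by
          refine Finset.eq_univ_of_card _ ?_
          rw [Fintype.card_fin]
          by_contra hne
          have h1 : 2 ≤ a - 1 := by have := D.three_a; omega
          have h2 : 1 ≤ b - S'.card := by have := hPb S'; omega
          have h4 := Nat.mul_le_mul_right (b - S'.card) h1
          have h5 := hPb S'
          rw [one_mul] at e
          omega
        have hβi : β = refl D.q2 (v' i) := by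
          rw [hS'u, blockSign_univ hv₁, mul_assoc] at hS'
          have := mul_left_cancel (hS'.trans (mul_one _).symm)
          rw [← refl_inv (v' i)]
          exact (inv_eq_of_mul_eq_one_right this).symm
        rw [← hβi, ← D.ten_eq, ← hceq]
        exact hcr.symm
    obtain ⟨v1, i1, hi1, hadm1, hR1⟩ := exists_adm_block D.good2 hv (S := Pᶜ) (by omega)
    obtain ⟨v2, i2, hi2, hadm2, hR2⟩ := exists_adm_block D.good2 hR1.1 (S := Pᶜ.erase i1)
      (by rw [Finset.card_erase_of_mem hi1]; omega)
    have hv21 : v2 i1 = v1 i1 := hR2.2.1 i1 (Finset.notMem_erase i1 _)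
    obtain ⟨hi21, hi2P⟩ := Finset.mem_erase.1 hi2
    have hag1 : ∀ j ∈ P, v1 j = v j := fun j hj => hR1.2.1 j (by simpa using hj)
    have hag : ∀ j ∈ P, v2 j = v j := fun j hj => by rw [hR2.2.1 j (by simp [hj]), hag1 j hj]
    have hrT : r ∈ D.TT := by
      rcases one v1 hR1.1 hag1 i1 (by simpa using hi1) hadm1 with h | h1
      · exact h
      rcases one v2 hR2.1 hag i2 (by simpa using hi2P) hadm2 with h | h2
      · exact h
      rw [← hv21] at h1
      have hprod : r * D.R (blockSign D.q2 v2 ({i1} ∪ {i2})) = D.R (blockSign D.q2 v2 ({i1} ∪ {i2})) * r := by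
        rw [blockSign_union hR2.1 (by simpa using Ne.symm hi21), blockSign_single, blockSign_single, map_mul]
        have e : D.R (refl D.q2 (v2 i1)) * D.R (refl D.q2 (v2 i2)) =
            D.L (refl D.q1 u) * D.R (refl D.q2 (v2 i1)) * (D.L (refl D.q1 u) * D.R (refl D.q2 (v2 i2))) := by
          rw [D.L_R_comm (refl D.q1 u) (refl D.q2 (v2 i1)), mul_assoc (D.R _) (D.L _),
            ← mul_assoc (D.L _) (D.L _), ← map_mul D.L, hrr, map_one, one_mul]
        rw [e, ← mul_assoc, h1, mul_assoc, h2, ← mul_assoc]
      have hrtT := split hP hR2.1 hP0 IH (U := {i1} ∪ {i2})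
        (Finset.Nonempty.inl (Finset.singleton_nonempty _))
        (by simp only [Finset.disjoint_union_left, Finset.disjoint_singleton_left]
            exact ⟨by simpa using hi1, by simpa using hi2P⟩)
        (fun h => by
          have := congrArg Finset.card h
          have h' := Finset.card_union_le P ({i1} ∪ {i2})
          have h'' := Finset.card_union_le ({i1} : Finset (Fin b)) {i2}
          rw [Finset.card_univ, Fintype.card_fin] at this
          simp only [Finset.card_singleton] at h''
          rw [Finset.card_compl, Fintype.card_fin] at hW3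
          omega)
        ((InHT.of_mem hrH).mul_TT htX.1)
        (fun j hj x => by
          rw [hag j hj, app_mul, ht, D.L_tp, hrt j hj, app_mul, app_negId, map_neg, D.tp_neg_left, neg_neg,
            ← app_mul, hrr, app_one])
        (by rw [mul_assoc, ht, D.L_R_comm, ← mul_assoc, hprod, mul_assoc])
      have := D.TT.mul_mem hrtT htX.1
      rwa [mul_assoc, ht2, mul_one] at this
    -- `r = t`
    obtain ⟨β, -, hβ⟩ := D.eq_R_of_fix (D.TT.mul_mem hrT htX.1) (hv.li.ne_zero j0) fun x => by
      rw [app_mul, ht, D.L_tp, hrt j0 hj0, app_mul, app_negId, map_neg, D.tp_neg_left, neg_neg, ← app_mul,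
        hrr, app_one]
    have hreq : r = D.ten (negId D.q1 * refl D.q1 u, β) := by
      rw [D.ten_eq, D.L_R_comm, ← hβ, ← ht, mul_assoc, ht2, mul_one]
    obtain ⟨v₁, hv₁, S', hS'⟩ := exists_sign D.good2 (D.ten_invol (hreq ▸ hr2)).2
    obtain ⟨u₀, hu₀⟩ := exists_frame D.good1.nd D.good1.two
    obtain ⟨u₁, l, -, hul, hRu⟩ := refr_vec hu₀ Finset.univ
      (fun j hj => absurd (Finset.mem_univ j) hj) hu.1
    have hS'0 : S' = ∅ := by
      have e := finrank_fixS_conj g t
      rw [← hr, hreq, hS', ← hul, ← blockSign_erase hRu.1, D.fixdim hRu.1 hv₁, ht, D.fixdim_L hu.1,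
        Finset.card_erase_of_mem (Finset.mem_univ l), Finset.card_univ, Fintype.card_fin] at e
      rw [← Finset.card_eq_zero]
      have h3a := D.three_a
      by_contra hne
      rw [show a - (a - 1) = 1 by omega, one_mul] at e
      have h4 := Nat.mul_le_mul_right S'.card (show 2 ≤ a - 1 by omega)
      have h5 := hPb S'
      omega
    rw [hS'0, blockSign_empty hv₁] at hS'
    rw [hS', ← D.L_eq_ten, ← ht, hr, mul_inv_eq_iff_eq_mul] at hreq
    rw [ht, map_mul, D.L_negId, ← mul_assoc, ← negId_comm g, mul_assoc, mul_assoc] at hreq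
    exact mul_left_cancel hreq
  -- the rows of an admissible frame
  obtain ⟨u, hu, hadm⟩ := exists_adm_frame D.good1
  have hgs : D.swap.InHT H g := by
    obtain ⟨h, hh, t, ht, e⟩ := hg
    exact ⟨h, hh, t, by rw [D.swap_TT]; exact ht, e⟩
  have := col_frame hP.over.swap hu hgs fun i y => D.swap.mem_col hu i fun k hk y' =>
    D.swap.orth_of_comm hu (U := {i}) (by
      rw [blockSign_single]
      exact (D.swap_R (refl D.q1 (u i))).symm ▸ key _ (hadm i)) (by simp [hk]) y y'
  rwa [D.swap_TT] at this

end Data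

end CfsgLib.TensorOdd
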