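import Mathlib
import Cfsg.Agent.Lib.TensorOdd.Fix

/-!
Consequences of the fixed-slice theorem: maps between anisotropic slices, centralisers of pure involutions,
elements fixing a row, maps between rows, and centralisers of products of two reflections.
-/

set_option autoImplicit false
set_option linter.unusedSectionVars false

namespace CfsgLib.TensorOdd

open Matrix QuadraticMap CfsgLib.Orth

variable {ι : Type} [Fintype ι] [DecidableEq ι] {F : Type*} [Field F] [Fintype F]
variable {q : QuadraticForm F (ι → F)} {a b : ℕ}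

namespace Data

variable (D : Data q a b) {H : Subgroup (O q)}

/-- If fixing one anisotropic slice forces the decomposition to be preserved, so does mapping one to another. -/
theorem aniso_slice_of
    (hfix : ∀ v : Fin b → Fin b → F, IsFrame D.q2 v → ∀ j g, D.InHT H g → D.FixS v {j} g → g ∈ D.TT)
    {g : O q} (hg : D.InHT H g) {x y : Fin b → F} (hx : D.q2 x ≠ 0) (hy : y ≠ 0)
    (h : ∀ z, ∃ z', app g (D.tp z x) = D.tp z' y) : g ∈ D.TT := by
  obtain ⟨A, c, -, hq, hA⟩ := D.exists_iso hx hy h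
  obtain ⟨v₀, hv₀⟩ := exists_frame D.good2.nd D.good2.two
  have hq0 : D.q2 (c • y) ≠ 0 := hq ▸ hx
  obtain ⟨v, k, -, hvk, hR⟩ := refr_vec hv₀ Finset.univ (fun j hj => absurd (Finset.mem_univ j) hj) hq0
  have hli : ∀ {z : Fin b → F}, z ≠ 0 → LinearIndependent F ![z] := fun {z} hz =>
    LinearIndependent.of_subsingleton (0 : Fin 1) (by simpa using hz)
  obtain ⟨B, hB⟩ := CfsgLib.POmega.exists_O_map D.good2.nd ![c • y] ![x]
    (hli fun h0 => hq0 (by rw [h0, QuadraticMap.map_zero]))
    (hli fun h0 => hx (by rw [h0, QuadraticMap.map_zero]))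
    (fun i => by simpa using hq) (fun i j => by
      rw [Subsingleton.elim i 0, Subsingleton.elim j 0]; simp [polar_self', hq])
  have hB0 : app B (c • y) = x := by simpa using hB 0
  have hT := hfix v hR.1 k _ ((hg.mul_TT (D.R_mem B)).mul_TT (D.L_mem A⁻¹)) fun j hj z => by
    rw [Finset.mem_singleton.1 hj, hvk, app_mul, app_mul, D.L_tp, D.R_tp, hB0, hA, app_app_inv]
  have := mul_mem (mul_mem hT (inv_mem (D.L_mem A⁻¹))) (inv_mem (D.R_mem B))
  simpa [mul_assoc] using this

variable {D}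

theorem InHT.swap {g : O q} (hg : D.InHT H g) : D.swap.InHT H g := by
  obtain ⟨h, hh, t, ht, e⟩ := hg
  exact ⟨h, hh, t, by rw [D.swap_TT]; exact ht, e⟩

theorem InHT.unswap {g : O q} (hg : D.swap.InHT H g) : D.InHT H g := by
  obtain ⟨h, hh, t, ht, e⟩ := hg
  exact ⟨h, hh, t, by rw [← D.swap_TT]; exact ht, e⟩

theorem aniso_slice (hP : D.Proper H) {g : O q} (hg : D.InHT H g) {x y : Fin b → F} (hx : D.q2 x ≠ 0)
    (hy : y ≠ 0) (h : ∀ z, ∃ z', app g (D.tp z x) = D.tp z' y) : g ∈ D.TT :=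
  D.aniso_slice_of (fun _ hv j _ hg hf => fix_TT hP hv (Finset.singleton_nonempty j) hg hf) hg hx hy h

theorem comm_slice (hP : D.Proper H) {g : O q} (hg : D.InHT H g) {x : Fin b → F} (hx : D.q2 x ≠ 0)
    (hc : g * D.R (refl D.q2 x) = D.R (refl D.q2 x) * g) : g ∈ D.TT := by
  obtain ⟨y, hy, h⟩ := D.map_refl hx (B := refl D.q2 x) (by rw [hc, mul_inv_cancel_right])
  exact aniso_slice hP hg hx hy h

/-- The centraliser of a non-trivial pure sign map. -/
theorem pure_sign (hP : D.Proper H) {v : Fin b → Fin b → F} (hv : IsFrame D.q2 v) {U : Finset (Fin b)}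
    (hU0 : U.Nonempty) (hU1 : U ≠ Finset.univ) {g : O q} (hg : D.InHT H g)
    (hc : g * D.R (blockSign D.q2 v U) = D.R (blockSign D.q2 v U) * g) : g ∈ D.TT := by
  classical
  have hb := hP.five
  have hcinv := (Commute.inv_left (show Commute g (D.R (blockSign D.q2 v U)) from hc)).eq
  obtain ⟨V, h3, hV0, hV⟩ : ∃ V : Finset (Fin b), 3 ≤ V.card ∧ Vᶜ.Nonempty ∧
      ∀ j k, j ∉ V → k ∈ V → (j ∈ U ↔ k ∉ U) := by
    by_cases h : 3 ≤ U.card
    · refine ⟨U, h, ?_, fun j k hj hk => ⟨fun h' => absurd h' hj, fun h' => absurd hk h'⟩⟩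
      rw [Finset.nonempty_iff_ne_empty, Ne, Finset.compl_eq_empty_iff]
      exact hU1
    · refine ⟨Uᶜ, by rw [Finset.card_compl, Fintype.card_fin]; omega, by rwa [compl_compl],
        fun j k hj hk => ?_⟩
      simp only [Finset.mem_compl, not_not] at hj hk
      exact ⟨fun _ => hk, fun _ => hj⟩
  obtain ⟨w, b0, hwV, hbV, hw, hw0, hwb, hb0⟩ := exists_eich_block hv h3
  have hperp : ∀ {y}, InBlock D.q2 v V y → ∀ j ∈ Vᶜ, ∀ x x',
      polar q (app g⁻¹ (D.tp x (v j))) (D.tp x' y) = 0 := by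
    intro y hy j hj x x'
    rw [hy.eq_sum hv, D.tp_sum_right, ← polarBilin_apply_apply, map_sum]
    refine Finset.sum_eq_zero fun k hk => ?_
    rw [map_smul, polarBilin_apply_apply,
      D.orth_of_comm hv hcinv (hV j k (Finset.mem_compl.1 hj) hk), smul_zero]
  exact eich_part hP hv hV0 (fun z hz hzf => fix_TT hP hv hV0 hz hzf) hg hw hw0 hwb hb0
    (fun j hj => ⟨by rw [polar_comm]; exact hwV j (Finset.mem_compl.1 hj),
      by rw [polar_comm]; exact hbV j (Finset.mem_compl.1 hj)⟩)
    (fun j hj x x' => ⟨hperp hwV j hj x x', hperp hbV j hj x x'⟩)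

variable (D)

theorem eq_one_of_fixdim (hab : a < b) {A : O D.q1} (hA : A * A = 1) {x : Fin b → F} (hx : D.q2 x ≠ 0)
    (h : Module.finrank F (fixS (D.ten (A, negId D.q2 * refl D.q2 x))) = a) : A = 1 := by
  obtain ⟨u, hu, S, rfl⟩ := exists_sign D.good1 hA
  obtain ⟨v₀, hv₀⟩ := exists_frame D.good2.nd D.good2.two
  obtain ⟨v, i, -, hvi, hR⟩ := refr_vec hv₀ Finset.univ (fun j hj => absurd (Finset.mem_univ j) hj) hx
  rw [← hvi, ← blockSign_erase hR.1, D.fixdim hu hR.1, Finset.card_erase_of_mem (Finset.mem_univ i),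
    Finset.card_univ, Fintype.card_fin, show b - (b - 1) = 1 by have := D.three_b; omega, mul_one] at h
  have hS : S.card = 0 := by
    by_contra hne
    have h1 : S.card ≤ a := by simpa using S.card_le_univ
    have h2 := Nat.mul_le_mul_left S.card (show 2 ≤ b - 1 by have := D.three_b; omega)
    omega
  rw [Finset.card_eq_zero.1 hS, blockSign_empty hu]

variable {D}

/-- An element fixing an anisotropic row pointwise preserves the decomposition. -/
theorem row_fix (hP : D.Proper H) {u : Fin a → Fin a → F} (hu : IsFrame D.q1 u) (i : Fin a) {g : O q}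
    (hg : D.InHT H g) (hf : D.swap.FixS u {i} g) : g ∈ D.TT := by
  classical
  have hfr : ∀ y, app g (D.tp (u i) y) = D.tp (u i) y := fun y => by
    have e := hf i (Finset.mem_singleton_self i) y
    rwa [D.swap_tp] at e
  have hfi : ∀ y, app g⁻¹ (D.tp (u i) y) = D.tp (u i) y := fun y => by
    apply app_injective g
    rw [app_app_inv, hfr]
  obtain ⟨v, hv, hadm⟩ := exists_adm_frame D.good2
  obtain ⟨i1, i2, hne⟩ : ∃ i1 i2 : Fin b, i1 ≠ i2 :=
    Fintype.exists_pair_of_one_lt_card (by have := hP.five; simp; omega)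
  set n1 := negId D.q2 * refl D.q2 (v i1) with hn1
  set n2 := negId D.q2 * refl D.q2 (v i2) with hn2
  have hn11 : n1 * n1 = 1 := negId_refl_invol _
  have hn22 : n2 * n2 = 1 := negId_refl_invol _
  set r := g * D.R n1 * g⁻¹ with hr
  set s := D.R n2 with hs
  have hrH : r ∈ H := hg.conj_mem hP.T_le (Subgroup.mem_inf.2 ⟨D.R_mem _, D.R_omega (hadm i1).2⟩)
  have hsH : s ∈ H := hP.T_le (Subgroup.mem_inf.2 ⟨D.R_mem _, D.R_omega (hadm i2).2⟩)
  have hr2 : r * r = 1 := by
    rw [hr, show g * D.R n1 * g⁻¹ * (g * D.R n1 * g⁻¹) = g * (D.R n1 * D.R n1) * g⁻¹ by group, ← map_mul,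
      hn11, map_one, mul_one, mul_inv_cancel]
  have hs2 : s * s = 1 := by rw [hs, ← map_mul, hn22, map_one]
  have hrr : ∀ y, app r (D.tp (u i) y) = D.tp (u i) (app n1 y) := fun y => by
    rw [hr, app_mul, app_mul, hfi, D.R_tp, hfr]
  set P12 := n2 * n1 with hP12
  have hP12' : P12 = blockSign D.q2 v ({i2} ∪ {i1}) := by
    rw [blockSign_union hv (by simpa using Ne.symm hne), blockSign_single, blockSign_single, hP12, hn1, hn2,
      mul_assoc, ← mul_assoc (refl D.q2 (v i2)), ← negId_comm, mul_assoc, ← mul_assoc, negId_mul_self, one_mul]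
  have hP22 : P12 * P12 = 1 := by rw [hP12', blockSign_mul_self hv]
  have hP1 : P12 ≠ 1 := fun h => by
    have e := congrArg (fun k => app k (v i1)) h
    simp only [hP12', blockSign_app hv, Finset.mem_union, Finset.mem_singleton, or_true, if_true,
      app_one] at e
    have h2 : (2 : F) • v i1 = 0 := by linear_combination (norm := module) -e
    exact hv.li.ne_zero i1 ((smul_eq_zero.1 h2).resolve_left D.good2.two)
  have hp : ∀ (n : ℕ) y, app ((s * r) ^ n) (D.tp (u i) y) = D.tp (u i) (app (P12 ^ n) y) := by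
    intro n
    induction n with
    | zero => intro y; rw [pow_zero, pow_zero, app_one, app_one]
    | succ n ih =>
      intro y
      rw [pow_succ, app_mul, app_mul, hrr, hs, D.R_tp, ← hs, ih, pow_succ]
      simp only [hP12, app_mul]
  obtain ⟨k, hk⟩ : Even (orderOf (s * r)) := by
    rcases Nat.even_or_odd (orderOf (s * r)) with h | h
    · exact h
    · exfalso
      refine hP1 (ext_app fun y => D.tp_right_cancel (hu.li.ne_zero i) ?_)
      have e := hp (orderOf (s * r)) y
      obtain ⟨m, hm⟩ := h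
      rw [pow_orderOf_eq_one, app_one, hm, pow_succ, pow_mul, pow_two, hP22, one_pow, one_mul] at e
      rw [app_one]; exact e.symm
  have hk0 : k ≠ 0 := by have := orderOf_pos (s * r); omega
  set c := (s * r) ^ k with hc
  have hcc : c * c = 1 := by rw [hc, ← pow_add, ← hk, pow_orderOf_eq_one]
  have hc1 : c ≠ 1 := pow_ne_one_of_lt_orderOf hk0 (by omega)
  obtain ⟨hcs, hcr, heven, hodd⟩ := dihedral hr2 hs2 hcc
  have hcH : c ∈ H := H.pow_mem (H.mul_mem hsH hrH) k
  have hcT : c ∈ D.TT := comm_slice hP (InHT.of_mem hcH) (hv.nz i2) (by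
    rw [← hc, hs, hn2, map_mul, D.R_negId, ← mul_assoc, ← negId_comm c, mul_assoc, mul_assoc] at hcs
    exact mul_left_cancel hcs)
  have hdim : ∀ j, Module.finrank F (fixS (D.R (negId D.q2 * refl D.q2 (v j)))) = a :=
    fun j => D.fixdim_R (hv.nz j)
  rcases Nat.even_or_odd k with hke | hko
  · exfalso
    obtain ⟨A, hA⟩ := D.eq_L_of_fix hcT (hu.li.ne_zero i) fun y => by
      rw [hc, hp]
      obtain ⟨m, hm⟩ := hke
      rw [hm, ← two_mul, pow_mul, pow_two, hP22, one_pow, app_one]
    have hA2 : A * A = 1 := (D.ten_invol (B := 1) (by rw [← D.L_eq_ten, ← hA, hcc])).1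
    obtain ⟨w, hw⟩ := heven hke
    have e := finrank_fixS_conj w s
    rw [hw, ← hc, hs, hdim, hA, ← D.L_R_comm, ← D.ten_eq, hn2] at e
    exact hc1 (by rw [hA, D.eq_one_of_fixdim hP.lt hA2 (hv.nz i2) e, map_one])
  · obtain ⟨A, hA⟩ := D.eq_L_of_fix (mul_mem hcT (D.R_mem P12)) (hu.li.ne_zero i) fun y => by
      rw [app_mul, D.R_tp, hc, hp, ← app_mul]
      obtain ⟨m, hm⟩ := hko
      rw [hm, ← pow_succ, show 2 * m + 1 + 1 = 2 * (m + 1) by omega, pow_mul, pow_two, hP22, one_pow, app_one]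
    have hceq : c = D.ten (A, P12) := by rw [D.ten_eq, ← hA, mul_assoc, ← map_mul, hP22, map_one, mul_one]
    have hA2 : A * A = 1 := (D.ten_invol (B := P12) (by rw [← hceq, hcc])).1
    have hsc : s * c = D.ten (A, negId D.q2 * refl D.q2 (v i1)) := by
      rw [hs, hceq, D.R_eq_ten, ← map_mul, Prod.mk_mul_mk, one_mul, hP12, ← mul_assoc, hn22, one_mul]
    obtain ⟨w, hw⟩ := hodd hko
    have e := finrank_fixS_conj w r
    rw [hw, hsc, hr, finrank_fixS_conj, hn1, hdim] at e
    have hA1 := D.eq_one_of_fixdim hP.lt hA2 (hv.nz i1) e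
    have hrT : r ∈ D.TT := by
      refine pure_sign hP hv (U := {i2} ∪ {i1}) ?_ ?_ (InHT.of_mem hrH) ?_
      · exact Finset.Nonempty.inl (Finset.singleton_nonempty _)
      · intro h
        have := congrArg Finset.card h
        rw [Finset.card_univ, Fintype.card_fin] at this
        have h' := Finset.card_union_le ({i2} : Finset (Fin b)) {i1}
        simp only [Finset.card_singleton] at h'
        have := hP.five
        omega
      · rw [← hP12', D.R_eq_ten, ← hA1, ← hceq]; exact hcr.symm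
    obtain ⟨A', hA'⟩ := D.eq_L_of_fix (mul_mem hrT (D.R_mem n1)) (hu.li.ne_zero i) fun y => by
      rw [app_mul, D.R_tp, hrr, ← app_mul, hn11, app_one]
    have hreq : r = D.ten (A', n1) := by rw [D.ten_eq, ← hA', mul_assoc, ← map_mul, hn11, map_one, mul_one]
    have e' := finrank_fixS_conj g (D.R n1)
    rw [← hr, hreq, hn1, hdim] at e'
    rw [D.eq_one_of_fixdim hP.lt (D.ten_invol (hreq ▸ hr2)).1 (hv.nz i1) e', ← D.R_eq_ten, hr,
      mul_inv_eq_iff_eq_mul, hn1, map_mul, D.R_negId, ← mul_assoc, ← negId_comm g, mul_assoc, mul_assoc] at hreq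
    exact comm_slice hP hg (hv.nz i1) (mul_left_cancel hreq)

/-- Conjugating a reflection of the first factor to a reflection of it forces the decomposition to be kept. -/
theorem row_refl (hP : D.Proper H) {g : O q} (hg : D.InHT H g) {u : Fin a → F} (hu : D.q1 u ≠ 0)
    {A : O D.q1} (h : g * D.L (refl D.q1 u) * g⁻¹ = D.L A) : g ∈ D.TT := by
  obtain ⟨y, hy, hy'⟩ := D.swap.map_refl (g := g) (x := u) hu (B := A)
    ((congrArg (fun t => g * t * g⁻¹) (D.swap_R (refl D.q1 u))).trans (h.trans (D.swap_R A).symm))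
  have := D.swap.aniso_slice_of (H := H)
    (fun w hw j g' hg' hf' => by rw [D.swap_TT]; exact row_fix hP hw j hg'.unswap hf') hg.swap hu hy hy'
  rwa [D.swap_TT] at this

/-- The centraliser of a product of two reflections of the second factor. -/
theorem pair_centraliser (hP : D.Proper H) {g : O q} (hg : D.InHT H g) {x x' : Fin b → F}
    (hx : D.q2 x ≠ 0) (hq : D.q2 x' = D.q2 x) (h1 : x' ≠ x) (h2 : x' ≠ -x)
    (hc : g * D.R (refl D.q2 x * refl D.q2 x') = D.R (refl D.q2 x * refl D.q2 x') * g) : g ∈ D.TT := by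
  classical
  set B := refl D.q2 x * refl D.q2 x' with hB
  have hx0 : x ≠ 0 := fun h => hx (by rw [h, QuadraticMap.map_zero])
  have hindep : x ∉ Submodule.span F {x'} := by
    intro h
    obtain ⟨t, ht⟩ := Submodule.mem_span_singleton.1 h
    have h3 : t * t = 1 := by
      have e := congrArg D.q2 ht
      rw [QuadraticMap.map_smul, smul_eq_mul, hq] at e
      exact mul_right_cancel₀ hx (e.trans (one_mul _).symm)
    rcases mul_self_eq_one_iff.1 h3 with rfl | rfl
    · exact h1 (by rw [← ht, one_smul])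
    · exact h2 (by rw [← ht, neg_one_smul, neg_neg])
  obtain ⟨v₀, hv₀⟩ := exists_frame D.good2.nd D.good2.two
  obtain ⟨v, i, -, hvi, hR⟩ := refr_vec hv₀ Finset.univ (fun j hj => absurd (Finset.mem_univ j) hj) hx
  set cc := polar D.q2 x' x / (2 * D.q2 x) with hcc
  set x'' := x' - cc • x with hx''
  have hxx : polar D.q2 x'' x = 0 := by
    rw [hx'', polar_sub_left, polar_smul_left, polar_self', hcc, smul_eq_mul]
    have := D.good2.two
    field_simp
    ring
  have hx''0 : x'' ≠ 0 := fun h => by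
    rw [hx'', sub_eq_zero] at h
    have hcc0 : cc ≠ 0 := fun h0 => hx (by rw [← hq, h, h0, zero_smul, QuadraticMap.map_zero])
    exact hindep (Submodule.mem_span_singleton.2 ⟨cc⁻¹, by rw [h, smul_smul, inv_mul_cancel₀ hcc0, one_smul]⟩)
  have hxe : x' = x'' + cc • x := by rw [hx'']; abel
  obtain ⟨w, b0, hw, hw0, hwb, hb0, hwx, hwx', hbx, hbx'⟩ : ∃ w b0, D.q2 w = 0 ∧ w ≠ 0 ∧
      polar D.q2 w b0 = 0 ∧ D.q2 b0 ≠ 0 ∧ polar D.q2 w x = 0 ∧ polar D.q2 w x' = 0 ∧
      polar D.q2 b0 x = 0 ∧ polar D.q2 b0 x' = 0 := by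
    by_cases hq'' : D.q2 x'' = 0
    · obtain ⟨b0, hb, hqb⟩ := CfsgLib.POmega.exists_aniso_perp D.good2.nd ![x, x'']
        (by rw [Fintype.card_fin]; have := hP.five; omega)
      have hb0x : polar D.q2 b0 x = 0 := by rw [polar_comm]; exact hb 0
      have hb1 : polar D.q2 x'' b0 = 0 := hb 1
      refine ⟨x'', b0, hq'', hx''0, hb1, hqb, hxx, ?_, hb0x, ?_⟩
      · rw [hxe, polar_add_right, polar_smul_right, hxx, polar_self', hq'', mul_zero, smul_zero, add_zero]
      · rw [hxe, polar_add_right, polar_smul_right, hb0x, polar_comm, hb1, smul_zero, add_zero]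
    · have hblk : InBlock D.q2 v (Finset.univ.erase i) x'' := fun j hj => by
        simp only [Finset.mem_erase, Finset.mem_univ, and_true, not_not] at hj
        rw [hj, hvi, hxx]
      obtain ⟨v', k, hk, hvk, hR'⟩ := refr_vec hR.1 _ hblk hq''
      have hki : k ≠ i := (Finset.mem_erase.1 hk).1
      obtain ⟨w, b0, hwS, hbS, hw, hw0, hwb, hb0⟩ := exists_eich_block hR'.1
        (S := (Finset.univ.erase i).erase k)
        (by rw [Finset.card_erase_of_mem hk, Finset.card_erase_of_mem (Finset.mem_univ i), Finset.card_univ,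
              Fintype.card_fin]
            have := hP.five; omega)
      have hv'i : v' i = x := by rw [hR'.2.1 i (Finset.notMem_erase i _), hvi]
      have hout : ∀ {y}, InBlock D.q2 v' ((Finset.univ.erase i).erase k) y →
          polar D.q2 y x = 0 ∧ polar D.q2 y x' = 0 := fun {y} hy => by
        have e1 := hy i (by simp)
        have e2 := hy k (by simp)
        rw [hv'i] at e1
        rw [hvk] at e2
        exact ⟨e1, by rw [hxe, polar_add_right, polar_smul_right, e1, e2, smul_zero, add_zero]⟩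
      exact ⟨w, b0, hw, hw0, hwb, hb0, (hout hwS).1, (hout hwS).2, (hout hbS).1, (hout hbS).2⟩
  obtain ⟨y, hy⟩ : ∃ y, app B y - y = x := by
    obtain ⟨y, hy1, hy2⟩ := CfsgLib.Orth.exists_polar_eq_zero_one D.good2.nd hindep
    refine ⟨(-D.q2 x) • y, ?_⟩
    rw [map_smul, hB, app_mul, app_refl_of_ortho (x := y) (v := x') (by rw [polar_comm]; exact hy1), app_refl,
      polar_comm (f := ⇑D.q2) y x, hy2, mul_one]
    rw [smul_sub, smul_smul, neg_mul, mul_inv_cancel₀ hx]
    module
  have hfixed : ∀ {z}, polar D.q2 z x = 0 → polar D.q2 z x' = 0 → app B z = z := fun h h' => by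
    rw [hB, app_mul, app_refl_of_ortho h', app_refl_of_ortho h]
  have hginv := (Commute.inv_left (show Commute g (D.R B) from hc)).eq
  have hperp : ∀ {z}, app B z = z → ∀ p p', polar q (app g⁻¹ (D.tp p x)) (D.tp p' z) = 0 := by
    intro z hz p p'
    rw [← hy, D.tp_sub_right, ← D.R_tp, map_sub, ← app_mul, hginv, app_mul, polar_sub_left]
    have e : polar q (app (D.R B) (app g⁻¹ (D.tp p y))) (D.tp p' z) = polar q (app g⁻¹ (D.tp p y)) (D.tp p' z) := by
      conv_lhs => rw [← hz, ← D.R_tp, polar_app]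
    rw [e, sub_self]
  refine eich_part hP hR.1 (Finset.singleton_nonempty i)
    (fun z hz hzf => fix_TT hP hR.1 (Finset.singleton_nonempty i) hz hzf) hg hw hw0 hwb hb0 (fun j hj => ?_)
    (fun j hj p p' => ?_)
  · rw [Finset.mem_singleton.1 hj, hvi]
    exact ⟨by rw [polar_comm]; exact hwx, by rw [polar_comm]; exact hbx⟩
  · rw [Finset.mem_singleton.1 hj, hvi]
    exact ⟨hperp (hfixed hwx hwx') p p', hperp (hfixed hbx hbx') p p'⟩

end Data

end CfsgLib.TensorOdd
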