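import Mathlib
import Cfsg.Agent.Lib.TensorOdd.Centre

/-!
A proper overgroup of the tensor stabiliser in `Ω` is contained in it.
-/

set_option autoImplicit false
set_option linter.unusedSectionVars false

namespace CfsgLib.TensorOdd

open Matrix QuadraticMap CfsgLib.Orth

theorem arith_b {a b n m : ℕ} (ha : 3 ≤ a) (hb : 0 < b) (hn : n ≤ a) (hm : m ≤ b)
    (h : (a - n) * (b - m) + n * m = b) : (n = 0 ∨ n = a) ∨ (m = 0 ∧ n = a - 1) ∨ (m = b ∧ n = 1) := by
  obtain ⟨k, rfl⟩ := Nat.exists_eq_add_of_le hn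
  obtain ⟨l, rfl⟩ := Nat.exists_eq_add_of_le hm
  rw [Nat.add_sub_cancel_left, Nat.add_sub_cancel_left] at h
  by_cases hn0 : n = 0
  · exact Or.inl (Or.inl hn0)
  by_cases hk0 : k = 0
  · exact Or.inl (Or.inr (by omega))
  by_cases hk1 : k = 1
  · subst hk1
    right; left
    have h1 := Nat.mul_le_mul_right m (show 2 ≤ n by omega)
    omega
  · right; right
    have h2 := Nat.mul_le_mul_right l (show 2 ≤ k by omega)
    by_cases hn1 : n = 1
    · subst hn1; omega
    · have h3 := Nat.mul_le_mul_right m (show 2 ≤ n by omega)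
      omega

theorem arith_a {a b n m : ℕ} (ha : 3 ≤ a) (hab : a < b) (hn : n ≤ a) (hm : m ≤ b)
    (h : (a - n) * (b - m) + n * m = a) : (n = 0 ∧ m = b - 1) ∨ (n = a ∧ m = 1) := by
  obtain ⟨k, rfl⟩ := Nat.exists_eq_add_of_le hn
  obtain ⟨l, rfl⟩ := Nat.exists_eq_add_of_le hm
  rw [Nat.add_sub_cancel_left, Nat.add_sub_cancel_left] at h
  by_cases hn0 : n = 0
  · subst hn0
    left
    have : k * l = k * 1 := by omega
    have := Nat.eq_of_mul_eq_mul_left (by omega : 0 < k) this
    omega
  by_cases hk0 : k = 0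
  · subst hk0
    right
    have : n * m = n * 1 := by omega
    have := Nat.eq_of_mul_eq_mul_left (by omega : 0 < n) this
    omega
  · have h1 := Nat.le_mul_of_pos_left l (by omega : 0 < k)
    have h2 := Nat.le_mul_of_pos_left m (by omega : 0 < n)
    omega

variable {ι : Type} [Fintype ι] [DecidableEq ι] {F : Type*} [Field F] [Fintype F]

theorem eq_erase {κ : Type} [Fintype κ] [DecidableEq κ] {S : Finset κ} {n : ℕ} (hn : Fintype.card κ = n)
    (hpos : 0 < n) (h : S.card = n - 1) : ∃ l, S = Finset.univ.erase l := by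
  have h1 : Sᶜ.card = 1 := by rw [Finset.card_compl, h, hn]; omega
  obtain ⟨l, hl⟩ := Finset.card_eq_one.1 h1
  refine ⟨l, ?_⟩
  rw [← compl_compl S, hl]
  ext x
  simp

/-- Three admissible vectors with the same image under a map to the reflections of a smaller space. -/
theorem exists_same_refl {μ ν : Type} [Fintype μ] [DecidableEq μ] [Fintype ν] [DecidableEq ν]
    {Q₁ : QuadraticForm F (μ → F)} {Q₂ : QuadraticForm F (ν → F)} (hg : IsGood Q₂)
    (hdim : Fintype.card μ + 2 ≤ Fintype.card ν) (h2 : (2 : F) ≠ 0) {R : (μ → F) → (ν → F) → Prop}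
    (hR : ∀ x, Adm Q₂ x → ∃ w, Q₁ w ≠ 0 ∧ R w x) :
    ∃ x x' w w', Adm Q₂ x ∧ Adm Q₂ x' ∧ Q₂ x' = Q₂ x ∧ x' ≠ x ∧ x' ≠ -x ∧ R w x ∧ R w' x' ∧
      refl Q₁ w = refl Q₁ w' := by
  classical
  obtain ⟨v, hv⟩ := exists_frame hg.nd hg.two
  have hc0 : (∏ i, Q₂ (v i)) ≠ 0 := Finset.prod_ne_zero_iff.2 fun i _ => hv.nz i
  set c0 := ∏ i, Q₂ (v i)
  obtain ⟨k, l, hkl⟩ : ∃ k l : ν, k ≠ l := Fintype.exists_pair_of_one_lt_card (by have := hg.three; omega)
  set K : Finset ν := {k, l}ᶜ with hK
  have hKc : K.card = Fintype.card ν - 2 := by rw [hK, Finset.card_compl, Finset.card_pair hkl]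
  let σ : (K → F) → ν → F := fun z => ∑ i : K, z i • v i
  choose s t hst using fun c : F => CfsgLib.Orth.exists_binary hg.two (hv.nz k) (hv.nz l) c
  let xf : (K → F) → ν → F := fun z => (s (c0 - Q₂ (σ z)) • v k + t (c0 - Q₂ (σ z)) • v l) + σ z
  have hσ : ∀ z, polar Q₂ (σ z) (v k) = 0 ∧ polar Q₂ (σ z) (v l) = 0 ∧
      ∀ j : K, polar Q₂ (σ z) (v j) = z j * (2 * Q₂ (v j)) := by
    intro z
    have e : ∀ y, polar Q₂ (σ z) y = ∑ i : K, z i * polar Q₂ (v i) y := fun y => by
      rw [← polarBilin_apply_apply, map_sum, LinearMap.sum_apply]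
      exact Finset.sum_congr rfl fun i _ => by
        rw [map_smul, LinearMap.smul_apply, polarBilin_apply_apply, smul_eq_mul]
    refine ⟨?_, ?_, fun j => ?_⟩
    · rw [e]
      refine Finset.sum_eq_zero fun i _ => ?_
      have hi : (i : ν) ≠ k ∧ (i : ν) ≠ l := by simpa [hK] using i.2
      rw [hv.orth _ k hi.1, mul_zero]
    · rw [e]
      refine Finset.sum_eq_zero fun i _ => ?_
      have hi : (i : ν) ≠ k ∧ (i : ν) ≠ l := by simpa [hK] using i.2
      rw [hv.orth _ l hi.2, mul_zero]
    · rw [e, Finset.sum_eq_single j]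
      · rw [polar_self']
      · intro i _ hij
        rw [hv.orth _ _ fun h => hij (Subtype.ext h), mul_zero]
      · exact fun h => absurd (Finset.mem_univ j) h
  have hxq : ∀ z, Q₂ (xf z) = c0 := fun z => by
    simp only [xf]
    rw [QuadraticMap.map_add ⇑Q₂, polar_add_left, polar_smul_left, polar_smul_left,
      polar_comm (f := ⇑Q₂) (v k) (σ z), polar_comm (f := ⇑Q₂) (v l) (σ z), (hσ z).1, (hσ z).2.1,
      QuadraticMap.map_add ⇑Q₂ (s _ • v k), QuadraticMap.map_smul, QuadraticMap.map_smul, polar_smul_left,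
      polar_smul_right, hv.orth k l hkl]
    simp only [smul_eq_mul]
    linear_combination hst (c0 - Q₂ (σ z))
  have hxinj : Function.Injective xf := fun z z' h => funext fun j => by
    have hj : (j : ν) ≠ k ∧ (j : ν) ≠ l := by simpa [hK] using j.2
    have e := congrArg (fun y => polar Q₂ y (v j)) h
    simp only [xf, polar_add_left, polar_smul_left, hv.orth k j hj.1.symm, hv.orth l j hj.2.symm, smul_zero,
      zero_add, (hσ z).2.2 j, (hσ z').2.2 j] at e
    exact mul_right_cancel₀ (mul_ne_zero hg.two (hv.nz _)) e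
  have hadm : ∀ z, Adm Q₂ (xf z) := fun z =>
    (adm_iff_frame hg hv (by rw [hxq]; exact hc0)).2 ⟨c0, by rw [hxq]⟩
  choose w hw0 hw using fun z => hR (xf z) (hadm z)
  -- count the reflections
  set N := (Finset.univ : Finset (μ → F)).filter fun y => Q₁ y ≠ 0
  set T := N.image fun y => refl Q₁ y
  have h2T : 2 * T.card ≤ N.card := by
    refine Finset.mul_card_image_le_card (f := fun y => refl Q₁ y) N 2 fun e he => ?_
    obtain ⟨y, hy, rfl⟩ := Finset.mem_image.1 he
    have hy0 := (Finset.mem_filter.1 hy).2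
    have hyne : y ≠ -y := fun h => by
      have h' : (2 : F) • y = 0 := by linear_combination (norm := module) h
      exact hy0 (by rw [(smul_eq_zero.1 h').resolve_left h2, QuadraticMap.map_zero])
    refine (Finset.card_pair hyne).ge.trans (Finset.card_le_card fun p hp => ?_)
    rcases Finset.mem_insert.1 hp with rfl | hp
    · exact Finset.mem_filter.2 ⟨hy, rfl⟩
    · rw [Finset.mem_singleton.1 hp]
      exact Finset.mem_filter.2 ⟨Finset.mem_filter.2 ⟨Finset.mem_univ _, by rwa [QuadraticMap.map_neg]⟩,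
        refl_neg y⟩
  have hcard : T.card * 2 < (Finset.univ : Finset (K → F)).card := by
    have hN : N.card < Fintype.card F ^ Fintype.card μ := by
      rw [← Fintype.card_fun, ← Finset.card_univ]
      refine Finset.card_lt_card ((Finset.ssubset_iff_of_subset (Finset.filter_subset _ _)).2
        ⟨0, Finset.mem_univ _, by simp⟩)
    have hpow : Fintype.card F ^ Fintype.card μ ≤ Fintype.card F ^ K.card :=
      Nat.pow_le_pow_right Fintype.card_pos (by omega)
    rw [Finset.card_univ, Fintype.card_fun, Fintype.card_coe]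
    omega
  obtain ⟨e, -, he⟩ := Finset.exists_lt_card_fiber_of_mul_lt_card_of_maps_to (s := Finset.univ) (t := T)
    (f := fun z => refl Q₁ (w z))
    (fun z _ => Finset.mem_image.2 ⟨w z, Finset.mem_filter.2 ⟨Finset.mem_univ _, hw0 z⟩, rfl⟩) hcard
  set Z := (Finset.univ : Finset (K → F)).filter fun z => refl Q₁ (w z) = e
  obtain ⟨z₁, hz₁⟩ := Finset.card_pos.1 (show 0 < Z.card by omega)
  obtain ⟨z₂, hz₂, hne1, hne2⟩ : ∃ z₂ ∈ Z, z₂ ≠ z₁ ∧ xf z₂ ≠ -xf z₁ := by
    by_contra hno
    push Not at hno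
    have hsub : ∀ z ∈ Z.erase z₁, xf z = -xf z₁ := fun z hz =>
      hno z (Finset.mem_erase.1 hz).2 (Finset.mem_erase.1 hz).1
    have h1 : (Z.erase z₁).card ≤ 1 :=
      Finset.card_le_one.2 fun p hp p' hp' => hxinj ((hsub p hp).trans (hsub p' hp').symm)
    rw [Finset.card_erase_of_mem hz₁] at h1
    omega
  exact ⟨xf z₁, xf z₂, w z₁, w z₂, hadm _, hadm _, (hxq _).trans (hxq _).symm, fun h => hne1 (hxinj h), hne2,
    hw _, hw _, (Finset.mem_filter.1 hz₁).2.trans (Finset.mem_filter.1 hz₂).2.symm⟩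

variable {q : QuadraticForm F (ι → F)} {a b : ℕ}

namespace Data

variable {D : Data q a b} {H : Subgroup (O q)}

theorem mixed_form {u : Fin a → Fin a → F} (hu : IsFrame D.q1 u) {S : Finset (Fin a)} {n : ℕ}
    (hn : S.card = n) (h : n = a - 1) :
    ∃ w, D.q1 w ≠ 0 ∧ blockSign D.q1 u S = negId D.q1 * refl D.q1 w := by
  obtain ⟨l, rfl⟩ := eq_erase (Fintype.card_fin a) (by have := D.three_a; omega) (hn.trans h)
  exact ⟨u l, hu.nz l, blockSign_erase hu l⟩

theorem conj_negId {g : O q} {A : O D.q1} {u : Fin a → F}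
    (h : g * D.L (negId D.q1 * refl D.q1 u) * g⁻¹ = D.L (negId D.q1 * A)) :
    g * D.L (refl D.q1 u) * g⁻¹ = D.L A := by
  rw [map_mul, map_mul, D.L_negId, ← mul_assoc, ← negId_comm g, mul_assoc, mul_assoc] at h
  have := mul_left_cancel h
  rwa [← mul_assoc] at this

theorem conj_negId' {g : O q} {B : O D.q2} {x : Fin b → F}
    (h : g * D.R (negId D.q2 * refl D.q2 x) * g⁻¹ = D.R (negId D.q2 * B)) :
    g * D.R (refl D.q2 x) * g⁻¹ = D.R B := by
  rw [map_mul, map_mul, D.R_negId, ← mul_assoc, ← negId_comm g, mul_assoc, mul_assoc] at h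
  have := mul_left_cancel h
  rwa [← mul_assoc] at this

/-- A proper overgroup is contained in the stabiliser. -/
theorem le_TT (hP : D.Proper H) : H ≤ D.TT := by
  classical
  intro h hh
  have hhI : D.InHT H h := InHT.of_mem hh
  have hb5 := hP.five
  have hcard1 : ∀ S : Finset (Fin a), S.card ≤ a := fun S => by simpa using S.card_le_univ
  have hcard2 : ∀ S : Finset (Fin b), S.card ≤ b := fun S => by simpa using S.card_le_univ
  obtain ⟨u₀, hu₀, hadm₀⟩ := exists_adm_frame D.good1
  obtain ⟨i₀⟩ : Nonempty (Fin a) := Fintype.card_pos_iff.1 (by have := D.three_a; simp; omega)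
  obtain ⟨u, hu, hul⟩ : ∃ u, Adm D.q1 u ∧ u = u₀ i₀ := ⟨_, hadm₀ i₀, rfl⟩
  set t := D.L (negId D.q1 * refl D.q1 u) with ht
  have ht2 : t * t = 1 := by rw [ht, ← map_mul, negId_refl_invol, map_one]
  have htX : t ∈ D.TT ⊓ commutator (O q) := Subgroup.mem_inf.2 ⟨D.L_mem _, D.L_omega hu.2⟩
  set r := h * t * h⁻¹ with hr
  have hrH : r ∈ H := hhI.conj_mem hP.T_le htX
  have hr2 : r * r = 1 := by
    rw [hr, show h * t * h⁻¹ * (h * t * h⁻¹) = h * (t * t) * h⁻¹ by group, ht2, mul_one, mul_inv_cancel]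
  have hdimr : Module.finrank F (fixS r) = b := by rw [hr, finrank_fixS_conj, ht, D.fixdim_L hu.1]
  by_cases hrT : r ∈ D.TT
  · obtain ⟨u', v, S, S', hu', hv, hreq⟩ := D.exists_signs hrT hr2
    have e := hdimr
    rw [hreq, D.fixdim hu' hv] at e
    rcases arith_b D.three_a (by omega) (hcard1 S) (hcard2 S') e with hpure | ⟨hm, hn⟩ | ⟨hm, hn⟩
    · -- `r` lies in the second factor
      obtain ⟨U, hU0, hU1, hrU⟩ : ∃ U : Finset (Fin b), U.Nonempty ∧ U ≠ Finset.univ ∧
          r = D.R (blockSign D.q2 v U) := by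
        rcases hpure with h0 | h0
        · rw [h0, tsub_zero, zero_mul, add_zero] at e
          refine ⟨S', ?_, ?_, by rw [hreq, Finset.card_eq_zero.1 h0, blockSign_empty hu', D.R_eq_ten]⟩
          · rw [Finset.nonempty_iff_ne_empty]
            intro h'
            rw [h', Finset.card_empty, tsub_zero] at e
            have := Nat.mul_le_mul_right b (show 2 ≤ a by have := D.three_a; omega)
            omega
          · intro h'
            rw [h', Finset.card_univ, Fintype.card_fin, Nat.sub_self, mul_zero] at e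
            omega
        · have hS : S = Finset.univ := Finset.eq_univ_of_card _ (by simpa using h0)
          rw [h0, Nat.sub_self, zero_mul, zero_add] at e
          refine ⟨S'ᶜ, ?_, ?_, ?_⟩
          · rw [Finset.nonempty_iff_ne_empty, Ne, Finset.compl_eq_empty_iff]
            intro h'
            rw [h', Finset.card_univ, Fintype.card_fin] at e
            have := Nat.mul_le_mul_right b (show 2 ≤ a by have := D.three_a; omega)
            omega
          · rw [Ne, Finset.compl_eq_univ_iff]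
            intro h'
            rw [h', Finset.card_empty, mul_zero] at e
            omega
          · rw [hreq, hS, blockSign_univ hu', D.R_eq_ten, ← D.ten_neg (negId D.q1), negId_mul_self,
              ← blockSign_univ hv]
            congr 2
            refine hv.ext_O fun j => ?_
            simp only [app_mul, blockSign_app hv, Finset.mem_univ, if_true, Finset.mem_compl]
            by_cases hj : j ∈ S' <;> simp [hj, blockSign_app hv]
      obtain ⟨x₀, hx₀, hadmx⟩ := exists_adm_frame D.good2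
      obtain ⟨j₀⟩ : Nonempty (Fin b) := Fintype.card_pos_iff.1 (by simp; omega)
      set s := D.R (negId D.q2 * refl D.q2 (x₀ j₀)) with hs
      set s' := h * s * h⁻¹ with hs'
      have hs'H : s' ∈ H :=
        hhI.conj_mem hP.T_le (Subgroup.mem_inf.2 ⟨D.R_mem _, D.R_omega (hadmx j₀).2⟩)
      have hst : s * t = t * s := by rw [hs, ht, D.L_R_comm]
      have hs'T : s' ∈ D.TT := pure_sign hP hv hU0 hU1 (InHT.of_mem hs'H) (by
        rw [← hrU, hr, hs', show h * s * h⁻¹ * (h * t * h⁻¹) = h * (s * t) * h⁻¹ by group, hst]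
        group)
      have hs'2 : s' * s' = 1 := by
        rw [hs', show h * s * h⁻¹ * (h * s * h⁻¹) = h * (s * s) * h⁻¹ by group, hs, ← map_mul,
          negId_refl_invol, map_one, mul_one, mul_inv_cancel]
      obtain ⟨u₂, v₂, T, T', hu₂, hv₂, hs'eq⟩ := D.exists_signs hs'T hs'2
      have e' : Module.finrank F (fixS s') = a := by rw [hs', finrank_fixS_conj, hs, D.fixdim_R (hx₀.nz j₀)]
      rw [hs'eq, D.fixdim hu₂ hv₂] at e'
      obtain ⟨y, hy⟩ : ∃ y, s' = D.R (negId D.q2 * refl D.q2 y) := by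
        rcases arith_a D.three_a hP.lt (hcard1 T) (hcard2 T') e' with ⟨hn, hm⟩ | ⟨hn, hm⟩
        · obtain ⟨l, hl⟩ := eq_erase (Fintype.card_fin b) (by omega) hm
          exact ⟨v₂ l, by rw [hs'eq, Finset.card_eq_zero.1 hn, blockSign_empty hu₂, hl, blockSign_erase hv₂,
            D.R_eq_ten]⟩
        · obtain ⟨l, hl⟩ := Finset.card_eq_one.1 hm
          exact ⟨v₂ l, by rw [hs'eq, Finset.eq_univ_of_card T (by simpa using hn), blockSign_univ hu₂, hl,
            blockSign_single, D.R_eq_ten, ← D.ten_neg (negId D.q1), negId_mul_self]⟩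
      obtain ⟨z, hz, hz'⟩ := D.map_refl (hx₀.nz j₀) (conj_negId' (B := refl D.q2 y) (by rw [← hs, ← hs']; exact hy))
      exact aniso_slice hP hhI (hx₀.nz j₀) hz hz'
    · -- a reflection of the first factor
      obtain ⟨w, -, hw⟩ := mixed_form hu' rfl hn
      refine row_refl hP hhI hu.1 (A := refl D.q1 w) (conj_negId ?_)
      rw [← ht, ← hr, hreq, Finset.card_eq_zero.1 hm, blockSign_empty hv, hw, D.L_eq_ten]
    · obtain ⟨l, hl⟩ := Finset.card_eq_one.1 hn
      refine row_refl hP hhI hu.1 (A := refl D.q1 (u' l)) (conj_negId ?_)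
      rw [← ht, ← hr, hreq, Finset.eq_univ_of_card S' (by simpa using hm), blockSign_univ hv, hl,
        blockSign_single, D.L_eq_ten, ← D.ten_neg (refl D.q1 (u' l)), negId_mul_self]
  exfalso
  -- every admissible vector of the second factor
  have main : ∀ x, Adm D.q2 x → ∃ w, D.q1 w ≠ 0 ∧
      r * (D.L (refl D.q1 w) * D.R (refl D.q2 x)) = D.L (refl D.q1 w) * D.R (refl D.q2 x) * r := by
    intro x hx
    set s := D.R (negId D.q2 * refl D.q2 x) with hs
    have hs2 : s * s = 1 := by rw [hs, ← map_mul, negId_refl_invol, map_one]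
    have hsH : s ∈ H := hP.T_le (Subgroup.mem_inf.2 ⟨D.R_mem _, D.R_omega hx.2⟩)
    have hdims : Module.finrank F (fixS s) = a := by rw [hs, D.fixdim_R hx.1]
    obtain ⟨k, hk⟩ : Even (orderOf (s * r)) := by
      rcases Nat.even_or_odd (orderOf (s * r)) with h' | h'
      · exact h'
      · obtain ⟨w, hw⟩ := dihedral_odd hr2 hs2 h'
        have e := finrank_fixS_conj w r
        rw [hw, hdims, hdimr] at e
        exact absurd e hP.lt.ne
    have hk0 : k ≠ 0 := by have := orderOf_pos (s * r); omega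
    set c := (s * r) ^ k with hc
    have hcc : c * c = 1 := by rw [hc, ← pow_add, ← hk, pow_orderOf_eq_one]
    have hc1 : c ≠ 1 := pow_ne_one_of_lt_orderOf hk0 (by omega)
    obtain ⟨hcs, hcr, heven, hodd⟩ := dihedral hr2 hs2 hcc
    rw [← hc] at hcs hcr heven hodd
    have hcH : c ∈ H := H.pow_mem (H.mul_mem hsH hrH) k
    have hcx : c * D.R (refl D.q2 x) = D.R (refl D.q2 x) * c := by
      rw [hs, map_mul, D.R_negId, ← mul_assoc, ← negId_comm c, mul_assoc, mul_assoc] at hcs
      exact mul_left_cancel hcs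
    obtain ⟨u', v, S, S', hu', hv, hceq⟩ := D.exists_signs (comm_slice hP (InHT.of_mem hcH) hx.1 hcx) hcc
    set β := blockSign D.q2 v S' with hβ
    have hβx : β * refl D.q2 x = refl D.q2 x * β := by
      refine D.R_injective ?_
      rw [map_mul, map_mul]
      rw [hceq, D.ten_eq, mul_assoc, ← mul_assoc (D.R (refl D.q2 x)), ← D.L_R_comm, mul_assoc] at hcx
      exact mul_left_cancel hcx
    -- a pure central element is impossible
    have hnotpure : ∀ U, c = D.R (blockSign D.q2 v U) → False := fun U hU => by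
      refine hrT (pure_sign hP hv ?_ ?_ (InHT.of_mem hrH) (hU ▸ hcr.symm))
      · rw [Finset.nonempty_iff_ne_empty]
        intro h'
        exact hc1 (by rw [hU, h', blockSign_empty hv, map_one])
      · intro h'
        refine negId_notMem D.good ?_
        rw [← D.R_negId, ← blockSign_univ hv, ← h', ← hU]
        exact hP.le hcH
    have hSlo : S.card ≠ 0 := fun h0 => hnotpure S' (by
      rw [hceq, hβ, Finset.card_eq_zero.1 h0, blockSign_empty hu', D.R_eq_ten])
    have hShi : S.card ≠ a := fun h0 => hnotpure S'ᶜ (by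
      rw [hceq, hβ, Finset.eq_univ_of_card S (by simpa using h0), blockSign_univ hu', D.R_eq_ten,
        ← D.ten_neg (negId D.q1), negId_mul_self, ← blockSign_univ hv]
      congr 2
      refine hv.ext_O fun j => ?_
      simp only [app_mul, blockSign_app hv, Finset.mem_univ, if_true, Finset.mem_compl]
      by_cases hj : j ∈ S' <;> simp [hj, blockSign_app hv])
    have hBinv : negId D.q2 * refl D.q2 x * β * (negId D.q2 * refl D.q2 x * β) = 1 := by
      have hcomm : β * (negId D.q2 * refl D.q2 x) = negId D.q2 * refl D.q2 x * β := by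
        rw [← mul_assoc, ← negId_comm β, mul_assoc, hβx, mul_assoc]
      calc negId D.q2 * refl D.q2 x * β * (negId D.q2 * refl D.q2 x * β)
          = negId D.q2 * refl D.q2 x * (β * (negId D.q2 * refl D.q2 x)) * β := by group
        _ = (negId D.q2 * refl D.q2 x * (negId D.q2 * refl D.q2 x)) * (β * β) := by rw [hcomm]; group
        _ = 1 := by rw [negId_refl_invol, hβ, blockSign_mul_self hv, one_mul]
    obtain ⟨v₁, hv₁, S'', hS''⟩ := exists_sign D.good2 hBinv
    have hsc : s * c = D.ten (blockSign D.q1 u' S, blockSign D.q2 v₁ S'') := by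
      rw [hs, hceq, D.R_eq_ten, ← map_mul, Prod.mk_mul_mk, one_mul, hS'']
    rcases Nat.even_or_odd k with hke | hko
    · exfalso
      obtain ⟨w, hw⟩ := heven hke
      have e := finrank_fixS_conj w s
      rw [hw, hsc, D.fixdim hu' hv₁, hdims] at e
      rcases arith_a D.three_a hP.lt (hcard1 S) (hcard2 S'') e with ⟨hn, -⟩ | ⟨hn, -⟩
      · exact hSlo hn
      · exact hShi hn
    · obtain ⟨w, hw⟩ := hodd hko
      have e := finrank_fixS_conj w r
      rw [hw, hsc, D.fixdim hu' hv₁, hdimr] at e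
      rcases arith_b D.three_a (by omega) (hcard1 S) (hcard2 S'') e with (hn | hn) | ⟨hm, hn⟩ | ⟨hm, hn⟩
      · exact absurd hn hSlo
      · exact absurd hn hShi
      · obtain ⟨w', hw', hA⟩ := mixed_form hu' rfl hn
        have hβ' : β = negId D.q2 * refl D.q2 x := by
          rw [Finset.card_eq_zero.1 hm, blockSign_empty hv₁] at hS''
          exact (inv_eq_of_mul_eq_one_right hS'').symm.trans (inv_eq_of_mul_eq_one_right (negId_refl_invol x))
        refine ⟨w', hw', ?_⟩
        rw [← D.ten_eq, ← D.ten_neg, ← hA, ← hβ', ← hceq]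
        exact hcr.symm
      · obtain ⟨l, hl⟩ := Finset.card_eq_one.1 hn
        have hβ' : β = refl D.q2 x := by
          rw [Finset.eq_univ_of_card S'' (by simpa using hm), blockSign_univ hv₁, mul_assoc] at hS''
          have := mul_left_cancel (hS''.trans (mul_one _).symm)
          exact ((inv_eq_of_mul_eq_one_right this).symm.trans (refl_inv x))
        refine ⟨u' l, hu'.nz l, ?_⟩
        rw [← D.ten_eq, ← hβ', ← blockSign_single (Q := D.q1) (v := u') l, ← hl, ← hceq]
        exact hcr.symm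
  obtain ⟨x, x', w, w', hx, hx', hq, h1, h2, hR, hR', hsame⟩ := exists_same_refl (Q₁ := D.q1) D.good2
    (R := fun w x => r * (D.L (refl D.q1 w) * D.R (refl D.q2 x)) = D.L (refl D.q1 w) * D.R (refl D.q2 x) * r)
    (by
      obtain ⟨k, hk⟩ := D.odd_a
      obtain ⟨l, hl⟩ := D.odd_b
      have := hP.lt
      rw [Fintype.card_fin, Fintype.card_fin]
      omega)
    D.good1.two main
  refine hrT (pair_centraliser hP (InHT.of_mem hrH) hx.1 hq h1 h2 ?_)
  rw [← hsame] at hR'
  have e : D.R (refl D.q2 x * refl D.q2 x') =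
      D.L (refl D.q1 w) * D.R (refl D.q2 x) * (D.L (refl D.q1 w) * D.R (refl D.q2 x')) := by
    rw [D.L_R_comm (refl D.q1 w) (refl D.q2 x), mul_assoc (D.R _) (D.L _), ← mul_assoc (D.L _) (D.L _),
      ← map_mul D.L, refl_mul_self, map_one, one_mul, map_mul]
  rw [e, ← mul_assoc, hR, mul_assoc, hR', ← mul_assoc]

end Data

end CfsgLib.TensorOdd
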