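import Mathlib
import Cfsg.Agent.Lib.TensorOdd.Main
import Cfsg.Agent.Lib.GeomClasses.OrthPair
import Cfsg.Agent.Lib.TensorMax63.Slice

/-!
The stabiliser in `Ω` of a tensor decomposition into two orthogonal spaces of distinct odd dimensions is
maximal.
-/

set_option autoImplicit false
set_option linter.unusedSectionVars false

namespace CfsgLib.TensorOdd

open Matrix QuadraticMap CfsgLib.Orth CfsgLib.Maximal.TensorTools
open scoped Kronecker

variable {ι : Type} [Fintype ι] [DecidableEq ι] {F : Type*} [Field F] [Fintype F] {a b : ℕ}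

/-- The quadratic form of a multiple of a symmetric form. -/
theorem exists_quad {n : ℕ} (h2 : (2 : F) ≠ 0) {c : F} (hc : c ≠ 0) {f : (Fin n → F) → (Fin n → F) → F}
    (hf : Cfsg.Geo.IsSymmetricForm f) :
    ∃ Q : QuadraticForm F (Fin n → F), Q.polarBilin.Nondegenerate ∧ ∀ x y, polar Q x y = c * f x y := by
  let B : (Fin n → F) →ₗ[F] (Fin n → F) →ₗ[F] F := LinearMap.mk₂ F (fun x y => c / 2 * f x y)
    (fun x y z => by rw [hf.bilinear.add_left]; ring)
    (fun t x y => by rw [hf.bilinear.smul_left, smul_eq_mul]; ring)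
    (fun x y z => by rw [hf.bilinear.add_right]; ring)
    (fun t x y => by rw [hf.bilinear.smul_right, smul_eq_mul]; ring)
  have hp : ∀ x y, polar (LinearMap.BilinMap.toQuadraticMap B) x y = c * f x y := fun x y => by
    rw [LinearMap.BilinMap.polar_toQuadraticMap]
    show c / 2 * f x y + c / 2 * f y x = _
    rw [hf.symm y x]
    field_simp
    ring
  refine ⟨LinearMap.BilinMap.toQuadraticMap B, ⟨fun x h => ?_, fun x h => ?_⟩, hp⟩
  · by_contra hx
    obtain ⟨y, hy⟩ := (hf.nondegenerate x hx).2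
    have := h y
    rw [polarBilin_apply_apply, hp] at this
    exact mul_ne_zero hc hy this
  · by_contra hx
    obtain ⟨y, hy⟩ := (hf.nondegenerate x hx).1
    have := h y
    rw [polarBilin_apply_apply, hp] at this
    exact mul_ne_zero hc hy this

variable {q : QuadraticForm F (ι → F)}

namespace Data

variable (D : Data q a b)

/-- The pure tensor as a bilinear map. -/
def tpB : (Fin a → F) →ₗ[F] (Fin b → F) →ₗ[F] (ι → F) :=
  LinearMap.mk₂ F D.tp D.tp_add_left D.tp_smul_left D.tp_add_right D.tp_smul_right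

theorem span_tp : Submodule.span F (Set.range fun p : (Fin a → F) × (Fin b → F) => D.tpB p.1 p.2) = ⊤ := by
  refine top_unique ?_
  rw [← ((Pi.basisFun F (Fin a × Fin b)).map D.E).span_eq, Submodule.span_le]
  rintro _ ⟨p, rfl⟩
  refine Submodule.subset_span ⟨(Pi.single p.1 1, Pi.single p.2 1), ?_⟩
  rw [Module.Basis.map_apply, Pi.basisFun_apply]
  exact D.tp_single p.1 p.2

/-- The setting of the slice lemma. -/
def setting (hab : a < b) (hbig : 5 ≤ Fintype.card F ∨ 5 ≤ a) (h7 : 7 ≤ Fintype.card ι) :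
    CfsgLib.TensorMax63.Setting q D.q1 D.q2 where
  τ := D.tpB
  two := D.good.two
  nd := D.good.nd
  nd₁ := D.good1.nd
  nd₂ := D.good2.nd
  odd₁ := by have := D.good1.odd; simpa using this
  odd₂ := by have := D.good2.odd; simpa using this
  three := by have := D.good1.three; simpa using this
  lt := hab
  seven := h7
  big := hbig
  polar_τ := D.polar_tp
  span := D.span_tp

theorem setting_T (hab : a < b) (hbig : 5 ≤ Fintype.card F ∨ 5 ≤ a) (h7 : 7 ≤ Fintype.card ι) :
    (D.setting hab hbig h7).T = D.TT := by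
  have e : (D.setting hab hbig h7).emb = D.ten := MonoidHom.ext fun p => D.ext_tp_O fun u v =>
    ((D.setting hab hbig h7).app_emb p u v).trans (D.ten_tp p.1 p.2 u v).symm
  show (D.setting hab hbig h7).emb.range = D.ten.range
  rw [e]

/-- A proper overgroup satisfies the slice condition. -/
theorem proper_of_lt (hab : a < b) (hbig : 5 ≤ Fintype.card F ∨ 5 ≤ a) (h7 : 7 ≤ Fintype.card ι)
    {M : Subgroup (O q)} (hle : M ≤ commutator (O q)) (hT : D.TT ⊓ commutator (O q) ≤ M)
    (hne : ¬ commutator (O q) ≤ M) : D.Proper M := by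
  classical
  refine ⟨hle, hT, hab, fun g hg w hw hw0 v hv => ?_⟩
  have hX := D.setting_T hab hbig h7
  have hO : (D.setting hab hbig h7).Over M :=
    ⟨(le_of_eq (by rw [← hX]; rfl)).trans hT, hle, hne⟩
  rw [← hX]
  exact (D.setting hab hbig h7).slice hO hw hw0 hg hv

/-- Some element of `Ω` does not preserve the decomposition. -/
theorem exists_not_TT : ∃ g ∈ commutator (O q), g ∉ D.TT := by
  obtain ⟨u, hu⟩ := exists_frame D.good1.nd D.good1.two
  obtain ⟨v, hv⟩ := exists_frame D.good2.nd D.good2.two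
  obtain ⟨j0, j1, hj⟩ : ∃ j0 j1 : Fin b, j0 ≠ j1 :=
    Fintype.exists_pair_of_one_lt_card (by have := D.three_b; simp; omega)
  obtain ⟨j2, hj2⟩ := Finset.card_pos.1 (show 0 < ((Finset.univ.erase j0).erase j1).card by
    rw [Finset.card_erase_of_mem (by simp [hj.symm]), Finset.card_erase_of_mem (Finset.mem_univ _),
      Finset.card_univ, Fintype.card_fin]
    have := D.three_b; omega)
  simp only [Finset.mem_erase, Finset.mem_univ, and_true] at hj2
  obtain ⟨i0⟩ : Nonempty (Fin a) := Fintype.card_pos_iff.1 (by have := D.three_a; simp; omega)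
  obtain ⟨u', i1, hi1, hq, hR⟩ := refr_value hu (S := Finset.univ.erase i0)
    (by rw [Finset.card_erase_of_mem (Finset.mem_univ _), Finset.card_univ, Fintype.card_fin]
        have := D.three_a; omega)
    (div_ne_zero (mul_ne_zero (hu.nz i0) (hv.nz j0)) (hv.nz j1))
  have hi10 : i1 ≠ i0 := (Finset.mem_erase.1 hi1).1
  have hi0 : u' i0 = u i0 := hR.2.1 i0 (Finset.notMem_erase i0 _)
  obtain ⟨i2, hi2⟩ := Finset.card_pos.1 (show 0 < ((Finset.univ.erase i0).erase i1).card by
    rw [Finset.card_erase_of_mem hi1, Finset.card_erase_of_mem (Finset.mem_univ _), Finset.card_univ,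
      Fintype.card_fin]
    have := D.three_a; omega)
  simp only [Finset.mem_erase, Finset.mem_univ, and_true] at hi2
  set x := D.tp (u' i0) (v j0)
  set y := D.tp (u' i1) (v j1)
  have hx : q x ≠ 0 := by rw [D.Q_tp]; exact mul_ne_zero (mul_ne_zero D.good.two (hR.1.nz _)) (hv.nz _)
  have hxy : q x = q y := by
    rw [D.Q_tp, D.Q_tp, hq, hi0]
    have := hv.nz j1
    field_simp
  refine ⟨refl q x * refl q y, pair_mem D.good hx hxy, fun hT => ?_⟩
  have hfix : ∀ z, polar q z x = 0 → polar q z y = 0 → app (refl q x * refl q y) z = z := fun z h h' => by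
    rw [app_mul, app_refl_of_ortho h', app_refl_of_ortho h]
  obtain ⟨B, -, hB⟩ := D.eq_R_of_fix hT (hv.li.ne_zero j2) fun z => hfix _
    (by rw [D.polar_tp, hv.orth _ _ hj2.2, mul_zero]) (by rw [D.polar_tp, hv.orth _ _ hj2.1, mul_zero])
  have hBj : app B (v j0) = v j0 := D.tp_right_cancel (hR.1.li.ne_zero i2) (by
    rw [← D.R_tp, ← hB]
    exact hfix _ (by rw [D.polar_tp, hR.1.orth _ _ hi2.2, zero_mul])
      (by rw [D.polar_tp, hR.1.orth _ _ hi2.1, zero_mul]))
  have e : app (refl q x * refl q y) x = -x := by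
    rw [app_mul, app_refl_of_ortho (x := x) (v := y) (by rw [D.polar_tp, hv.orth _ _ hj, mul_zero]),
      app_refl_self hx]
  rw [hB, D.R_tp, hBj] at e
  have h2 : (2 : F) • x = 0 := by linear_combination (norm := module) e
  exact hx (by rw [(smul_eq_zero.1 h2).resolve_left D.good.two, QuadraticMap.map_zero])

/-- The stabiliser is maximal in `Ω`. -/
theorem maximal (hab : a < b) (hbig : 5 ≤ Fintype.card F ∨ 5 ≤ a) (h7 : 7 ≤ Fintype.card ι) :
    Cfsg.Geo.IsMaximalIn (commutator (O q)) (D.TT ⊓ commutator (O q)) := by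
  obtain ⟨g, hg, hgT⟩ := D.exists_not_TT
  refine ⟨lt_of_le_of_ne inf_le_right fun h => hgT ((Subgroup.mem_inf.1 (h.symm ▸ hg)).1), fun M h1 h2 => ?_⟩
  by_cases hM : commutator (O q) ≤ M
  · exact Or.inr (le_antisymm h2 hM)
  · exact Or.inl (le_antisymm (le_inf (le_TT (D.proper_of_lt hab hbig h7 h2 h1 hM)) h2) h1)

end Data

/-- The tensor product stabiliser is maximal in `Ω` for odd distinct dimensions. -/
theorem isMaximalIn_tensor {Q : (ι → F) → F} (hQ : Cfsg.Geo.IsNondegenerateQuadraticForm Q)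
    (h2 : (2 : F) ≠ 0) (hodd : Odd (Fintype.card ι)) (h1 : 3 ≤ a) (hab : a < b)
    (hbig : 5 ≤ Fintype.card F ∨ 5 ≤ a) (e : ι ≃ Fin a × Fin b) (P : GL ι F)
    {f₁ : (Fin a → F) → (Fin a → F) → F} {f₂ : (Fin b → F) → (Fin b → F) → F}
    (hf₁ : Cfsg.Geo.IsSymmetricForm f₁) (hf₂ : Cfsg.Geo.IsSymmetricForm f₂)
    (hT : Cfsg.Geo.IsTensorFormStructure id (QuadraticMap.polar Q) f₁ f₂ e P) :
    Cfsg.Geo.IsMaximalIn (Cfsg.Geo.omegaGL Q)
      (Cfsg.Geo.tensorProductSubgroup a b e P ⊓ Cfsg.Geo.omegaGL Q) := by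
  classical
  obtain ⟨c, hc, hform⟩ := tensor_form_pure hf₁.bilinear hf₂.bilinear hT
  obtain ⟨q1, hq1, hp1⟩ := exists_quad h2 hc hf₁
  obtain ⟨q2, hq2, hp2⟩ := exists_quad h2 (one_ne_zero (α := F)) hf₂
  have hcard : Fintype.card ι = a * b := by simpa using Fintype.card_congr e
  have hoddab := hodd
  rw [hcard, Nat.odd_mul] at hoddab
  have hb5 : 5 ≤ b := by obtain ⟨k, hk⟩ := hoddab.2; omega
  have h15 : 15 ≤ Fintype.card ι := by rw [hcard]; exact Nat.mul_le_mul h1 hb5
  set D : Data (quadOf hQ) a b :=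
    { q1 := q1
      q2 := q2
      E := coord e P
      polar_E := fun u v u' v' => by
        rw [hp1, hp2, one_mul]
        refine (hform u v u' v').trans ?_
        ring
      good1 := ⟨hq1, h2, by simpa using hoddab.1, by simpa using h1, by simpa using hbig.symm⟩
      good2 := ⟨hq2, h2, by simpa using hoddab.2, by rw [Fintype.card_fin]; omega, Or.inl (by simpa using hb5)⟩
      good := ⟨CfsgLib.GeomClasses.OrthTools.quadOf_nondegenerate hQ, h2, hodd, by omega, Or.inl (by omega)⟩ } with hD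
  have hTT : (Cfsg.Geo.tensorProductSubgroup a b e P).comap (O (quadOf hQ)).subtype = D.TT := by
    ext g
    constructor
    · intro hg
      obtain ⟨α, β, hαβ⟩ := exists_factors (Subgroup.mem_comap.1 hg)
      let φ : (Fin a → F) →ₗ[F] (Fin a → F) := Matrix.mulVecLin (α : Matrix (Fin a) (Fin a) F)
      let ψ : (Fin b → F) →ₗ[F] (Fin b → F) := Matrix.mulVecLin (β : Matrix (Fin b) (Fin b) F)
      let ψ' : (Fin b → F) →ₗ[F] (Fin b → F) := Matrix.mulVecLin ((β⁻¹ : GL (Fin b) F) : Matrix (Fin b) (Fin b) F)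
      have hg' : ∀ u v, app g (D.tp u v) = D.tp (φ u) (ψ v) := hαβ
      have hpol : ∀ u v u' v', polar D.q1 (φ u) (φ u') * polar D.q2 (ψ v) (ψ v') =
          polar D.q1 u u' * polar D.q2 v v' := fun u v u' v' => by
        rw [← D.polar_tp, ← hg', ← hg', polar_app, D.polar_tp]
      obtain ⟨u0, hu0⟩ := D.exists_anis
      obtain ⟨v0, hv0⟩ := exists_anisotropic D.good2.nd (by have := D.good2.three; omega)
      have hψ0 : D.q2 (ψ v0) ≠ 0 := fun h0 => by
        have e := hpol u0 v0 u0 v0
        rw [polar_self', polar_self', polar_self', polar_self', h0, mul_zero, mul_zero] at e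
        exact mul_ne_zero (mul_ne_zero h2 hu0) (mul_ne_zero h2 hv0) e.symm
      obtain ⟨ν, A, hν, hν2, hA⟩ := CfsgLib.TensorMax63.similitude D.good1.nd h2 D.odd_a
        (div_ne_zero hv0 hψ0) φ fun u u' => by
          have e := hpol u v0 u' v0
          rw [polar_self', polar_self'] at e
          field_simp
          apply mul_left_cancel₀ h2
          linear_combination e
      have hQψ : ∀ v, D.q2 ((ν • ψ) v) = D.q2 v := fun v => by
        have e := hpol u0 v u0 v
        rw [polar_self', polar_self', polar_self', polar_self'] at e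
        rw [hA, QuadraticMap.map_smul, Q_app, smul_eq_mul] at e
        rw [LinearMap.smul_apply, QuadraticMap.map_smul, smul_eq_mul]
        apply mul_left_cancel₀ (mul_ne_zero (mul_ne_zero h2 hu0) h2)
        linear_combination e
      refine D.mem_TT.2 ⟨A, mkO (ν • ψ) (ν⁻¹ • ψ') (LinearMap.ext fun x => ?_) (LinearMap.ext fun x => ?_) hQψ,
        D.ext_tp_O fun u v => ?_⟩
      · simp [ψ, ψ', smul_smul, hν, Matrix.mulVec_mulVec, ← Units.val_mul]
      · simp [ψ, ψ', smul_smul, hν, Matrix.mulVec_mulVec, ← Units.val_mul]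
      · rw [hg', D.ten_tp, app_mkO, hA, LinearMap.smul_apply, D.tp_smul_left, D.tp_smul_right]
    · intro hg
      obtain ⟨A, B, rfl⟩ := D.mem_TT.1 hg
      rw [Subgroup.mem_comap]
      set G : GL ι F := (O (quadOf hQ)).subtype (D.ten (A, B))
      let k : GL (Fin a × Fin b) F :=
        ⟨((A : GL (Fin a) F) : Matrix (Fin a) (Fin a) F) ⊗ₖ ((B : GL (Fin b) F) : Matrix (Fin b) (Fin b) F),
          (((A : GL (Fin a) F)⁻¹ : GL (Fin a) F) : Matrix (Fin a) (Fin a) F) ⊗ₖ
            (((B : GL (Fin b) F)⁻¹ : GL (Fin b) F) : Matrix (Fin b) (Fin b) F),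
          by rw [← Matrix.mul_kronecker_mul]; simp, by rw [← Matrix.mul_kronecker_mul]; simp⟩
      have hGk : G = MulAut.conj P (Cfsg.Geo.glReindex e.symm k) := by
        refine Units.ext (Matrix.toLin'.injective (D.ext_tp fun u v => ?_))
        rw [Matrix.toLin'_apply, Matrix.toLin'_apply]
        show app (D.ten (A, B)) (D.tp u v) = _
        refine (D.ten_tp A B u v).trans ?_
        show coord e P (pure (app A u) (app B v)) = _
        rw [show D.tp u v = coord e P (pure u v) from rfl, conj_reindex_mulVec]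
        exact congrArg (coord e P) (kronecker_mulVec_pure _ _ u v).symm
      rw [hGk]
      exact ⟨_, ⟨k, ⟨_, _, rfl⟩, rfl⟩, rfl⟩
  refine CfsgLib.GeomClasses.OrthPair.maximal_transport hQ ?_
  rw [hTT]
  exact D.maximal hab hbig (by omega)

end CfsgLib.TensorOdd
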